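/-
Determinants of the matrices commuting with a given matrix `x`, and realisation of `x` over a subfield, both
deduced from the rational canonical form.

* `exists_commute` : prescribed determinants on the blocks.
* `exists_commute_det_of_squarefree` : `x` annihilated by a squarefree polynomial (`F` finite): every non-zero `c`
  is the determinant of an invertible matrix commuting with `x`.
* `exists_descent` : if the monic divisors of an annihilating polynomial of `x` have coefficients in `F₀`, then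
  `x` is similar over `F` to a matrix over `F₀`.
* `conj_sl_of_gl` : adjusting the determinant of a conjugating matrix.
-/
import Mathlib
import Cfsg.Prelude.Def_GeometricClasses
import Cfsg.Agent.H953.Rcf

set_option autoImplicit false

namespace Cfsg.Agent.H953

open Polynomial

universe u

variable {F : Type u} [Field F] {ι : Type*} [Fintype ι] [DecidableEq ι]

theorem monic_of_pow {g : F[X]} (h : ∃ (q : F[X]) (m : ℕ), q.Monic ∧ Irreducible q ∧ 0 < m ∧ g = q ^ m) : g.Monic := by
  obtain ⟨q, m, hq, -, -, rfl⟩ := h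
  exact hq.pow m

theorem aeval_comm {κ : Type*} [Fintype κ] [DecidableEq κ] (M : Matrix κ κ F) (h : F[X]) :
    aeval M h * M = M * aeval M h := by
  have h1 : aeval M (h * X) = aeval M (X * h) := by rw [mul_comm]
  rwa [map_mul, map_mul, aeval_X] at h1

theorem exists_commute {x : Matrix ι ι F} {d : ℕ} {g : Fin d → F[X]}
    {e : (Σ i : Fin d, Fin (g i).natDegree) ≃ ι} {P : GL ι F}
    (hx : x * (P : Matrix ι ι F) = (P : Matrix ι ι F) * Matrix.reindex e e (Matrix.blockDiagonal' fun i => comp (g i)))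
    (h : Fin d → F[X]) :
    ∃ A : Matrix ι ι F, A * x = x * A ∧ A.det = ∏ i, (aeval (comp (g i)) (h i)).det := by
  set B := Matrix.blockDiagonal' (fun i => aeval (comp (g i)) (h i)) with hB
  set D := Matrix.blockDiagonal' (fun i => comp (g i)) with hD
  have hcom : B * D = D * B := by
    rw [hB, hD, ← Matrix.blockDiagonal'_mul, ← Matrix.blockDiagonal'_mul]
    congr 1
    funext i
    have h1 : comp (g i) = aeval (comp (g i)) (X : F[X]) := by rw [aeval_X]
    exact aeval_comm (comp (g i)) (h i)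
  have hx' : x = (P : Matrix ι ι F) * Matrix.reindex e e D * ((P⁻¹ : GL ι F) : Matrix ι ι F) := by
    rw [← hx, mul_assoc, ← Units.val_mul, mul_inv_cancel, Units.val_one, mul_one]
  have hr : Matrix.reindex e e B * Matrix.reindex e e D = Matrix.reindex e e D * Matrix.reindex e e B := by
    rw [Matrix.reindex_apply, Matrix.reindex_apply, Matrix.submatrix_mul_equiv, Matrix.submatrix_mul_equiv, hcom]
  have hPP : ((P⁻¹ : GL ι F) : Matrix ι ι F) * (P : Matrix ι ι F) = 1 := by
    rw [← Units.val_mul, inv_mul_cancel, Units.val_one]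
  have hPP' : (P : Matrix ι ι F) * ((P⁻¹ : GL ι F) : Matrix ι ι F) = 1 := by
    rw [← Units.val_mul, mul_inv_cancel, Units.val_one]
  refine ⟨(P : Matrix ι ι F) * Matrix.reindex e e B * ((P⁻¹ : GL ι F) : Matrix ι ι F), ?_, ?_⟩
  · rw [hx']
    calc (P : Matrix ι ι F) * Matrix.reindex e e B * ((P⁻¹ : GL ι F) : Matrix ι ι F) *
          ((P : Matrix ι ι F) * Matrix.reindex e e D * ((P⁻¹ : GL ι F) : Matrix ι ι F))
        = (P : Matrix ι ι F) * Matrix.reindex e e B * (((P⁻¹ : GL ι F) : Matrix ι ι F) *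
          (P : Matrix ι ι F)) * Matrix.reindex e e D * ((P⁻¹ : GL ι F) : Matrix ι ι F) := by
          simp only [mul_assoc]
      _ = (P : Matrix ι ι F) * (Matrix.reindex e e B * Matrix.reindex e e D) * ((P⁻¹ : GL ι F) : Matrix ι ι F) := by
          rw [hPP, mul_one]; simp only [mul_assoc]
      _ = (P : Matrix ι ι F) * Matrix.reindex e e D * (((P⁻¹ : GL ι F) : Matrix ι ι F) *
          (P : Matrix ι ι F)) * Matrix.reindex e e B * ((P⁻¹ : GL ι F) : Matrix ι ι F) := by
          rw [hPP, mul_one, hr]; simp only [mul_assoc]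
      _ = _ := by simp only [mul_assoc]
  · rw [Matrix.det_mul, Matrix.det_mul, Matrix.det_reindex_self, hB, det_blockDiagonal', mul_comm, ← mul_assoc,
      ← Matrix.det_mul, hPP, Matrix.det_one, one_mul]

theorem exists_commute_single {x : Matrix ι ι F} {d : ℕ} {g : Fin d → F[X]}
    {e : (Σ i : Fin d, Fin (g i).natDegree) ≃ ι} {P : GL ι F}
    (hx : x * (P : Matrix ι ι F) = (P : Matrix ι ι F) * Matrix.reindex e e (Matrix.blockDiagonal' fun i => comp (g i)))
    (i : Fin d) (h : F[X]) :
    ∃ A : Matrix ι ι F, A * x = x * A ∧ A.det = (aeval (comp (g i)) h).det := by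
  obtain ⟨A, hA, hdet⟩ := exists_commute hx (fun j => if j = i then h else 1)
  refine ⟨A, hA, ?_⟩
  rw [hdet, Finset.prod_eq_single i]
  · simp
  · intro j _ hj; simp [hj]
  · intro h; exact absurd (Finset.mem_univ _) h

/-- Scaling one block. -/
theorem exists_commute_scale {x : Matrix ι ι F} {d : ℕ} {g : Fin d → F[X]}
    {e : (Σ i : Fin d, Fin (g i).natDegree) ≃ ι} {P : GL ι F}
    (hx : x * (P : Matrix ι ι F) = (P : Matrix ι ι F) * Matrix.reindex e e (Matrix.blockDiagonal' fun i => comp (g i)))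
    (i : Fin d) (c : F) :
    ∃ A : Matrix ι ι F, A * x = x * A ∧ A.det = c ^ (g i).natDegree := by
  obtain ⟨A, hA, hdet⟩ := exists_commute_single hx i (C c)
  refine ⟨A, hA, ?_⟩
  rw [hdet, aeval_C, Algebra.algebraMap_eq_smul_one, Matrix.det_smul, Matrix.det_one, mul_one, Fintype.card_fin]

/-- A block attached to an irreducible polynomial contributes all determinants. -/
theorem exists_commute_irreducible [Finite F] {x : Matrix ι ι F} {d : ℕ} {g : Fin d → F[X]}
    {e : (Σ i : Fin d, Fin (g i).natDegree) ≃ ι} {P : GL ι F}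
    (hx : x * (P : Matrix ι ι F) = (P : Matrix ι ι F) * Matrix.reindex e e (Matrix.blockDiagonal' fun i => comp (g i)))
    (i : Fin d) (hm : (g i).Monic) (hi : Irreducible (g i)) (c : F) :
    ∃ A : Matrix ι ι F, A * x = x * A ∧ A.det = c := by
  have : Fact (Irreducible (g i)) := ⟨hi⟩
  have : Module.Finite F (AdjoinRoot (g i)) := (AdjoinRoot.powerBasis' hm).finite
  have : Finite (AdjoinRoot (g i)) := Module.finite_of_finite F
  obtain ⟨y, hy⟩ := FiniteField.norm_surjective F (AdjoinRoot (g i)) c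
  obtain ⟨h, rfl⟩ := AdjoinRoot.mk_surjective y
  obtain ⟨A, hA, hdet⟩ := exists_commute_single hx i h
  exact ⟨A, hA, by rw [hdet, det_aeval_comp hm, hy]⟩

omit [Fintype ι] [DecidableEq ι] in
theorem exists_index [Nonempty ι] {d : ℕ} {g : Fin d → F[X]} (e : (Σ i : Fin d, Fin (g i).natDegree) ≃ ι) :
    ∃ i : Fin d, 0 < (g i).natDegree := by
  obtain ⟨a⟩ := ‹Nonempty ι›
  exact ⟨(e.symm a).1, (e.symm a).2.pos⟩

omit [DecidableEq ι] in
theorem sum_natDegree {d : ℕ} {g : Fin d → F[X]} (e : (Σ i : Fin d, Fin (g i).natDegree) ≃ ι) :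
    ∑ i, (g i).natDegree = Fintype.card ι := by
  rw [← Fintype.card_congr e, Fintype.card_sigma]
  simp

/-- If `x` is annihilated by a squarefree polynomial and `F` is finite, every element of `F` is the determinant of
a matrix commuting with `x`. -/
theorem exists_commute_det_of_squarefree [Finite F] [Nonempty ι] (x : Matrix ι ι F) (f : F[X]) (hf : Squarefree f)
    (hx : aeval x f = 0) (c : F) : ∃ A : Matrix ι ι F, A * x = x * A ∧ A.det = c := by
  obtain ⟨d, g, e, P, hg, hann, hxP⟩ := exists_rcf x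
  obtain ⟨i, -⟩ := exists_index e
  have hdvd := (hann f).mp hx i
  obtain ⟨q, m, hq, hirr, hm, hgi⟩ := hg i
  have hsq : Squarefree (q ^ m) := hgi ▸ hf.squarefree_of_dvd hdvd
  have hm1 : m = 1 := by
    rcases (Nat.lt_or_ge m 2) with h | h
    · omega
    · exfalso
      have := hsq q ((pow_two q ▸ pow_dvd_pow q h))
      exact hirr.not_isUnit this
  refine exists_commute_irreducible hxP i (monic_of_pow (hg i)) ?_ c
  rw [hgi, hm1, pow_one]; exact hirr

/-- **Descent to a subfield.** If every monic divisor of a polynomial annihilating `x` has coefficients in the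
subfield `F₀`, then `x` is similar to a matrix with entries in `F₀`. -/
theorem exists_descent (F₀ : Subfield F) (x : Matrix ι ι F) (f : F[X])
    (hx : aeval x f = 0) (hdiv : ∀ g : F[X], g.Monic → g ∣ f → ∀ m, g.coeff m ∈ F₀) :
    ∃ (P : GL ι F) (y : Matrix ι ι F₀), x * (P : Matrix ι ι F) = (P : Matrix ι ι F) * y.map F₀.subtype := by
  obtain ⟨d, g, e, P, hg, hann, hxP⟩ := exists_rcf x
  have hdvd := (hann f).mp hx
  have hmem : ∀ a b, (Matrix.reindex e e (Matrix.blockDiagonal' fun i => comp (g i))) a b ∈ F₀ := by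
    intro a b
    rw [Matrix.reindex_apply, Matrix.submatrix_apply, Matrix.blockDiagonal'_apply]
    split_ifs with h
    · rw [comp, Matrix.of_apply]
      split_ifs
      · exact neg_mem (hdiv _ (monic_of_pow (hg _)) (hdvd _) _)
      · exact one_mem _
      · exact zero_mem _
    · exact zero_mem _
  refine ⟨P, Matrix.of fun a b => ⟨_, hmem a b⟩, ?_⟩
  rw [hxP]
  congr 1

/-! ### Conjugation by matrices of determinant one -/

section Conj

variable {n : ℕ}

/-- If `x` is conjugate by `Q` into `H`, and determinants can be adjusted by an element `A` commuting with `x`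
and an element `B` of `H`, then `x` is conjugate into `H` by a matrix of determinant one. -/
theorem conj_sl_of_gl' (H : Subgroup (GL (Fin n) F)) (x : Matrix.SpecialLinearGroup (Fin n) F) (Q B : GL (Fin n) F)
    (A : Matrix (Fin n) (Fin n) F)
    (hA : A * (x : Matrix (Fin n) (Fin n) F) = (x : Matrix (Fin n) (Fin n) F) * A) (hB : B ∈ H)
    (hdet : A.det * (Q : Matrix (Fin n) (Fin n) F).det * (B : Matrix (Fin n) (Fin n) F).det = 1)
    (hQ : Q⁻¹ * (Matrix.SpecialLinearGroup.toGL x) * Q ∈ H) :
    ∃ P : Matrix.SpecialLinearGroup (Fin n) F, P⁻¹ * x * P ∈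
      H.comap (Matrix.SpecialLinearGroup.toGL : Matrix.SpecialLinearGroup (Fin n) F →* GL (Fin n) F) := by
  have hA0 : A.det ≠ 0 := by
    intro h; rw [h, zero_mul, zero_mul] at hdet; exact zero_ne_one hdet
  let A' : GL (Fin n) F := Matrix.GeneralLinearGroup.mkOfDetNeZero A hA0
  have hA' : A' * Matrix.SpecialLinearGroup.toGL x = Matrix.SpecialLinearGroup.toGL x * A' := by
    apply Units.ext
    exact hA
  let P : Matrix.SpecialLinearGroup (Fin n) F :=
    ⟨A * (Q : Matrix (Fin n) (Fin n) F) * (B : Matrix (Fin n) (Fin n) F), by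
      rw [Matrix.det_mul, Matrix.det_mul]; exact hdet⟩
  have hP : Matrix.SpecialLinearGroup.toGL P = A' * Q * B := by
    apply Units.ext
    rfl
  refine ⟨P, ?_⟩
  rw [Subgroup.mem_comap, map_mul, map_mul, map_inv, hP]
  have : (A' * Q * B)⁻¹ * Matrix.SpecialLinearGroup.toGL x * (A' * Q * B) =
      B⁻¹ * (Q⁻¹ * (Matrix.SpecialLinearGroup.toGL x) * Q) * B := by
    have h1 : A'⁻¹ * Matrix.SpecialLinearGroup.toGL x * A' = Matrix.SpecialLinearGroup.toGL x := by
      rw [mul_assoc, ← hA', inv_mul_cancel_left]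
    calc (A' * Q * B)⁻¹ * Matrix.SpecialLinearGroup.toGL x * (A' * Q * B)
        = B⁻¹ * (Q⁻¹ * (A'⁻¹ * Matrix.SpecialLinearGroup.toGL x * A') * Q) * B := by group
      _ = _ := by rw [h1]
  rw [this]
  exact H.mul_mem (H.mul_mem (H.inv_mem hB) hQ) hB

/-- If every non-zero scalar is the determinant of a matrix commuting with `x`, conjugacy into `H` under the general
linear group implies conjugacy into `H` under the special linear group. -/
theorem conj_sl_of_gl (H : Subgroup (GL (Fin n) F)) (x : Matrix.SpecialLinearGroup (Fin n) F)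
    (hdet : ∀ c : F, ∃ A : Matrix (Fin n) (Fin n) F,
      A * (x : Matrix (Fin n) (Fin n) F) = (x : Matrix (Fin n) (Fin n) F) * A ∧ A.det = c)
    (Q : GL (Fin n) F) (hQ : Q⁻¹ * (Matrix.SpecialLinearGroup.toGL x) * Q ∈ H) :
    ∃ P : Matrix.SpecialLinearGroup (Fin n) F, P⁻¹ * x * P ∈
      H.comap (Matrix.SpecialLinearGroup.toGL : Matrix.SpecialLinearGroup (Fin n) F →* GL (Fin n) F) := by
  obtain ⟨A, hA, hd⟩ := hdet ((Q : Matrix (Fin n) (Fin n) F).det)⁻¹
  refine conj_sl_of_gl' H x Q 1 A hA H.one_mem ?_ hQ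
  rw [hd, Units.val_one, Matrix.det_one, mul_one, inv_mul_cancel₀]
  exact (Matrix.isUnits_det_units Q).ne_zero

/-- Membership in the subfield group. -/
theorem mem_subfield_iff (F₀ : Subfield F) (g : GL (Fin n) F) :
    g ∈ Cfsg.Geo.subfieldSubgroup F₀ 1 ↔
      ∃ (y : GL (Fin n) F₀) (c : Fˣ), (g : Matrix (Fin n) (Fin n) F) =
        (c : F) • (y : Matrix (Fin n) (Fin n) F₀).map F₀.subtype := by
  unfold Cfsg.Geo.subfieldSubgroup
  rw [map_one]
  change g ∈ Subgroup.map (MonoidHom.id _) _ ↔ _
  rw [Subgroup.map_id, Subgroup.mem_sup_of_normal_right]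
  constructor
  · rintro ⟨a, ⟨y, rfl⟩, b, hb, rfl⟩
    obtain ⟨c, hc⟩ := (Cfsg.Geo.mem_scalars_iff b).mp hb
    refine ⟨y, c, ?_⟩
    rw [Units.val_mul, hc, Matrix.mul_smul, mul_one]
    rfl
  · rintro ⟨y, c, h⟩
    refine ⟨Matrix.GeneralLinearGroup.map F₀.subtype y, ⟨y, rfl⟩,
      Units.map (Matrix.scalar (Fin n) : F →+* Matrix (Fin n) (Fin n) F).toMonoidHom c, ⟨c, rfl⟩, ?_⟩
    apply Units.ext
    rw [Units.val_mul, h]
    have : ((Units.map (Matrix.scalar (Fin n) : F →+* Matrix (Fin n) (Fin n) F).toMonoidHom c : GL (Fin n) F) :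
        Matrix (Fin n) (Fin n) F) = (c : F) • (1 : Matrix (Fin n) (Fin n) F) := by
      simp [Matrix.smul_one_eq_diagonal]
    rw [this, Matrix.mul_smul, mul_one]
    rfl

end Conj

end Cfsg.Agent.H953
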