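/-
Indices in `SL(n, F)` of the subfield groups: if a prime `r` different from the characteristic divides the index
of the group of type `GL_n(q₀)` in `SL_n(q)`, `q = q₀ ^ k`, then `r ∣ q₀ ^ (j k) - 1` for some `2 ≤ j ≤ n` such
that `r = k` whenever `r ∣ q₀ ^ j - 1`.
-/
import Mathlib
import Cfsg.Prelude.Def_GeometricClasses
import Cfsg.Agent.ClassicalGeometry.PSL2Basic
import Cfsg.Agent.H953.Cent

set_option autoImplicit false

namespace Cfsg.Agent.H953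

open Finset

theorem prod_sub_pow (Q n : ℕ) :
    ∏ i : Fin n, (Q ^ n - Q ^ (i : ℕ)) = Q ^ (∑ i ∈ range n, i) * ∏ j ∈ Icc 1 n, (Q ^ j - 1) := by
  rw [Fin.prod_univ_eq_prod_range (fun i => Q ^ n - Q ^ i) n]
  have h1 : ∀ i ∈ range n, Q ^ n - Q ^ i = Q ^ i * (Q ^ (n - i) - 1) := by
    intro i hi
    rw [Nat.mul_sub, mul_one, ← pow_add, Nat.add_sub_cancel' (mem_range.mp hi).le]
  rw [prod_congr rfl h1, prod_mul_distrib, prod_pow_eq_pow_sum]
  congr 1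
  refine Finset.prod_nbij' (fun i => n - i) (fun j => n - j) ?_ ?_ ?_ ?_ ?_
  · intro i hi; rw [mem_range] at hi; rw [mem_Icc]; omega
  · intro i hi; rw [mem_Icc] at hi; rw [mem_range]; omega
  · intro i hi; rw [mem_range] at hi; omega
  · intro i hi; rw [mem_Icc] at hi; omega
  · intro i _; rfl

/-- The order of `SL_n(q)`, `n ≥ 1`. -/
theorem card_SL {K : Type*} [Field K] [Fintype K] (n : ℕ) (hn : 1 ≤ n) :
    Nat.card (Matrix.SpecialLinearGroup (Fin n) K) =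
      Fintype.card K ^ (∑ i ∈ range n, i) * ∏ j ∈ Icc 2 n, (Fintype.card K ^ j - 1) := by
  have : Nonempty (Fin n) := ⟨⟨0, hn⟩⟩
  have h := ClassicalGeometry.PSL2Basic.card_SL_mul (n := Fin n) (F := K)
  rw [Matrix.card_GL_field, prod_sub_pow] at h
  have h2 : ∏ j ∈ Icc 1 n, (Fintype.card K ^ j - 1) = (∏ j ∈ Icc 2 n, (Fintype.card K ^ j - 1)) * (Fintype.card K - 1) := by
    rw [← Finset.mul_prod_Ioc_eq_prod_Icc hn, pow_one, mul_comm]
    rfl
  rw [h2, ← mul_assoc] at h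
  have hq : 0 < Fintype.card K - 1 := Nat.sub_pos_of_lt Fintype.one_lt_card
  exact Nat.eq_of_mul_eq_mul_right hq h

/-- The homomorphism `SL_n(F₀) → SL_n(F)`. -/
theorem map_le_comap {F : Type*} [Field F] (F₀ : Subfield F) (n : ℕ) :
    (Matrix.SpecialLinearGroup.map (n := Fin n) F₀.subtype).range ≤
      ((Cfsg.Geo.subfieldSubgroup F₀ 1).comap
        (Matrix.SpecialLinearGroup.toGL : Matrix.SpecialLinearGroup (Fin n) F →* GL (Fin n) F)) := by
  rintro _ ⟨y, rfl⟩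
  rw [Subgroup.mem_comap, mem_subfield_iff]
  refine ⟨Matrix.SpecialLinearGroup.toGL y, 1, ?_⟩
  rw [Units.val_one, one_smul]
  rfl

theorem sum_pow_mod {r Q k : ℕ} (h : r ∣ Q - 1) (hQ : 1 ≤ Q) (h2 : r ∣ ∑ i ∈ range k, Q ^ i) : r ∣ k := by
  have h1 : Q ≡ 1 [MOD r] := ((Nat.modEq_iff_dvd' hQ).mpr h).symm
  have h3 : ∑ i ∈ range k, Q ^ i ≡ ∑ i ∈ range k, 1 [MOD r] := by
    refine Nat.ModEq.sum fun i _ => ?_
    simpa using h1.pow i
  rw [sum_const, card_range, smul_eq_mul, mul_one] at h3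
  exact (h3.dvd_iff dvd_rfl).mp h2

/-- A prime `r ≠ p` dividing the index of the subfield group. -/
theorem exists_of_dvd_index {F : Type*} [Field F] [Fintype F] {p : ℕ} [Fact p.Prime] [CharP F p]
    (n : ℕ) (hn : 2 ≤ n) (F₀ : Subfield F) (k q₀ : ℕ) (hF₀ : Nat.card ↥F₀ = q₀) (hqk : Fintype.card F = q₀ ^ k)
    (hk : k.Prime) (r : ℕ) (hr : r.Prime) (hrp : r ≠ p)
    (hΩ : r ∣ ((Cfsg.Geo.subfieldSubgroup F₀ 1).comap
      (Matrix.SpecialLinearGroup.toGL : Matrix.SpecialLinearGroup (Fin n) F →* GL (Fin n) F)).index) :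
    ∃ j, 2 ≤ j ∧ j ≤ n ∧ r ∣ q₀ ^ (j * k) - 1 ∧ (r ∣ q₀ ^ j - 1 → r = k) := by
  classical
  have : Fintype F₀ := Fintype.ofFinite F₀
  have hq₀ : Fintype.card F₀ = q₀ := by rw [← hF₀, Nat.card_eq_fintype_card]
  have hq₀1 : 1 < q₀ := hq₀ ▸ Fintype.one_lt_card
  set R := (Matrix.SpecialLinearGroup.map (n := Fin n) F₀.subtype).range with hR
  have h1 : r ∣ R.index := hΩ.trans (Subgroup.index_dvd_of_le (map_le_comap F₀ n))
  have hinj : Function.Injective (Matrix.SpecialLinearGroup.map (n := Fin n) F₀.subtype) := by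
    intro a b hab
    apply Subtype.ext
    have h2 := congrArg (fun z : Matrix.SpecialLinearGroup (Fin n) F => (z : Matrix (Fin n) (Fin n) F)) hab
    exact Matrix.map_injective (F₀.subtype_injective) h2
  have hRc : Nat.card R = Nat.card (Matrix.SpecialLinearGroup (Fin n) F₀) :=
    (Nat.card_congr (MonoidHom.ofInjective hinj).toEquiv).symm
  have h2 := R.card_mul_index
  rw [hRc, card_SL n (by omega), card_SL n (by omega), hq₀, hqk] at h2
  -- factor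
  set S : ℕ → ℕ := fun j => ∑ i ∈ range k, (q₀ ^ j) ^ i with hS
  have hfac : ∀ j, (q₀ ^ k) ^ j - 1 = (q₀ ^ j - 1) * S j := by
    intro j
    rw [hS]
    have hone : 1 ≤ q₀ ^ j := Nat.one_le_pow _ _ (by omega)
    have := Nat.geomSum_eq (m := q₀ ^ j)
    zify [hone, Nat.one_le_pow j (q₀ ^ k) (Nat.pow_pos (by omega))]
    rw [mul_geom_sum, ← pow_mul, ← pow_mul, mul_comm]
  simp only [hfac] at h2
  rw [prod_mul_distrib] at h2
  have hpos : 0 < ∏ j ∈ Icc 2 n, (q₀ ^ j - 1) := by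
    refine prod_pos fun j hj => ?_
    rw [mem_Icc] at hj
    exact Nat.sub_pos_of_lt (Nat.one_lt_pow (by omega) hq₀1)
  have h3 : q₀ ^ (∑ i ∈ range n, i) * R.index = (q₀ ^ k) ^ (∑ i ∈ range n, i) * ∏ j ∈ Icc 2 n, S j := by
    apply Nat.eq_of_mul_eq_mul_right hpos
    calc q₀ ^ (∑ i ∈ range n, i) * R.index * ∏ j ∈ Icc 2 n, (q₀ ^ j - 1)
        = q₀ ^ (∑ i ∈ range n, i) * (∏ j ∈ Icc 2 n, (q₀ ^ j - 1)) * R.index := by ring
      _ = _ := by rw [h2]; ring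
  have h4 : r ∣ (q₀ ^ k) ^ (∑ i ∈ range n, i) * ∏ j ∈ Icc 2 n, S j := h3 ▸ Dvd.dvd.mul_left h1 _
  have hrq : ¬ r ∣ q₀ := by
    intro h
    have hrF : r ∣ Fintype.card F := hqk ▸ dvd_pow h hk.ne_zero
    obtain ⟨m, -, hm⟩ := FiniteField.card F p
    rw [hm] at hrF
    exact hrp ((Nat.prime_dvd_prime_iff_eq hr (Fact.out)).mp (hr.dvd_of_dvd_pow hrF))
  rcases (Nat.Prime.dvd_mul hr).mp h4 with h5 | h5
  · exact absurd (hr.dvd_of_dvd_pow (hr.dvd_of_dvd_pow h5)) hrq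
  · obtain ⟨j, hj, hrj⟩ := (hr.prime.dvd_finset_prod_iff _).mp h5
    rw [mem_Icc] at hj
    refine ⟨j, hj.1, hj.2, ?_, ?_⟩
    · rw [mul_comm j k, pow_mul, hfac]
      exact Dvd.dvd.mul_left hrj _
    · intro h
      have := sum_pow_mod h (Nat.one_le_pow _ _ (by omega)) hrj
      exact (Nat.prime_dvd_prime_iff_eq hr hk).mp this

end Cfsg.Agent.H953
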