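/-
Symplectic forms on `F ^ n` and their similarity groups.

* `exists_symplectic_basis` : a nondegenerate alternating form has a symplectic basis.
* `transport` : an element conjugate into the similarity group of `f` preserves another symplectic form up to a scalar.
* `exists_std` : `f (S u) (S v) = b (u, v)` for the standard form.
* `exists_odd_of_dvd_index` : a prime `r ≠ p` dividing the index of the similarity group in `SL_n(q)` divides
  `q ^ j - 1` for some odd `j < n`.
-/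
import Mathlib
import Cfsg.Prelude.Def_GeometricClasses
import Cfsg.Agent.S0752
import Cfsg.Agent.S0245
import Cfsg.Agent.H953.Index

set_option autoImplicit false

namespace Cfsg.Agent.H953

open Cfsg.Geo

section Basis

variable {F V : Type*} [Field F] [AddCommGroup V] [Module F V] [FiniteDimensional F V]

theorem exists_symplectic_basis (B : LinearMap.BilinForm F V) (hA : B.IsAlt) (hnd : ∀ u, (∀ v, B u v = 0) → u = 0) :
    ∃ (m : ℕ) (b : Module.Basis (Fin m ⊕ Fin m) F V),
      (∀ i j, B (b (Sum.inl i)) (b (Sum.inr j)) = if i = j then 1 else 0) ∧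
      (∀ i j, B (b (Sum.inl i)) (b (Sum.inl j)) = 0) ∧ (∀ i j, B (b (Sum.inr i)) (b (Sum.inr j)) = 0) := by
  obtain ⟨m, k, b, h1, h2, h3, h4⟩ := S0752.result B hA
  have hk : k = 0 := by
    by_contra hk
    have := hnd _ (h4 ⟨0, Nat.pos_of_ne_zero hk⟩)
    exact b.ne_zero _ this
  subst hk
  refine ⟨m, b.reindex (Equiv.sumEmpty _ _), ?_, ?_, ?_⟩
  · intro i j; simpa using h1 i j
  · intro i j; simpa using h2 i j
  · intro i j; simpa using h3 i j

theorem even_finrank_of_alt (B : LinearMap.BilinForm F V) (hA : B.IsAlt) (hnd : ∀ u, (∀ v, B u v = 0) → u = 0) :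
    Even (Module.finrank F V) := by
  obtain ⟨m, b, -⟩ := exists_symplectic_basis B hA hnd
  rw [Module.finrank_eq_card_basis b, Fintype.card_sum, Fintype.card_fin]
  exact ⟨m, rfl⟩

end Basis

section Form

variable {F : Type*} [Field F] {ι : Type} [Fintype ι] [DecidableEq ι]

/-- The bilinear form attached to a symplectic form given as a function. -/
def toBil {f : (ι → F) → (ι → F) → F} (hf : IsSymplecticForm f) : LinearMap.BilinForm F (ι → F) :=
  LinearMap.mk₂ F f hf.bilinear.add_left hf.bilinear.smul_left hf.bilinear.add_right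
    (fun c m n => hf.bilinear.smul_right c m n)

omit [Fintype ι] [DecidableEq ι] in
theorem toBil_apply {f : (ι → F) → (ι → F) → F} (hf : IsSymplecticForm f) (u v : ι → F) : toBil hf u v = f u v := rfl

omit [Fintype ι] [DecidableEq ι] in
theorem toBil_isAlt {f : (ι → F) → (ι → F) → F} (hf : IsSymplecticForm f) : (toBil hf).IsAlt := hf.alternating

omit [Fintype ι] [DecidableEq ι] in
theorem toBil_nd {f : (ι → F) → (ι → F) → F} (hf : IsSymplecticForm f) (u : ι → F) (h : ∀ v, toBil hf u v = 0) : u = 0 := by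
  by_contra hu
  obtain ⟨-, v, hv⟩ := hf.nondegenerate u hu
  exact hv (h v)

/-- Transport of structure. -/
theorem transport {n : ℕ} {f : (Fin n → F) → (Fin n → F) → F} (hf : IsSymplecticForm f)
    (x P : Matrix.SpecialLinearGroup (Fin n) F)
    (h : P⁻¹ * x * P ∈ (Cfsg.Geo.similarityGroup f).comap
      (Matrix.SpecialLinearGroup.toGL : Matrix.SpecialLinearGroup (Fin n) F →* GL (Fin n) F)) :
    ∃ (f' : (Fin n → F) → (Fin n → F) → F) (c : F), IsSymplecticForm f' ∧ c ≠ 0 ∧
      ∀ u v, f' ((x : Matrix (Fin n) (Fin n) F).mulVec u) ((x : Matrix (Fin n) (Fin n) F).mulVec v) = c * f' u v := by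
  obtain ⟨c, hc⟩ := h
  set Q : Matrix (Fin n) (Fin n) F := ((P⁻¹ : Matrix.SpecialLinearGroup (Fin n) F) : Matrix (Fin n) (Fin n) F) with hQ
  have hPQ : (P : Matrix (Fin n) (Fin n) F) * Q = 1 := by
    rw [hQ, ← Matrix.SpecialLinearGroup.coe_mul, mul_inv_cancel]; rfl
  have hQP : Q * (P : Matrix (Fin n) (Fin n) F) = 1 := by
    rw [hQ, ← Matrix.SpecialLinearGroup.coe_mul, inv_mul_cancel]; rfl
  have hinj : ∀ v, Q.mulVec v = 0 → v = 0 := by
    intro v hv
    have := congrArg (fun u => (P : Matrix (Fin n) (Fin n) F).mulVec u) hv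
    simpa [Matrix.mulVec_mulVec, hPQ] using this
  refine ⟨fun u v => f (Q.mulVec u) (Q.mulVec v), c, ⟨⟨?_, ?_, ?_, ?_⟩, ?_, ?_, ?_⟩, c.ne_zero, ?_⟩
  · intro x y v; simp only [Matrix.mulVec_add]; exact hf.bilinear.add_left _ _ _
  · intro c x v; simp only [Matrix.mulVec_smul]; exact hf.bilinear.smul_left _ _ _
  · intro v x y; simp only [Matrix.mulVec_add]; exact hf.bilinear.add_right _ _ _
  · intro c v x; simp only [Matrix.mulVec_smul]; exact hf.bilinear.smul_right _ _ _
  · intro v w; exact hf.skew _ _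
  · intro v; exact hf.alternating _
  · intro v hv
    have hv' : Q.mulVec v ≠ 0 := fun h => hv (hinj v h)
    obtain ⟨⟨a, ha⟩, ⟨b, hb⟩⟩ := hf.nondegenerate _ hv'
    refine ⟨⟨(P : Matrix (Fin n) (Fin n) F).mulVec a, ?_⟩, ⟨(P : Matrix (Fin n) (Fin n) F).mulVec b, ?_⟩⟩
    · change f (Q.mulVec ((P : Matrix (Fin n) (Fin n) F).mulVec a)) (Q.mulVec v) ≠ 0
      rw [Matrix.mulVec_mulVec, hQP, Matrix.one_mulVec]; exact ha
    · change f (Q.mulVec v) (Q.mulVec ((P : Matrix (Fin n) (Fin n) F).mulVec b)) ≠ 0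
      rw [Matrix.mulVec_mulVec, hQP, Matrix.one_mulVec]; exact hb
  · intro u v
    have h1 := hc (Q.mulVec u) (Q.mulVec v)
    have h2 : ((Matrix.SpecialLinearGroup.toGL (P⁻¹ * x * P) : GL (Fin n) F) : Matrix (Fin n) (Fin n) F) =
        Q * (x : Matrix (Fin n) (Fin n) F) * (P : Matrix (Fin n) (Fin n) F) := rfl
    rw [h2, Matrix.mulVec_mulVec, Matrix.mulVec_mulVec] at h1
    have h3 : Q * (x : Matrix (Fin n) (Fin n) F) * (P : Matrix (Fin n) (Fin n) F) * Q = Q * (x : Matrix (Fin n) (Fin n) F) := by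
      rw [mul_assoc, hPQ, mul_one]
    rw [h3] at h1
    simp only [Matrix.mulVec_mulVec]
    exact h1

/-- The standard form on `F ^ (Fin m ⊕ Fin m)`. -/
def stdForm (m : ℕ) (F : Type*) [Field F] (u v : Fin m ⊕ Fin m → F) : F :=
  ∑ i, (u (Sum.inl i) * v (Sum.inr i) - u (Sum.inr i) * v (Sum.inl i))

/-- A symplectic form in coordinates. -/
theorem exists_std {n : ℕ} {f : (Fin n → F) → (Fin n → F) → F} (hf : IsSymplecticForm f) :
    ∃ (m : ℕ) (e : Fin m ⊕ Fin m ≃ Fin n) (S : GL (Fin n) F), ∀ u v : Fin n → F,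
      f ((S : Matrix (Fin n) (Fin n) F).mulVec u) ((S : Matrix (Fin n) (Fin n) F).mulVec v) =
        stdForm m F (u ∘ e) (v ∘ e) := by
  obtain ⟨m, b, h1, h2, h3⟩ := exists_symplectic_basis (F := F) (V := Fin n → F) (toBil hf) (toBil_isAlt hf) (toBil_nd hf)
  have hcard : Fintype.card (Fin m ⊕ Fin m) = Fintype.card (Fin n) := by
    rw [← Module.finrank_eq_card_basis b, Module.finrank_fintype_fun_eq_card]
  let e : Fin m ⊕ Fin m ≃ Fin n := Fintype.equivOfCardEq hcard
  let b' := b.reindex e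
  let St := Pi.basisFun F (Fin n)
  let S : GL (Fin n) F := ⟨St.toMatrix b', b'.toMatrix St, by simp, by simp⟩
  refine ⟨m, e, S, ?_⟩
  intro u v
  have hS : ∀ u : Fin n → F, (S : Matrix (Fin n) (Fin n) F).mulVec u = ∑ a, u (e a) • b a := by
    intro u
    have h4 : (S : Matrix (Fin n) (Fin n) F).mulVec u = ∑ j, u j • b' j := by
      funext i
      change (St.toMatrix b').mulVec u i = _
      have h5 : (∑ j, u j • b' j) i = ∑ j, u j * b' j i := by
        rw [Finset.sum_apply]; rfl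
      have h6 : (St.toMatrix b').mulVec u i = ∑ j, b' j i * u j := rfl
      rw [h5, h6]
      exact Finset.sum_congr rfl fun j _ => mul_comm _ _
    rw [h4, ← Equiv.sum_comp e]
    refine Finset.sum_congr rfl fun a _ => ?_
    simp [b']
  rw [hS, hS, ← toBil_apply hf]
  have h1' : ∀ i j, toBil hf (b (Sum.inr i)) (b (Sum.inl j)) = if i = j then -1 else 0 := by
    intro i j
    have := hf.skew (b (Sum.inr i)) (b (Sum.inl j))
    rw [toBil_apply, this, ← toBil_apply hf, h1]
    split_ifs with h5 h6 h6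
    · rfl
    · exact absurd h5.symm h6
    · exact absurd h6.symm h5
    · simp
  simp only [map_add, LinearMap.add_apply, map_sum, LinearMap.sum_apply, map_smul, LinearMap.smul_apply, Fintype.sum_sum_type, h1, h2, h3, h1',
    smul_eq_mul, mul_zero, Finset.sum_const_zero, zero_add, add_zero, mul_ite, mul_one,
    Finset.mem_univ, if_true, Finset.sum_ite_eq', mul_neg]
  unfold stdForm
  rw [Finset.sum_sub_distrib, Finset.sum_neg_distrib, neg_add_eq_sub]
  simp only [Function.comp_apply]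
  congr 1
  · exact Finset.sum_congr rfl fun i _ => mul_comm _ _
  · exact Finset.sum_congr rfl fun i _ => mul_comm _ _

/-- Elements of the similarity group from matrices preserving the standard form up to a scalar. -/
theorem mem_similarity {n m : ℕ} {f : (Fin n → F) → (Fin n → F) → F} {e : Fin m ⊕ Fin m ≃ Fin n} {S : GL (Fin n) F}
    (hS : ∀ u v : Fin n → F,
      f ((S : Matrix (Fin n) (Fin n) F).mulVec u) ((S : Matrix (Fin n) (Fin n) F).mulVec v) =
        stdForm m F (u ∘ e) (v ∘ e)) (M : GL (Fin n) F) (c : F) (hc : c ≠ 0)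
    (hM : ∀ u v : Fin n → F, stdForm m F (((M : Matrix (Fin n) (Fin n) F).mulVec u) ∘ e)
      (((M : Matrix (Fin n) (Fin n) F).mulVec v) ∘ e) = c * stdForm m F (u ∘ e) (v ∘ e)) :
    S * M * S⁻¹ ∈ similarityGroup f := by
  refine ⟨Units.mk0 c hc, fun u v => ?_⟩
  have h1 : ((S * M * S⁻¹ : GL (Fin n) F) : Matrix (Fin n) (Fin n) F) = (S : Matrix (Fin n) (Fin n) F) *
      (M : Matrix (Fin n) (Fin n) F) * ((S⁻¹ : GL (Fin n) F) : Matrix (Fin n) (Fin n) F) := rfl
  set Si : Matrix (Fin n) (Fin n) F := ((S⁻¹ : GL (Fin n) F) : Matrix (Fin n) (Fin n) F) with hSi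
  have hSS : (S : Matrix (Fin n) (Fin n) F) * Si = 1 := by rw [hSi, ← Units.val_mul, mul_inv_cancel, Units.val_one]
  have h2 : ∀ w : Fin n → F, ((S : Matrix (Fin n) (Fin n) F) * (M : Matrix (Fin n) (Fin n) F) * Si).mulVec w =
      (S : Matrix (Fin n) (Fin n) F).mulVec ((M : Matrix (Fin n) (Fin n) F).mulVec (Si.mulVec w)) := by
    intro w; rw [Matrix.mulVec_mulVec, Matrix.mulVec_mulVec, mul_assoc]
  rw [h1, h2, h2, hS, hM, ← hS, Matrix.mulVec_mulVec, Matrix.mulVec_mulVec, hSS, Matrix.one_mulVec, Matrix.one_mulVec]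
  rfl

/-- The preservation of the standard form in terms of Mathlib's symplectic group. -/
theorem stdForm_eq (m : ℕ) (u v : Fin m ⊕ Fin m → F) : stdForm m F u v = - (u ⬝ᵥ (Matrix.J (Fin m) F).mulVec v) := by
  have h1 : (Matrix.J (Fin m) F).mulVec v = Sum.elim (fun i => - v (Sum.inr i)) (fun i => v (Sum.inl i)) := by
    unfold Matrix.J
    rw [Matrix.fromBlocks_mulVec]
    congr 1
    · funext i; simp [Matrix.neg_mulVec]
    · funext i; simp
  rw [h1, dotProduct, Fintype.sum_sum_type]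
  unfold stdForm
  simp only [Sum.elim_inl, Sum.elim_inr, mul_neg, Finset.sum_neg_distrib, Finset.sum_sub_distrib]
  ring

theorem stdForm_mulVec {m : ℕ} {M : Matrix (Fin m ⊕ Fin m) (Fin m ⊕ Fin m) F}
    (hM : M ∈ Matrix.symplecticGroup (Fin m) F) (u v : Fin m ⊕ Fin m → F) :
    stdForm m F (M.mulVec u) (M.mulVec v) = stdForm m F u v := by
  rw [stdForm_eq, stdForm_eq, Matrix.mulVec_mulVec, Matrix.dotProduct_mulVec, Matrix.dotProduct_mulVec,
    Matrix.vecMul_mulVec, ← mul_assoc, SymplecticGroup.mem_iff'.mp hM]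

theorem reindex_mulVec_comp {n m : ℕ} (e : Fin m ⊕ Fin m ≃ Fin n) (M : Matrix (Fin m ⊕ Fin m) (Fin m ⊕ Fin m) F)
    (u : Fin n → F) : ((Matrix.reindexAlgEquiv F F e M).mulVec u) ∘ e = M.mulVec (u ∘ e) := by
  funext a
  change ∑ j, M (e.symm (e a)) (e.symm j) * u j = ∑ b, M a b * u (e b)
  rw [Equiv.symm_apply_apply, ← Equiv.sum_comp e]
  simp

/-- The embedding of the symplectic group. -/
def spEmb {n m : ℕ} (e : Fin m ⊕ Fin m ≃ Fin n) (S : GL (Fin n) F) :
    Matrix.symplecticGroup (Fin m) F →* Matrix.SpecialLinearGroup (Fin n) F where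
  toFun M := ⟨(S : Matrix (Fin n) (Fin n) F) * Matrix.reindexAlgEquiv F F e M.1 * ((S⁻¹ : GL (Fin n) F) : Matrix (Fin n) (Fin n) F), by
    have h1 : (Matrix.reindexAlgEquiv F F e M.1).det = 1 := by
      rw [Matrix.det_reindexAlgEquiv]; exact SymplecticGroup.det_eq_one M.2
    have h2 : (S : Matrix (Fin n) (Fin n) F).det * ((S⁻¹ : GL (Fin n) F) : Matrix (Fin n) (Fin n) F).det = 1 := by
      rw [← Matrix.det_mul, ← Units.val_mul, mul_inv_cancel, Units.val_one, Matrix.det_one]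
    rw [Matrix.det_mul, Matrix.det_mul, h1, mul_one, h2]⟩
  map_one' := by
    apply Subtype.ext
    change (S : Matrix (Fin n) (Fin n) F) * Matrix.reindexAlgEquiv F F e 1 * ((S⁻¹ : GL (Fin n) F) : Matrix (Fin n) (Fin n) F) = 1
    rw [map_one, mul_one, ← Units.val_mul, mul_inv_cancel, Units.val_one]
  map_mul' M N := by
    apply Subtype.ext
    change (S : Matrix (Fin n) (Fin n) F) * Matrix.reindexAlgEquiv F F e (M.1 * N.1) * ((S⁻¹ : GL (Fin n) F) : Matrix (Fin n) (Fin n) F) =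
      (S : Matrix (Fin n) (Fin n) F) * Matrix.reindexAlgEquiv F F e M.1 * ((S⁻¹ : GL (Fin n) F) : Matrix (Fin n) (Fin n) F) *
      ((S : Matrix (Fin n) (Fin n) F) * Matrix.reindexAlgEquiv F F e N.1 * ((S⁻¹ : GL (Fin n) F) : Matrix (Fin n) (Fin n) F))
    have h2 : ((S⁻¹ : GL (Fin n) F) : Matrix (Fin n) (Fin n) F) * (S : Matrix (Fin n) (Fin n) F) = 1 := by
      rw [← Units.val_mul, inv_mul_cancel, Units.val_one]
    have h3 : ∀ A B C D E : Matrix (Fin n) (Fin n) F, D * A = 1 → A * B * D * (A * C * E) = A * (B * C) * E := by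
      intro A B C D E h
      calc A * B * D * (A * C * E) = A * B * (D * A) * C * E := by simp only [mul_assoc]
        _ = _ := by rw [h, mul_one]; simp only [mul_assoc]
    rw [h3 _ _ _ _ _ h2, map_mul]

theorem spEmb_injective {n m : ℕ} (e : Fin m ⊕ Fin m ≃ Fin n) (S : GL (Fin n) F) :
    Function.Injective (spEmb e S) := by
  intro M N h
  have h1 : (S : Matrix (Fin n) (Fin n) F) * Matrix.reindexAlgEquiv F F e M.1 * ((S⁻¹ : GL (Fin n) F) : Matrix (Fin n) (Fin n) F) =
      (S : Matrix (Fin n) (Fin n) F) * Matrix.reindexAlgEquiv F F e N.1 * ((S⁻¹ : GL (Fin n) F) : Matrix (Fin n) (Fin n) F) :=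
    congrArg Subtype.val h
  have h2 : ((S⁻¹ : GL (Fin n) F) : Matrix (Fin n) (Fin n) F) * (S : Matrix (Fin n) (Fin n) F) = 1 := by
    rw [← Units.val_mul, inv_mul_cancel, Units.val_one]
  have h3 := congrArg (fun A => ((S⁻¹ : GL (Fin n) F) : Matrix (Fin n) (Fin n) F) * A * (S : Matrix (Fin n) (Fin n) F)) h1
  have h4 : ∀ B : Matrix (Fin n) (Fin n) F, ((S⁻¹ : GL (Fin n) F) : Matrix (Fin n) (Fin n) F) *
      ((S : Matrix (Fin n) (Fin n) F) * B * ((S⁻¹ : GL (Fin n) F) : Matrix (Fin n) (Fin n) F)) * (S : Matrix (Fin n) (Fin n) F) = B := by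
    intro B
    calc _ = (((S⁻¹ : GL (Fin n) F) : Matrix (Fin n) (Fin n) F) * (S : Matrix (Fin n) (Fin n) F)) * B *
          (((S⁻¹ : GL (Fin n) F) : Matrix (Fin n) (Fin n) F) * (S : Matrix (Fin n) (Fin n) F)) := by simp only [mul_assoc]
      _ = B := by rw [h2, one_mul, mul_one]
  simp only [h4] at h3
  exact Subtype.ext ((Matrix.reindexAlgEquiv F F e).injective h3)

theorem spEmb_mem {n m : ℕ} {f : (Fin n → F) → (Fin n → F) → F} {e : Fin m ⊕ Fin m ≃ Fin n} {S : GL (Fin n) F}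
    (hS : ∀ u v : Fin n → F,
      f ((S : Matrix (Fin n) (Fin n) F).mulVec u) ((S : Matrix (Fin n) (Fin n) F).mulVec v) =
        stdForm m F (u ∘ e) (v ∘ e)) :
    (spEmb e S).range ≤ (Cfsg.Geo.similarityGroup f).comap
      (Matrix.SpecialLinearGroup.toGL : Matrix.SpecialLinearGroup (Fin n) F →* GL (Fin n) F) := by
  rintro _ ⟨M, rfl⟩
  have hdet : (Matrix.reindexAlgEquiv F F e M.1).det ≠ 0 := by
    rw [Matrix.det_reindexAlgEquiv, SymplecticGroup.det_eq_one M.2]
    exact one_ne_zero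
  have h1 := mem_similarity hS (Matrix.GeneralLinearGroup.mkOfDetNeZero (Matrix.reindexAlgEquiv F F e M.1) hdet) 1 one_ne_zero (by
    intro u v
    change stdForm m F (((Matrix.reindexAlgEquiv F F e M.1).mulVec u) ∘ e) (((Matrix.reindexAlgEquiv F F e M.1).mulVec v) ∘ e) = _
    rw [reindex_mulVec_comp, reindex_mulVec_comp, stdForm_mulVec M.2, one_mul])
  have h2 : Matrix.SpecialLinearGroup.toGL (spEmb e S M) =
      S * Matrix.GeneralLinearGroup.mkOfDetNeZero (Matrix.reindexAlgEquiv F F e M.1) hdet * S⁻¹ := Units.ext rfl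
  rw [Subgroup.mem_comap, h2]
  exact h1

end Form

section Index

open Finset

variable {F : Type*} [Field F] [Fintype F]

theorem prod_split (Q : ℕ) (m : ℕ) (hm : 1 ≤ m) : ∏ j ∈ Icc 2 (m + m), (Q ^ j - 1) =
    (∏ i ∈ range m, (Q ^ (2 * (i + 1)) - 1)) * ∏ i ∈ range (m - 1), (Q ^ (2 * (i + 1) + 1) - 1) := by
  induction m, hm using Nat.le_induction with
  | base => simp
  | succ m hm ih =>
    have h1 : Icc 2 (m + 1 + (m + 1)) = insert (m + m + 2) (insert (m + m + 1) (Icc 2 (m + m))) := by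
      ext j; simp only [mem_Icc, mem_insert]; omega
    rw [h1, prod_insert, prod_insert, ih, prod_range_succ, Nat.add_sub_cancel]
    · obtain ⟨l, rfl⟩ : ∃ l, m = l + 1 := ⟨m - 1, by omega⟩
      rw [Nat.add_sub_cancel, prod_range_succ (fun i => Q ^ (2 * (i + 1) + 1) - 1) l]
      have e1 : l + 1 + (l + 1) + 2 = 2 * (l + 1 + 1) := by ring
      have e2 : l + 1 + (l + 1) + 1 = 2 * (l + 1) + 1 := by ring
      rw [e1, e2]
      ring
    · simp only [mem_Icc, not_and, not_le]; omega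
    · simp only [mem_insert, mem_Icc, not_or, not_and, not_le]; omega

/-- A prime `r ≠ p` dividing the index of the similarity group of an alternating form. -/
theorem exists_odd_of_dvd_index {p : ℕ} [Fact p.Prime] [CharP F p] {n : ℕ} (hn : 1 ≤ n)
    {f : (Fin n → F) → (Fin n → F) → F} (hf : IsSymplecticForm f) (r : ℕ) (hr : r.Prime) (hrp : r ≠ p)
    (hΩ : r ∣ ((Cfsg.Geo.similarityGroup f).comap
      (Matrix.SpecialLinearGroup.toGL : Matrix.SpecialLinearGroup (Fin n) F →* GL (Fin n) F)).index) :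
    ∃ j, Odd j ∧ j ≤ n ∧ r ∣ Fintype.card F ^ j - 1 := by
  classical
  obtain ⟨m, e, S, hS⟩ := exists_std hf
  have hnm : n = m + m := by
    have := Fintype.card_congr e
    simpa using this.symm
  subst hnm
  have hm : 1 ≤ m := by omega
  set R := (spEmb e S).range with hR
  have h1 : r ∣ R.index := hΩ.trans (Subgroup.index_dvd_of_le (spEmb_mem hS))
  have hRc : Nat.card R = Nat.card (Matrix.symplecticGroup (Fin m) F) :=
    (Nat.card_congr (MonoidHom.ofInjective (spEmb_injective e S)).toEquiv).symm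
  have h2 := R.card_mul_index
  rw [hRc, S0245.result rfl, card_SL (m + m) (by omega), prod_split _ m hm] at h2
  set Q := Fintype.card F with hQ
  have hQ1 : 1 < Q := Fintype.one_lt_card
  have hpos : 0 < ∏ i ∈ range m, (Q ^ (2 * (i + 1)) - 1) := by
    refine prod_pos fun i _ => ?_
    exact Nat.sub_pos_of_lt (Nat.one_lt_pow (by omega) hQ1)
  have h3 : Q ^ (m ^ 2) * R.index = Q ^ (∑ i ∈ range (m + m), i) * ∏ i ∈ range (m - 1), (Q ^ (2 * (i + 1) + 1) - 1) := by
    apply Nat.eq_of_mul_eq_mul_right hpos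
    calc Q ^ (m ^ 2) * R.index * ∏ i ∈ range m, (Q ^ (2 * (i + 1)) - 1)
        = Q ^ (m ^ 2) * (∏ i ∈ range m, (Q ^ (2 * (i + 1)) - 1)) * R.index := by ring
      _ = _ := by rw [h2]; ring
  have h4 : r ∣ Q ^ (∑ i ∈ range (m + m), i) * ∏ i ∈ range (m - 1), (Q ^ (2 * (i + 1) + 1) - 1) :=
    h3 ▸ Dvd.dvd.mul_left h1 _
  have hrq : ¬ r ∣ Q := by
    intro h
    obtain ⟨l, -, hl⟩ := FiniteField.card F p
    rw [← hQ] at hl
    rw [hl] at h
    exact hrp ((Nat.prime_dvd_prime_iff_eq hr (Fact.out)).mp (hr.dvd_of_dvd_pow h))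
  rcases (Nat.Prime.dvd_mul hr).mp h4 with h5 | h5
  · exact absurd (hr.dvd_of_dvd_pow h5) hrq
  · obtain ⟨i, hi, hri⟩ := (hr.prime.dvd_finsetProd_iff _).mp h5
    rw [mem_range] at hi
    exact ⟨2 * (i + 1) + 1, ⟨i + 1, rfl⟩, by omega, hri⟩

end Index

end Cfsg.Agent.H953
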