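/-
Ranks of `y - 1` for `y ^ r = 1`.

* `rank_map` : the rank of a square matrix does not change under field extension.
* `dvd_pow_rank` : `y ^ r = 1`, `r ≠ p` implies `r ∣ q ^ rank (y - 1) - 1`.
* `exists_elt` : for `i = ord_r(q)`, `2 ≤ i ≤ n`, an element of `SL_n(q)` with `x ^ r = 1`, `rank (x - 1) = i`.
-/
import Mathlib
import Cfsg.Agent.H953.Cent
import Cfsg.Agent.H953.Index

set_option autoImplicit false

namespace Cfsg.Agent.H953

open Polynomial

/-- The rank of a square matrix is unchanged by extension of the field. -/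
theorem rank_map {K L : Type*} [Field K] [Field L] (f : K →+* L) {ι : Type*} [Fintype ι] [DecidableEq ι]
    (A : Matrix ι ι K) : (A.map f).rank = A.rank := by
  classical
  obtain ⟨M, M', D, h⟩ := Matrix.Pivot.exists_list_transvec_mul_diagonal_mul_list_transvec A
  set B := (M.map Matrix.TransvectionStruct.toMatrix).prod with hB
  set B' := (M'.map Matrix.TransvectionStruct.toMatrix).prod with hB'
  have hBd : B.det = 1 := Matrix.TransvectionStruct.det_toMatrix_prod M
  have hB'd : B'.det = 1 := Matrix.TransvectionStruct.det_toMatrix_prod M'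
  have h1 : A.rank = (Matrix.diagonal D).rank := by
    rw [h, Matrix.rank_mul_eq_left_of_isUnit_det _ _ (by rw [hB'd]; exact isUnit_one),
      Matrix.rank_mul_eq_right_of_isUnit_det _ _ (by rw [hBd]; exact isUnit_one)]
  have hBd' : (B.map f).det = 1 := by
    have := (RingHom.map_det f B).symm
    rw [RingHom.mapMatrix_apply] at this
    rw [this, hBd, map_one]
  have hB'd' : (B'.map f).det = 1 := by
    have := (RingHom.map_det f B').symm
    rw [RingHom.mapMatrix_apply] at this
    rw [this, hB'd, map_one]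
  have h2 : (A.map f).rank = (Matrix.diagonal (fun i => f (D i))).rank := by
    rw [h, Matrix.map_mul, Matrix.map_mul, Matrix.rank_mul_eq_left_of_isUnit_det _ _ (by rw [hB'd']; exact isUnit_one),
      Matrix.rank_mul_eq_right_of_isUnit_det _ _ (by rw [hBd']; exact isUnit_one), Matrix.diagonal_map (map_zero f)]
  rw [h1, h2, Matrix.rank_diagonal, Matrix.rank_diagonal]
  refine Fintype.card_congr (Equiv.subtypeEquivRight fun i => ?_)
  rw [Ne, Ne, map_eq_zero]

/-- `y ^ r = 1`: `r` divides `q ^ rank (y - 1) - 1`. -/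
theorem dvd_pow_rank {K : Type*} [Field K] [Fintype K] {ι : Type*} [Fintype ι] [DecidableEq ι] (y : Matrix ι ι K)
    (r : ℕ) [Fact r.Prime] (hr : (r : K) ≠ 0) (hy : y ^ r = 1) : r ∣ Fintype.card K ^ (y - 1).rank - 1 := by
  classical
  set N := y - 1 with hN
  let W := LinearMap.range N.mulVecLin
  have hW : Module.finrank K W = N.rank := rfl
  have hcomm : Commute y N := (Commute.refl y).sub_right (Commute.one_right y)
  have hyW : ∀ w ∈ W, y.mulVec w ∈ W := by
    rintro _ ⟨v, rfl⟩
    refine ⟨y.mulVec v, ?_⟩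
    rw [Matrix.mulVecLin_apply, Matrix.mulVecLin_apply, Matrix.mulVec_mulVec, Matrix.mulVec_mulVec, hcomm.eq]
  let f : Function.End W := fun w => ⟨y.mulVec w.1, hyW _ w.2⟩
  have hfpow : ∀ (l : ℕ) (w : W), ((f ^ l) w).1 = (y ^ l).mulVec w.1 := by
    intro l
    induction l with
    | zero => intro w; rw [pow_zero, pow_zero, Matrix.one_mulVec]; rfl
    | succ l ih =>
      intro w
      rw [pow_succ, pow_succ]
      change ((f ^ l) (f w)).1 = _
      rw [ih, ← Matrix.mulVec_mulVec]
  have hf : f ^ r ^ 1 = 1 := by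
    rw [pow_one]
    funext w
    apply Subtype.ext
    rw [hfpow, hy, Matrix.one_mulVec]
    rfl
  have h1 := Equiv.Perm.card_fixedPoints_modEq hf
  have h2 : Fintype.card (Function.fixedPoints f) = 1 := by
    rw [Fintype.card_eq_one_iff]
    have h0 : (0 : W) ∈ Function.fixedPoints f := by
      change f 0 = 0
      apply Subtype.ext
      simp [f]
    refine ⟨⟨0, h0⟩, ?_⟩
    rintro ⟨w, hw⟩
    apply Subtype.ext
    change w = 0
    have hw' : y.mulVec w.1 = w.1 := congrArg Subtype.val hw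
    obtain ⟨v, hv⟩ := w.2
    rw [Matrix.mulVecLin_apply] at hv
    -- s = 1 + y + ... + y^(r-1)
    have hs1 : (∑ l ∈ Finset.range r, y ^ l) * N = 0 := by
      rw [hN, geom_sum_mul, hy, sub_self]
    have hs2 : (∑ l ∈ Finset.range r, y ^ l).mulVec w.1 = (r : K) • w.1 := by
      have h3 : ∀ l : ℕ, (y ^ l).mulVec w.1 = w.1 := by
        intro l
        induction l with
        | zero => simp
        | succ l ih => rw [pow_succ, ← Matrix.mulVec_mulVec, hw', ih]
      rw [Matrix.sum_mulVec, Finset.sum_congr rfl (fun l _ => h3 l), Finset.sum_const, Finset.card_range]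
      exact (Nat.cast_smul_eq_nsmul K r w.1).symm
    have hs3 : (∑ l ∈ Finset.range r, y ^ l).mulVec w.1 = 0 := by
      rw [← hv, Matrix.mulVec_mulVec, hs1, Matrix.zero_mulVec]
    rw [hs2] at hs3
    apply Subtype.ext
    exact (smul_eq_zero.mp hs3).resolve_left hr
  rw [h2, Module.card_eq_pow_finrank (K := K), hW] at h1
  exact (Nat.modEq_iff_dvd' (Nat.one_le_pow _ _ Fintype.card_pos)).mp h1.symm

theorem orderOf_dvd_iff {Q r : ℕ} (hQ : 1 ≤ Q) (m : ℕ) : orderOf (Q : ZMod r) ∣ m ↔ r ∣ Q ^ m - 1 := by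
  rw [orderOf_dvd_iff_pow_eq_one, ← Nat.cast_pow, ← Nat.cast_one, ZMod.natCast_eq_natCast_iff]
  constructor
  · intro h; exact (Nat.modEq_iff_dvd' (Nat.one_le_pow _ _ hQ)).mp h.symm
  · intro h; exact ((Nat.modEq_iff_dvd' (Nat.one_le_pow _ _ hQ)).mpr h).symm

theorem dvd_of_orderOf {Q r i : ℕ} (hQ : 1 ≤ Q) (hi : i = orderOf (Q : ZMod r)) {m : ℕ} (h : r ∣ Q ^ m - 1) : i ∣ m := by
  rw [hi, orderOf_dvd_iff hQ]; exact h

/-- Elements of order `r` with commutator space of the minimal dimension. -/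
theorem exists_elt {F : Type*} [Field F] [Fintype F] (r : ℕ) [Fact r.Prime] (hr : (r : F) ≠ 0)
    (h1 : ¬ r ∣ Fintype.card F - 1) {n i : ℕ} (hi : i = orderOf (Fintype.card F : ZMod r)) (hi0 : 0 < i) (hin : i ≤ n) :
    ∃ x : Matrix.SpecialLinearGroup (Fin n) F, x ^ r = 1 ∧ ((x : Matrix (Fin n) (Fin n) F) - 1).rank = i := by
  classical
  have hq : 1 ≤ Fintype.card F := Fintype.card_pos
  have hri : r ∣ Fintype.card F ^ i - 1 := (orderOf_dvd_iff hq i).mp (hi ▸ dvd_rfl)
  have hcard : r ∣ Nat.card (GL (Fin i) F) := by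
    rw [Matrix.card_GL_field, prod_sub_pow]
    refine Dvd.dvd.mul_left ?_ _
    exact hri.trans (Finset.dvd_prod_of_mem _ (Finset.mem_Icc.mpr ⟨hi0, le_rfl⟩))
  obtain ⟨C, hC⟩ := exists_prime_orderOf_dvd_card' (G := GL (Fin i) F) r hcard
  have hCr : C ^ r = 1 := by rw [← hC]; exact pow_orderOf_eq_one C
  have hC1 : C ≠ 1 := by
    rintro rfl
    rw [orderOf_one] at hC
    exact (Fact.out : r.Prime).one_lt.ne hC
  have hCr' : (C : Matrix (Fin i) (Fin i) F) ^ r = 1 := by
    rw [← Units.val_pow_eq_pow_val, hCr, Units.val_one]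
  obtain ⟨m, rfl⟩ : ∃ m, n = i + m := ⟨n - i, by omega⟩
  let e : Fin i ⊕ Fin m ≃ Fin (i + m) := finSumFinEquiv
  let φ := Matrix.reindexAlgEquiv F F e
  let X0 : Matrix (Fin i ⊕ Fin m) (Fin i ⊕ Fin m) F := Matrix.fromBlocks (C : Matrix (Fin i) (Fin i) F) 0 0 1
  have hX0 : X0 ^ r = 1 := by
    have h2 : ∀ l : ℕ, X0 ^ l = Matrix.fromBlocks ((C : Matrix (Fin i) (Fin i) F) ^ l) 0 0 1 := by
      intro l
      induction l with
      | zero => rw [pow_zero, pow_zero, Matrix.fromBlocks_one]
      | succ l ih => rw [pow_succ, ih, Matrix.fromBlocks_multiply]; simp [pow_succ]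
    rw [h2, hCr', Matrix.fromBlocks_one]
  have hdet : (φ X0).det = 1 := by
    have h2 : (φ X0).det ^ r = 1 := by
      rw [← Matrix.det_pow, ← map_pow, hX0, map_one, Matrix.det_one]
    have h3 : (φ X0).det ^ (Fintype.card F - 1) = 1 := by
      apply FiniteField.pow_card_sub_one_eq_one
      intro h0
      rw [h0, zero_pow (Fact.out : r.Prime).ne_zero] at h2
      exact zero_ne_one h2
    have hcop : Nat.Coprime r (Fintype.card F - 1) := (Nat.Prime.coprime_iff_not_dvd Fact.out).mpr h1
    have := orderOf_dvd_of_pow_eq_one h2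
    have h4 := orderOf_dvd_of_pow_eq_one h3
    have h5 : orderOf (φ X0).det ∣ 1 := hcop ▸ Nat.dvd_gcd this h4
    rw [Nat.dvd_one] at h5
    exact orderOf_eq_one_iff.mp h5
  let x : Matrix.SpecialLinearGroup (Fin (i + m)) F := ⟨φ X0, hdet⟩
  have hxval : (x : Matrix (Fin (i + m)) (Fin (i + m)) F) = φ X0 := rfl
  have hxr : (φ X0) ^ r = 1 := by rw [← map_pow, hX0, map_one]
  refine ⟨x, ?_, ?_⟩
  · apply Subtype.ext
    rw [Matrix.SpecialLinearGroup.coe_pow, hxval, hxr]
    rfl
  · rw [hxval]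
    have h2 : r ∣ Fintype.card F ^ (φ X0 - 1).rank - 1 := dvd_pow_rank (φ X0) r hr hxr
    have h3 : i ∣ (φ X0 - 1).rank := dvd_of_orderOf hq hi h2
    have h4 : (φ X0 - 1).rank = (X0 - 1).rank := by
      have : φ X0 - 1 = Matrix.reindex e e (X0 - 1) := by
        have : φ (X0 - 1) = Matrix.reindex e e (X0 - 1) := rfl
        rw [← this, map_sub, map_one]
      rw [this, Matrix.rank_reindex]
    have h5 : (X0 - 1).rank ≤ i := by
      have h6 : X0 - 1 = Matrix.fromRows ((C : Matrix (Fin i) (Fin i) F) - 1) 0 *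
          Matrix.fromCols (1 : Matrix (Fin i) (Fin i) F) (0 : Matrix (Fin i) (Fin m) F) := by
        rw [Matrix.fromRows_mul_fromCols, ← Matrix.fromBlocks_one, sub_eq_add_neg, Matrix.fromBlocks_neg,
          Matrix.fromBlocks_add]
        simp [sub_eq_add_neg]
      rw [h6]
      refine (Matrix.rank_mul_le_right _ _).trans ?_
      refine (Matrix.rank_le_card_height _).trans ?_
      rw [Fintype.card_fin]
    have h6 : (φ X0 - 1).rank ≠ 0 := by
      intro h0
      rw [h4] at h0
      have h7 : X0 - 1 = 0 := by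
        have h8 : LinearMap.range (X0 - 1).mulVecLin = ⊥ := Submodule.finrank_eq_zero.mp h0
        rw [LinearMap.range_eq_bot] at h8
        ext a b
        have h9 := congrFun (LinearMap.congr_fun h8 (Pi.single b 1)) a
        rw [Matrix.mulVecLin_apply, Matrix.mulVec_single_one] at h9
        exact h9
      apply hC1
      apply Units.ext
      have h8 : X0 = 1 := sub_eq_zero.mp h7
      have h9 := congrArg Matrix.toBlocks₁₁ h8
      rw [Matrix.toBlocks_fromBlocks₁₁, ← Matrix.fromBlocks_one, Matrix.toBlocks_fromBlocks₁₁] at h9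
      exact h9
    have h7 := Nat.le_of_dvd (Nat.pos_of_ne_zero h6) h3
    omega

end Cfsg.Agent.H953
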