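import Cfsg.Agent.H899.Cyc.CycOut
import Cfsg.Agent.H884.CgLin
import Cfsg.Agent.H251.GeoUMain
import Cfsg.Agent.H264.FKS.Char

/-!
# Cyclic primes of the unitary groups and geometric subgroups (helper953, for S3679 and S3561; task 3135)

* `cyc_psu` : a prime `u` with `n / 2 < ord(-q mod u) ≤ n`, `3 ≤ ord`, not dividing the field exponent: `Cyc (PSU n F q) u`;
* `geoU_cyc` : a proper subgroup of `PSU_n(q)`, `n ≥ 4`, has an index gap or is in the residual class.
-/

set_option autoImplicit false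
set_option linter.unusedSectionVars false

namespace Cfsg.Agent.H953.CycU

open Cfsg Cfsg.Geo Module Cfsg.Agent.H251.GeoCard Cfsg.Agent.H951 Cfsg.Agent.H899.CG Cfsg.Agent.H251.GeoU
open scoped Matrix MatrixGroups

section cyc

variable {F : Type} [Field F] [Fintype F] {n q m u : ℕ}

/-- the representation of `SU_n(q)` -/
def rep (n : ℕ) (F : Type) [Field F] (q : ℕ) : SU n F q →* Module.End F (Fin n → F) where
  toFun g := Matrix.toLin' ((H918.suHom n F q g : GL (Fin n) F) : Matrix (Fin n) (Fin n) F)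
  map_one' := by
    rw [map_one, Units.val_one, Matrix.toLin'_one]
    rfl
  map_mul' a b := by
    rw [map_mul, Units.val_mul, Matrix.toLin'_mul]
    rfl

theorem rep_injective : Function.Injective (rep n F q) := by
  intro a b h
  apply H918.suHom_injective
  apply Units.ext
  exact Matrix.toLin'.injective h

theorem rep_isom (g : SU n F q) : Isom (hermForm n F q) (rep n F q g) := by
  intro x y
  change hermForm n F q (Matrix.toLin' _ x) (Matrix.toLin' _ y) = _
  rw [Matrix.toLin'_apply, Matrix.toLin'_apply]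
  exact H918.mem_GU.1 (H918.suHom_mem g).1 x y

theorem cycW_psu (hF : Fintype.card F = q ^ 2) (hm : 3 ≤ m) (hmn : m ≤ n) (h2 : n < 2 * m) (hu : u.Prime)
    (hord : orderOf (-(q : ZMod u)) = m) : CycW (PSU n F q) u := by
  have := Fact.mk hu
  have huq := not_dvd_of_ord hu hord (by omega)
  have hr := natCast_ne hF hu huq
  have hdvd := dvd_pred_of_ord hu hord (by omega)
  have hu5 : m + 1 ≤ u := by
    have := Nat.le_of_dvd (by have := hu.two_le; omega) hdvd
    omega
  have hB := H950.frm_herm hF n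
  have hnd := H950.nd_top hF n
  have hG : Finite (SU n F q) := Finite.of_injective _ H918.suHom_injective
  -- dimensions of commutator spaces
  have hcm : ∀ x : Module.End F (Fin n → F), Isom (hermForm n F q) x → x ^ u = 1 → x ≠ 1 →
      finrank F ↥(cm x) = m := by
    intro x hx hxs hx1
    have hcf : cm x ⊓ fx x = ⊥ := by
      rw [inf_comm]
      exact (isCompl_fx_cm hr hxs).inf_eq_bot
    have h1 := H950.ord_neg_dvd hF huq hx hxs inv_cm (hx.nd_cm hB hr hxs hnd) hcf
    rw [hord] at h1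
    have h3 : 0 < finrank F ↥(cm x) := by
      rw [Nat.pos_iff_ne_zero, Ne, Submodule.finrank_eq_zero]
      intro h4
      apply hx1
      apply LinearMap.ext
      intro v
      have h5 : x v - v ∈ cm x := mem_cm.2 ⟨v, rfl⟩
      rw [h4, Submodule.mem_bot, sub_eq_zero] at h5
      exact h5
    have h4 : finrank F ↥(cm x) ≤ n := by
      have := Submodule.finrank_le (cm x)
      rwa [finrank_fintype_fun_eq_card, Fintype.card_fin] at this
    obtain ⟨c, hc⟩ := h1
    have hc1 : c = 1 := by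
      rcases c with _ | _ | c
      · omega
      · rfl
      · have : m * 2 ≤ m * (c + 1 + 1) := Nat.mul_le_mul_left _ (by omega)
        omega
    rw [hc, hc1, mul_one]
  have he : m ≤ 2 * orderOf ((Fintype.card F : ℕ) : ZMod u) := by
    rw [hF]
    rcases Nat.even_or_odd m with hev | hodd
    · rw [ord_sq_even hord hev]
      obtain ⟨k, hk⟩ := hev
      omega
    · rw [ord_sq_odd hord hodd]
      omega
  have hker : (QuotientGroup.mk' (Subgroup.center (SU n F q))).ker = Subgroup.center (SU n F q) :=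
    QuotientGroup.ker_mk' _
  refine H884.Cg.cycW_of (F := F) (V := Fin n → F) (r := u) (d := m)
    (e := orderOf ((Fintype.card F : ℕ) : ZMod u))
    (QuotientGroup.mk' (Subgroup.center (SU n F q))) (QuotientGroup.mk'_surjective _) hker.le hu (by omega) hr ?_
    (H149.PGU.dvd_card_psu hF (by omega) hu (by omega) hmn hord) (rep n F q) rep_injective (by omega) he ?_ ?_
  · rw [hker, S0279.result hF n (by omega)]
    intro h
    have h1 := h.trans (Nat.gcd_dvd_right _ _)
    have h3 : ((q + 1 : ℕ) : ZMod u) = 0 := (ZMod.natCast_eq_zero_iff _ _).2 h1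
    have h4 : -(q : ZMod u) = 1 := by
      push_cast at h3
      linear_combination -h3
    rw [h4, orderOf_one] at hord
    omega
  · intro g hg hg1
    refine hcm _ (rep_isom g) (by rw [← map_pow, hg, map_one]) ?_
    intro h
    exact hg1 (rep_injective (by rw [h, map_one]))
  · intro g hg U hU hUf hU0
    obtain ⟨b, hb⟩ := H950.exists_finrank_eq (x := rep n F q g) hr (by rw [← map_pow, hg, map_one]) hU
    rw [hUf, finrank_bot, zero_add] at hb
    have hb0 : b ≠ 0 := by
      rintro rfl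
      rw [mul_zero] at hb
      exact hU0 (Submodule.finrank_eq_zero.1 hb)
    rw [hb]
    exact Nat.le_mul_of_pos_right _ (Nat.pos_of_ne_zero hb0)

theorem not_comm_of_primes {T : Type*} [Group T] [Finite T] [IsSimpleGroup T] {r s : ℕ} (hr : r.Prime)
    (hs : s.Prime) (hrs : r ≠ s) (h1 : r ∣ Nat.card T) (h2 : s ∣ Nat.card T) : ¬ ∀ a b : T, a * b = b * a := by
  intro hc
  have := Fact.mk hr
  obtain ⟨x, hx⟩ := exists_prime_orderOf_dvd_card' r h1
  have hn : (Subgroup.zpowers x).Normal := ⟨fun n hn g => by rw [hc g n, mul_inv_cancel_right]; exact hn⟩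
  rcases hn.eq_bot_or_eq_top with h | h
  · rw [Subgroup.zpowers_eq_bot] at h
    rw [h, orderOf_one] at hx
    exact hr.one_lt.ne hx
  · have h3 : Nat.card T = r := by
      rw [← hx, ← Nat.card_zpowers, h, Subgroup.card_top]
    rw [h3] at h2
    exact hrs ((Nat.prime_dvd_prime_iff_eq hs hr).1 h2).symm

/-- **(a) cyclic primes of the unitary groups** -/
theorem cyc_psu (hF : Fintype.card F = q ^ 2) (hm : 3 ≤ m) (hmn : m ≤ n) (h2 : n < 2 * m) (hu : u.Prime)
    (hord : orderOf (-(q : ZMod u)) = m) (hndf : NDF q u) : Cyc (PSU n F q) u := by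
  have := Fact.mk hu
  have huq := not_dvd_of_ord hu hord (by omega)
  have hdvd := dvd_pred_of_ord hu hord (by omega)
  have hu4 : m + 1 ≤ u := by
    have := Nat.le_of_dvd (by have := hu.two_le; omega) hdvd
    omega
  have hu5 : 5 ≤ u := by
    by_contra hcon
    have h4 : u = 4 := by omega
    rw [h4] at hu
    exact absurd hu (by norm_num)
  have h32 : ¬ (n = 3 ∧ q = 2) := by
    rintro ⟨rfl, rfl⟩
    have h3 : m = 3 := by omega
    subst h3
    have h4 : (-((2 : ℕ) : ZMod u)) ^ 3 = 1 := by rw [← hord, pow_orderOf_eq_one]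
    have h5 : ((9 : ℕ) : ZMod u) = 0 := by
      push_cast at h4 ⊢
      linear_combination -h4
    have h6 : u ∣ 3 ^ 2 := (ZMod.natCast_eq_zero_iff _ _).1 h5
    have h7 := Nat.le_of_dvd (by norm_num) (hu.dvd_of_dvd_pow h6)
    omega
  obtain ⟨p, f, hp, hf, hq, hpF⟩ := exists_prime_power hF
  have hsimple := S0283.result hF n (by omega) h32
  have hG : Finite (SU n F q) := Finite.of_injective _ H918.suHom_injective
  have hfin : Finite (PSU n F q) := Quotient.finite _
  have hcw := cycW_psu hF hm hmn h2 hu hord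
  have hpu : p ≠ u := by
    rintro rfl
    apply huq
    rw [hq]
    exact dvd_pow_self _ (by omega)
  refine cyc_of_weak (g := .psu n q) (p := p) (not_comm_of_primes hp hu hpu
    (char_dvd_psu hF hp hq hf (by omega)) hcw.2.1) hp (H264.FKS.named_psu F hF (by omega) h32) ⟨f, hq⟩ hu5 hndf ?_ hcw
  intro h1
  have h3 : ((q + 1 : ℕ) : ZMod u) = 0 := (ZMod.natCast_eq_zero_iff _ _).2 h1
  have h4 : -(q : ZMod u) = 1 := by
    push_cast at h3
    linear_combination -h3
  rw [h4, orderOf_one] at hord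
  omega

end cyc

section geo

variable {F : Type} [Field F] [Fintype F] {n q : ℕ}

/-- (C3), `n` odd, with a prime `s` such that `-q` has order `n - 2`. -/
theorem kill_field (hF : Fintype.card F = q ^ 2) {s : ℕ} (hs : s.Prime) (hord : orderOf (-(q : ZMod s)) = n - 2)
    (hno : Odd n) (hn : 5 ≤ n) (hsn : n < s) {r : ℕ}
    (hr : r.Prime) (hr3 : 3 ≤ r) {K : Subalgebra F (Matrix (Fin n) (Fin n) F)} (hK : IsFieldSubalgebra r K)
    (h : s ∣ Nat.card (subalgebraNormalizer K)) : False := by
  have hne : Nonempty (Fin n) := ⟨⟨0, by omega⟩⟩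
  have hsq := not_dvd_of_ord hs hord (by omega)
  have hrn : r ∣ n := by
    have := H912.finrank_dvd_of_fieldSub hK
    rwa [Fintype.card_fin] at this
  have hle := Nat.le_of_dvd (by omega) hrn
  obtain ⟨c, hc⟩ := hrn
  have hm : Odd (n - 2) := by
    obtain ⟨k, hk⟩ := hno
    exact ⟨k - 1, by omega⟩
  rcases extension hr hK hs (H251.GeoU.not_dvd_card hF hs hsq) h with h1 | h1
  · omega
  · rw [nat_card_eq hF, Fintype.card_fin] at h1
    have hcn : n / r = c := by
      conv_lhs => rw [hc]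
      exact Nat.mul_div_cancel_left _ hr.pos
    rw [hcn] at h1
    have h2 := ord_le_of_div (Nat.one_le_pow _ _ (Nat.one_le_pow _ _ (LieClassical.HermBasic.q_pos hF))) h1
    have h3 : orderOf (((q ^ 2) ^ r : ℕ) : ZMod s) = n - 2 := by
      have h4 : (((q ^ 2) ^ r : ℕ) : ZMod s) = ((q ^ 2 : ℕ) : ZMod s) ^ r := by push_cast; rfl
      rw [h4, orderOf_pow' _ hr.ne_zero, ord_sq_odd hord hm]
      have h5 : Nat.gcd (n - 2) r = 1 := by
        rw [← Nat.coprime_iff_gcd_eq_one, Nat.coprime_comm, hr.coprime_iff_not_dvd]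
        intro h6
        have h8 : r ∣ n := ⟨c, hc⟩
        have h9 : r ∣ n - (n - 2) := Nat.dvd_sub h8 h6
        have h10 : n - (n - 2) = 2 := by omega
        rw [h10] at h9
        have := Nat.le_of_dvd (by norm_num) h9
        omega
      rw [h5, Nat.div_one]
    rw [h3] at h2
    have h4 : 3 * c ≤ n := by
      rw [hc]
      exact Nat.mul_le_mul_right _ hr3
    omega

/-- **Geometric members of `SU_n(q)`** -/
theorem exists_cyc (hF : Fintype.card F = q ^ 2) (hn : 4 ≤ n)
    (hex : ¬ (q = 2 ∧ n ≤ 5)) {M : Subgroup (GL (Fin n) F)} (hM : InUnitaryClass n F q M) :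
    ∃ v : ℕ, Cyc (PSU n F q) v ∧ ¬ v ∣ Nat.card M := by
  obtain ⟨p, f, hp, hf, hq, hpF⟩ := exists_prime_power hF
  have hne : Nonempty (Fin n) := ⟨⟨0, by omega⟩⟩
  obtain ⟨m, hm, hmn, hnm, hm3⟩ : ∃ m, Odd m ∧ m ≤ n ∧ n ≤ m + 1 ∧ 3 ≤ m := by
    rcases Nat.even_or_odd n with ⟨k, hk⟩ | h
    · exact ⟨n - 1, ⟨k - 1, by omega⟩, by omega, by omega, by omega⟩
    · exact ⟨n, h, le_rfl, by omega, by omega⟩
  obtain ⟨s, hs, hiff, hs1, hord⟩ := exists_big hp hf hm3 hm (by
    rintro ⟨h1, h2⟩
    rw [← hq] at h2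
    exact hex ⟨h2, by omega⟩)
  rw [← hq] at hord
  have hsbig : n + 1 < s ∧ f < s := by
    have h1 := Nat.le_of_dvd (by have := hs.two_le; omega) hs1
    have h2 : 2 * m * 1 ≤ 2 * m * f := Nat.mul_le_mul_left _ hf
    have h3 : 1 * f ≤ 2 * m * f := Nat.mul_le_mul_right _ (by omega)
    omega
  have hndf : NDF q s := by
    rw [hq]
    exact ndf_of_lt hp hf hsbig.2
  have hcs : Cyc (PSU n F q) s := cyc_psu hF hm3 hmn (by omega) hs hord hndf
  by_cases hsM : s ∣ Nat.card M
  swap
  · exact ⟨s, hcs, hsM⟩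
  rcases hM with hM | hM | hM | hM
  · rcases hM with hM | hM | hM | hM | hM | hM | hM | hM
    · obtain ⟨W, hW0, hW, rfl⟩ := hM
      exact (kill_ts hF hs hord hm hn hnm hW0 hW hsM).elim
    · obtain ⟨W, hW0, hW, hW2, rfl⟩ := hM
      obtain ⟨hnm', hW1⟩ := kill_nd hF hs hord hm hn hnm hW0 hW2 hsM
      have hev : Even n := by
        obtain ⟨k, hk⟩ := hm
        exact ⟨k + 1, by omega⟩
      obtain ⟨v, hv, hvo, hvf, -, -⟩ := H149.NegPrime.exists_neg_prime (i := n) hp hq hf (by omega) (by omega)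
      refine ⟨v, cyc_psu hF (by omega) le_rfl (by omega) hv hvo ?_,
        fun h => kill_point hF hv hvo hev hn hW1 h⟩
      rw [hq]
      exact (ndf_iff hp hf).2 hvf
    · obtain ⟨t, k, D, hD, rfl⟩ := hM
      exact (kill_decomp hF hs hord hm hn hnm (by omega) hD.decomp (dvd_left hsM)).elim
    · obtain ⟨k, D, hk, hD, -, rfl⟩ := hM
      exact (kill_decomp hF hs hord hm hn hnm (by omega) hD (dvd_left hsM)).elim
    · obtain ⟨F₀, r, P, hr, hro, hc, -, rfl⟩ := hM
      exact (kill_subfield hF hp hq hf hs hiff hord hm hn hnm hr.two_le hc (dvd_left hsM)).elim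
    · obtain ⟨F₀, P, -, hc, -, rfl⟩ := hM
      exact (kill_subfield hF hp hq hf hs hiff hord hm hn hnm le_rfl hc (dvd_left hsM)).elim
    · obtain ⟨F₀, P, ζ, -, hc, -, -, -, -, rfl⟩ := hM
      exact (kill_subfield hF hp hq hf hs hiff hord hm hn hnm le_rfl hc (dvd_left hsM)).elim
    · obtain ⟨r, R, p', e, k, hR, habs, -, -, -, hc, rfl⟩ := hM
      have ht : H920.IsType r k R := by
        rcases hc with ⟨h1, h2, -, h3⟩ | ⟨h1, -, h2, h3⟩
        · exact Or.inl ⟨h1, h2, h3⟩
        · exact Or.inr ⟨h1, h2, h3⟩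
      exact (kill_symp hF hs hord hm hn hnm hsbig.1 hR habs ht (dvd_left hsM)).elim
  · obtain ⟨r, K, hr, hro, hK, -, rfl⟩ := hM
    have hr3 : 3 ≤ r := by
      have := hr.two_le
      obtain ⟨k, hk⟩ := hro
      omega
    rcases Nat.even_or_odd n with hev | hodd
    · have hnm' : n = m + 1 := by
        obtain ⟨k, hk⟩ := hm
        obtain ⟨l, hl⟩ := hev
        omega
      exact (kill_field_even hF hs hord hm hn hnm' (by omega) hr hr3 hK (dvd_left hsM)).elim
    · have hn5 : 5 ≤ n := by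
        obtain ⟨l, hl⟩ := hodd
        omega
      have hodd' : Odd (n - 2) := by
        obtain ⟨k, hk⟩ := hodd
        exact ⟨k - 1, by omega⟩
      obtain ⟨v, hv, -, hv1, hvo⟩ := exists_big hp hf (m := n - 2) (by omega) hodd' (by
        rintro ⟨h1, h2⟩
        rw [← hq] at h2
        exact hex ⟨h2, by omega⟩)
      rw [← hq] at hvo
      have hvbig : n < v ∧ f < v := by
        have h1 := Nat.le_of_dvd (by have := hv.two_le; omega) hv1
        have h2 : 2 * (n - 2) * 1 ≤ 2 * (n - 2) * f := Nat.mul_le_mul_left _ hf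
        have h3 : 1 * f ≤ 2 * (n - 2) * f := Nat.mul_le_mul_right _ (by omega)
        omega
      refine ⟨v, cyc_psu hF (by omega) (by omega) (by omega) hv hvo ?_, fun h => ?_⟩
      · rw [hq]
        exact ndf_of_lt hp hf hvbig.2
      · exact kill_field hF hv hvo hodd hn5 hvbig.1 hr hr3 hK (dvd_left h)
  · obtain ⟨n₁, n₂, e, P, f₁, f₂, h2, hlt, -, -, -, rfl⟩ := hM
    exact (kill_tensor hF hs hord hm hn hnm e P h2 hlt (dvd_left hsM)).elim
  · obtain ⟨k, t, e, P, f₁, hk, ht, -, -, -, rfl⟩ := hM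
    exact (kill_wreath hF hs hord hm hn hnm (by omega) e P hk ht (dvd_left hsM)).elim

/-- **(b)** a gap for the order -/
theorem geoU_gap (hF : Fintype.card F = q ^ 2) (hn : 4 ≤ n) (hex : ¬ (q = 2 ∧ n ≤ 5)) (M : Subgroup (PSU n F q))
    (hM : M ≠ ⊤) : CGap (PSU n F q) M ∨ InUnitaryResidualClass (pre M) := by
  rcases S5663.result (F := F) n q hF (by omega) (by omega) (pre M) (pre_le M) (pre_proper M hM) with
    ⟨X, hX, hle⟩ | h
  · left
    obtain ⟨v, hv1, hv2⟩ := exists_cyc hF hn hex hX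
    exact ⟨v, hv1, fun h => hv2 ((h.trans (card_dvd_pre M)).trans (Subgroup.card_dvd_of_le hle))⟩
  · exact Or.inr h

/-- **(b)** geometric subgroups of the unitary groups have an index gap -/
theorem geoU_cyc (hF : Fintype.card F = q ^ 2) (hn : 4 ≤ n) (hex : ¬ (q = 2 ∧ n ≤ 6)) (M : Subgroup (PSU n F q))
    (hM : M ≠ ⊤) : IGap (PSU n F q) M ∨ InUnitaryResidualClass (pre M) := by
  rcases geoU_gap hF hn (fun h => hex ⟨h.1, by omega⟩) M hM with h | h
  · exact Or.inl h.iGap
  · exact Or.inr h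

end geo

end Cfsg.Agent.H953.CycU
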