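import Mathlib
import Cfsg.Prelude.Def_KGroupFacts
import Cfsg.Prelude.Def_OddOrderLocal
import Cfsg.Prelude.Def_LieExceptional
import Cfsg.Agent.H504.SzOut
import Cfsg.Agent.S2601
import Cfsg.Agent.S2602

/-!
# `Y / M` is metacyclic for `M` one of `PSL₂(q)`, `Sz(q)`, `PSL₃(4)` of odd index (helper953, task 1819, S3392)
-/

set_option autoImplicit false

namespace Cfsg.Agent.H953.LspB

open Subgroup Cfsg

universe u v

/-- subgroups of odd order of the outer automorphism group are cyclic -/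
def OC (M : Type*) [Group M] : Prop := ∀ B : Subgroup (Out M), Odd (Nat.card B) → IsCyclic B

noncomputable def outCongr {M : Type u} {N : Type v} [Group M] [Group N] (e : M ≃* N) : Cfsg.Out M ≃* Cfsg.Out N :=
  QuotientGroup.congr (Cfsg.Inn M) (Cfsg.Inn N) (MulAut.congr e) (by
    ext α
    constructor
    · rintro ⟨_, ⟨g, rfl⟩, rfl⟩
      refine ⟨e g, ?_⟩
      ext x
      simp [MulAut.congr]
    · rintro ⟨g, rfl⟩
      refine ⟨MulAut.conj (e.symm g), ⟨e.symm g, rfl⟩, ?_⟩
      ext x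
      simp [MulAut.congr])

theorem OC.congr {M : Type u} {N : Type v} [Group M] [Group N] (e : M ≃* N) (h : OC M) : OC N := by
  intro B hB
  have h1 : Nat.card (B.map (outCongr e).symm.toMonoidHom) = Nat.card B :=
    Nat.card_congr (B.equivMapOfInjective _ (outCongr e).symm.injective).toEquiv.symm
  have h2 := h (B.map (outCongr e).symm.toMonoidHom) (by rw [h1]; exact hB)
  exact ((B.equivMapOfInjective _ (outCongr e).symm.injective).isCyclic).2 h2

/-- `Y / M` embeds in `Out M` -/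
theorem isCyclic_quotient {Y : Type u} [Group Y] (M : Subgroup Y) [M.Normal]
    (hC : centralizer (M : Set Y) = ⊥) (hodd : Odd M.index) (h : OC M) : IsCyclic (Y ⧸ M) := by
  obtain ⟨f, hf⟩ : ∃ f : Y →* Out M, f = (QuotientGroup.mk' (Inn M)).comp (MulAut.conjNormal (H := M)) := ⟨_, rfl⟩
  have hker : ∀ g, f g = 1 ↔ g ∈ M := by
    intro g
    rw [hf]
    change (QuotientGroup.mk' (Inn M)) (MulAut.conjNormal g) = 1 ↔ _
    rw [QuotientGroup.mk'_apply, QuotientGroup.eq_one_iff]
    constructor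
    · rintro ⟨t, ht⟩
      have h1 : (t : Y)⁻¹ * g ∈ centralizer (M : Set Y) := by
        rw [mem_centralizer_iff]
        intro x hx
        have h2 := congrArg Subtype.val (DFunLike.congr_fun ht (⟨x, hx⟩ : M))
        rw [MulAut.conj_apply, MulAut.conjNormal_apply] at h2
        have h3 : (t : Y) * x * (t : Y)⁻¹ = g * x * g⁻¹ := h2
        calc x * ((t : Y)⁻¹ * g) = (t : Y)⁻¹ * ((t : Y) * x * (t : Y)⁻¹) * g := by group
          _ = (t : Y)⁻¹ * (g * x * g⁻¹) * g := by rw [h3]
          _ = _ := by group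
      rw [hC, mem_bot] at h1
      have h2 : g = t := by
        have : g = (t : Y) * ((t : Y)⁻¹ * g) := by group
        rw [this, h1, mul_one]
      rw [h2]
      exact t.2
    · intro hg
      refine ⟨⟨g, hg⟩, ?_⟩
      ext x
      rw [MulAut.conj_apply, MulAut.conjNormal_apply]
      rfl
  obtain ⟨φ, hφ⟩ : ∃ φ : Y ⧸ M →* Out M, φ = QuotientGroup.lift M f (fun g hg => (hker g).2 hg) := ⟨_, rfl⟩
  have hinj : Function.Injective φ := by
    rw [injective_iff_map_eq_one]
    intro a ha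
    obtain ⟨g, rfl⟩ := QuotientGroup.mk_surjective a
    rw [hφ] at ha
    exact (QuotientGroup.eq_one_iff g).2 ((hker g).1 ha)
  have h1 : Nat.card φ.range = Nat.card (Y ⧸ M) := Nat.card_congr (MonoidHom.ofInjective hinj).toEquiv.symm
  have h2 := h φ.range (by rw [h1]; exact hodd)
  exact ((MonoidHom.ofInjective hinj).isCyclic).2 h2

theorem metacyclic_of_cyclic {R : Type u} [Group R] (h : IsCyclic R) : Cfsg.IsMetacyclic R :=
  ⟨⊥, inferInstance, inferInstance, isCyclic_of_surjective _ (QuotientGroup.mk'_surjective ⊥)⟩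

/-! ### the three families -/

theorem oc_psl2 {F : Type*} [Field F] [Fintype F] (h4 : 4 ≤ Fintype.card F) :
    OC (Matrix.ProjectiveSpecialLinearGroup (Fin 2) F) := by
  obtain ⟨p, hp⟩ := CharP.exists F
  obtain ⟨f, hpp, hF⟩ := FiniteField.card F p
  have : Fact p.Prime := ⟨hpp⟩
  obtain ⟨φ, -, -, hk⟩ := Cfsg.Agent.S2602.result (F := F) (p := p) (f := f) f.pos hF (by rw [← hF]; exact h4)
  intro B hB
  refine isCyclic_of_injective (φ.comp B.subtype) ?_
  rw [injective_iff_map_eq_one]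
  intro b hb
  have h1 : (b : Out _) ∈ φ.ker := hb
  have h2 : orderOf (b : Out (Matrix.ProjectiveSpecialLinearGroup (Fin 2) F)) ∣ 2 := by
    have h3 := orderOf_dvd_natCard (⟨_, h1⟩ : φ.ker)
    rw [Subgroup.orderOf_mk, hk] at h3
    exact h3.trans (Nat.gcd_dvd_left _ _)
  have h3 : orderOf (b : Out (Matrix.ProjectiveSpecialLinearGroup (Fin 2) F)) ∣ Nat.card B := by
    rw [Subgroup.orderOf_coe]
    exact orderOf_dvd_natCard b
  have h4 : Nat.Coprime 2 (Nat.card B) := Nat.coprime_two_left.2 hB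
  have h5 := Nat.dvd_gcd h2 h3
  rw [h4] at h5
  exact Subtype.ext (orderOf_eq_one_iff.1 (Nat.dvd_one.1 h5))

theorem oc_psl3 {F : Type*} [Field F] [Fintype F] (h4 : Fintype.card F = 4) :
    OC (Matrix.ProjectiveSpecialLinearGroup (Fin 3) F) := by
  have : Fact (Nat.Prime 2) := ⟨Nat.prime_two⟩
  obtain ⟨φ, -, hc, -⟩ := Cfsg.Agent.S2601.result (F := F) (p := 2) (f := 2) (n := 3) (by norm_num)
    (by rw [h4]; norm_num) (by norm_num)
  intro B hB
  have hle : B ≤ φ.ker := by
    intro b hb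
    rw [MonoidHom.mem_ker]
    have h2 : orderOf (φ b) ∣ 2 ^ 2 := by
      have h3 := orderOf_dvd_natCard (φ b)
      have h5 : Nat.card (Multiplicative (ZMod 2 × ZMod 2)) = 4 := by
        rw [Nat.card_congr Multiplicative.toAdd, Nat.card_prod, Nat.card_zmod]
      rw [h5] at h3
      exact h3
    have h3 : orderOf (φ b) ∣ Nat.card B := by
      refine (orderOf_map_dvd φ b).trans ?_
      rw [← Subgroup.orderOf_mk b hb]
      exact orderOf_dvd_natCard _
    have h4 : Nat.Coprime (2 ^ 2) (Nat.card B) := Nat.Coprime.pow_left 2 (Nat.coprime_two_left.2 hB)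
    have h5 := Nat.dvd_gcd h2 h3
    rw [h4] at h5
    exact orderOf_eq_one_iff.1 (Nat.dvd_one.1 h5)
  exact isCyclic_of_injective (Subgroup.inclusion hle) (Subgroup.inclusion_injective hle)

theorem oc_suzuki {M : Type*} [Group M] [Finite M] (h : Cfsg.Lie.IsoSuzuki M) : OC M := by
  intro B _
  have := Cfsg.Agent.H504.SzOut.isCyclic_out h
  infer_instance

/-- **LSP-B** -/
theorem metacyclic_of_odd_index {Y : Type*} [Group Y] [Finite Y] (M : Subgroup Y) [M.Normal]
    (hM : (∃ (F : Type) (_ : Field F) (_ : Fintype F), Fintype.card F = 4 ∧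
        Nonempty (M ≃* Matrix.ProjectiveSpecialLinearGroup (Fin 3) F)) ∨
      (∃ (F : Type) (_ : Field F) (_ : Fintype F), 4 ≤ Fintype.card F ∧
        Nonempty (M ≃* Matrix.ProjectiveSpecialLinearGroup (Fin 2) F)) ∨ Cfsg.Lie.IsoSuzuki M)
    (hC : Subgroup.centralizer (M : Set Y) = ⊥) (hodd : Odd M.index) : Cfsg.IsMetacyclic (Y ⧸ M) := by
  apply metacyclic_of_cyclic
  apply isCyclic_quotient M hC hodd
  rcases hM with ⟨F, _, _, h4, ⟨e⟩⟩ | ⟨F, _, _, h4, ⟨e⟩⟩ | h
  · exact (oc_psl3 h4).congr e.symm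
  · exact (oc_psl2 h4).congr e.symm
  · exact oc_suzuki h

end Cfsg.Agent.H953.LspB
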