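import Cfsg.Agent.H953.DSum
import Cfsg.Agent.H402.Rec.Cand

/-!
# S3456: the rows `PSL_n(u)`, `PSU_n(u)`, `n ≥ 4`, `3 ∤ u` (helper953, tasks 1041, 1042)
-/

set_option autoImplicit false
set_option linter.unusedSectionVars false

namespace Cfsg.Agent.H953.RecLin

open Matrix Cfsg.Agent.H403 NumTop Cfsg.Agent.H402.Rec Cfsg.Agent.H953.DSum

section

variable {e' : Bool} {n u : ℕ}

theorem int_dvd_AA {e : Bool} {i q r : ℕ} (hq : 1 ≤ q) : r ∣ AA e i q ↔ (r : ℤ) ∣ xv e q ^ i - 1 := by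
  rw [dvd_AA_iff hq, ← ZMod.intCast_zmod_eq_zero_iff_dvd]
  push_cast
  rw [sub_eq_zero]

theorem ord_ne {e : Bool} {i q r : ℕ} (h : orderOf ((xv e q : ℤ) : ZMod r) = i) {j : ℕ} (hj : ¬ i ∣ j) (hq : 1 ≤ q) :
    ¬ r ∣ AA e j q := by
  rw [dvd_AA_iff hq, ← orderOf_dvd_iff_pow_eq_one, h]
  exact hj

theorem ord_dvd {e : Bool} {i q r : ℕ} (h : orderOf ((xv e q : ℤ) : ZMod r) = i) {j : ℕ} (hj : i ∣ j) (hq : 1 ≤ q) :
    r ∣ AA e j q := by
  rw [dvd_AA_iff hq, ← orderOf_dvd_iff_pow_eq_one, h]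
  exact hj

variable {F : Type*} [Field F] [Fintype F] {S : Type*} [Group S]

/-- `c • 1 = 1` -/
theorem eq_one_of_smul {n : ℕ} (hn : 0 < n) {c : F} (h : c • (1 : Matrix (Fin n) (Fin n) F) = 1) : c = 1 := by
  have := congrFun (congrFun h ⟨0, hn⟩) ⟨0, hn⟩
  simpa using this

theorem smul_pow_one {n : ℕ} (c : F) (k : ℕ) : (c • (1 : Matrix (Fin n) (Fin n) F)) ^ k = c ^ k • 1 := by
  rw [smul_pow, one_pow]

/-- `M ^ j = c`, `M ^ N = 1`: `c ^ N = 1` -/
theorem pow_of_pow {n : ℕ} (hn : 0 < n) {M : Matrix (Fin n) (Fin n) F} {j N : ℕ} {c : F} (h : M ^ j = c • 1)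
    (hN : M ^ N = 1) : c ^ N = 1 := by
  apply eq_one_of_smul hn
  rw [← smul_pow_one, ← h, ← pow_mul, mul_comm, pow_mul, hN, one_pow]

theorem det_eq_one {n N : ℕ} {e : Bool} {q : ℕ} (hF : Fintype.card F = q ^ (cond e 0 1 + 1)) {M : Matrix (Fin n) (Fin n) F}
    (hM : Is e q M) (hN : M ^ N = 1) (hc : Nat.Coprime N (AA e 1 q)) : M.det = 1 := by
  have h1 : M.det ^ N = 1 := by rw [← Matrix.det_pow, hN, det_one]
  exact eq_one_of_coprime hc h1 (hM.det_pow hF)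

/-- **`x ≡ 1 (mod 3)`** -/
theorem nine_one (hL : IsL S e' n u F) (hF : Fintype.card F = u ^ (cond e' 0 1 + 1)) (hn : 4 ≤ n)
    (hx : (3 : ℤ) ∣ xv e' u - 1) (he : ¬ (e' = false ∧ u = 2)) : ∃ g : S, 9 ∣ orderOf g ∧ orderOf g ≠ 9 := by
  have hu := two_le_of_card hF
  obtain ⟨r, hr, -, hr3⟩ := exists_prime (e := e') (i := 3) (q := u) hu le_rfl (by
    rintro (⟨-, h, -⟩ | ⟨h1, -, h2⟩)
    · omega
    · exact he ⟨h1, h2⟩)
  have hrn3 : r ≠ 3 := by
    rintro rfl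
    have h1 : ¬ 3 ∣ AA e' 1 u := ord_ne hr3 (by norm_num) (by omega)
    rw [int_dvd_AA (by omega), pow_one] at h1
    exact h1 hx
  obtain ⟨m, hm⟩ := hx
  have hX : xv e' u = 3 * m + 1 := by linarith
  have hc9 : Nat.Coprime 9 r := by
    have : Nat.Coprime (3 ^ 2) r := Nat.Coprime.pow_left 2 ((Nat.coprime_primes Nat.prime_three hr).2 (Ne.symm hrn3))
    exact this
  have hrd : (r : ℤ) ∣ xv e' u ^ 2 + xv e' u + 1 := by
    have h1 : (r : ℤ) ∣ xv e' u ^ 3 - 1 := (int_dvd_AA (by omega)).1 (ord_dvd hr3 dvd_rfl (by omega))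
    have h2 : ¬ (r : ℤ) ∣ xv e' u - 1 := by
      have := ord_ne hr3 (j := 1) (by norm_num) (by omega)
      rwa [int_dvd_AA (by omega), pow_one] at this
    have h3 : xv e' u ^ 3 - 1 = (xv e' u - 1) * (xv e' u ^ 2 + xv e' u + 1) := by ring
    rw [h3] at h1
    exact ((Nat.prime_iff_prime_int.1 hr).dvd_or_dvd h1).resolve_left h2
  -- `3 r (x - 1) ∣ x³ - 1`
  have h3r : ((3 * r : ℕ) : ℤ) ∣ xv e' u ^ 2 + xv e' u + 1 := by
    have hcop : IsCoprime (3 : ℤ) (r : ℤ) := by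
      have := (Nat.coprime_primes Nat.prime_three hr).2 (Ne.symm hrn3)
      exact_mod_cast this.isCoprime
    push_cast
    refine hcop.mul_dvd ?_ hrd
    rw [hX]
    exact ⟨3 * m ^ 2 + 3 * m + 1, by ring⟩
  have hdiv : 3 * r * AA e' 1 u ∣ AA e' 3 u := by
    have h1 : ((3 * r * AA e' 1 u : ℕ) : ℤ) ∣ xv e' u ^ 3 - 1 := by
      have h3 : xv e' u ^ 3 - 1 = (xv e' u ^ 2 + xv e' u + 1) * (xv e' u - 1) := by ring
      rw [h3, Nat.cast_mul]
      refine mul_dvd_mul h3r ?_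
      rcases AA_eq (e := e') (i := 1) (q := u) (by omega) with h | h
      · rw [h, pow_one]
      · rw [h, pow_one]
        exact (neg_dvd).2 dvd_rfl
    exact (int_dvd_AA (by omega)).2 h1
  have hNd : 9 * r ∣ AA e' 3 u := by
    refine hc9.mul_dvd_of_dvd_of_dvd ?_ (ord_dvd hr3 dvd_rfl (by omega))
    rw [int_dvd_AA (by omega), hX]
    exact ⟨3 * m ^ 3 + 3 * m ^ 2 + m, by push_cast; ring⟩
  have hA3 : 0 < AA e' 3 u := by
    have h1 : 1 < u ^ 3 := Nat.one_lt_pow (by norm_num) (by omega)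
    unfold AA
    split_ifs <;> omega
  obtain ⟨M3, hM3, hM3o⟩ := exists_tor hF (i := 3) (by norm_num) (dvd_refl (AA e' 3 u)) hA3
  obtain ⟨t, ht⟩ := hNd
  have ht0 : 0 < t := by
    apply Nat.pos_of_ne_zero
    rintro rfl
    omega
  obtain ⟨M, hM⟩ : ∃ M, M = M3 ^ t := ⟨_, rfl⟩
  have hMo : orderOf M = 9 * r := by
    rw [hM, orderOf_pow_of_dvd ht0.ne' (by rw [hM3o, ht]; exact dvd_mul_left _ _), hM3o, ht,
      Nat.mul_div_cancel _ ht0]
  have hMI : Is e' u M := by rw [hM]; exact hM3.pow hF t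
  obtain ⟨δ, hδ⟩ : ∃ δ, δ = M.det := ⟨_, rfl⟩
  have hδ3 : δ ^ 3 = 1 := by
    have h1 : AA e' 1 u ∣ 3 * t := by
      rw [ht] at hdiv
      have h2 : 3 * r * AA e' 1 u ∣ 3 * r * (3 * t) := by
        have : 9 * r * t = 3 * r * (3 * t) := by ring
        rwa [this] at hdiv
      exact Nat.dvd_of_mul_dvd_mul_left (Nat.mul_pos (by norm_num) hr.pos) h2
    obtain ⟨s, hs⟩ := h1
    rw [hδ, hM, Matrix.det_pow, ← pow_mul, mul_comm t 3, hs, pow_mul, hM3.det_pow hF, one_pow]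
  have hδA : δ ^ AA e' 1 u = 1 := by rw [hδ]; exact hMI.det_pow hF
  have hδ0 : δ ≠ 0 := by
    rintro rfl
    rw [zero_pow (by norm_num)] at hδ3
    exact zero_ne_one hδ3
  have hM9 : M ^ (9 * r) = 1 := by rw [← hMo]; exact pow_orderOf_eq_one M
  obtain ⟨k, rfl⟩ := Nat.exists_eq_add_of_le hn
  obtain ⟨g, hg⟩ := exists_L hL hF (by omega) (M := ds (ds M (δ⁻¹ • (1 : Matrix (Fin 1) (Fin 1) F)))
    (1 : Matrix (Fin k) (Fin k) F)) (Is.ds (by omega) (Is.ds (by omega) hMI (Is.smul_one hF (by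
      rw [inv_pow, hδA, inv_one]))) (Is.one (by omega))) (by
      rw [det_ds, det_ds, det_smul, det_one, det_one, ← hδ]
      simp [hδ0]) (N := 9 * r) (by
      rw [ds_pow, ds_pow, hM9, smul_pow_one, inv_pow, show 9 * r = 3 * (3 * r) by ring, pow_mul, hδ3, one_pow, one_pow,
        inv_one, one_smul, ds_one, ds_one]) (by
      intro j c h
      rw [ds_pow, ds_pow, ds_eq_smul_iff, ds_eq_smul_iff, smul_pow_one] at h
      obtain ⟨⟨h1, h2⟩, -⟩ := h
      have hcδ : δ⁻¹ ^ j = c := by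
        have := congrFun (congrFun h2 0) 0
        simpa using this
      have hc3 : c ^ 3 = 1 := by
        rw [← hcδ, ← pow_mul, mul_comm, pow_mul, inv_pow, hδ3, inv_one, one_pow]
      have h3 : M ^ (3 * j) = 1 := by
        rw [mul_comm, pow_mul, h1, smul_pow_one, hc3, one_smul]
      have h4 := orderOf_dvd_of_pow_eq_one h3
      rw [hMo] at h4
      have h5 : 3 * r ∣ j := by
        apply Nat.dvd_of_mul_dvd_mul_left (by norm_num : 0 < 3)
        have : 3 * (3 * r) = 9 * r := by ring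
        rwa [this]
      obtain ⟨i, rfl⟩ := h5
      have hc1 : c = 1 := by
        rw [← hcδ, mul_assoc, pow_mul, inv_pow, hδ3, inv_one, one_pow]
      rw [hc1, one_smul] at h1
      rw [← hMo]
      exact orderOf_dvd_of_pow_eq_one h1)
  refine ⟨g, by rw [hg]; exact dvd_mul_right _ _, ?_⟩
  rw [hg]
  have := hr.two_le
  omega

/-- **`PSU_n(2)`, `n ≥ 5`** -/
theorem eighteen (hL : IsL S false n 2 F) (hF : Fintype.card F = 2 ^ 2) (hn : 5 ≤ n) : ∃ g : S, orderOf g = 18 := by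
  have hF' : Fintype.card F = 2 ^ (cond false 0 1 + 1) := hF
  obtain ⟨p, hp⟩ := CharP.exists F
  obtain ⟨f, hpp, hf⟩ := FiniteField.card F p
  have hpf := Fact.mk hpp
  have hp2 : p = 2 := by
    have h1 : p ∣ 2 ^ 2 := by
      rw [← hF, hf]
      exact dvd_pow_self p f.pos.ne'
    exact (Nat.prime_dvd_prime_iff_eq hpp Nat.prime_two).1 (hpp.dvd_of_dvd_pow h1)
  subst hp2
  have hA1 : AA false 1 2 = 3 := rfl
  have hA3 : AA false 3 2 = 9 := rfl
  obtain ⟨M, hM, hMo⟩ := exists_tor hF' (i := 3) (N := 9) (by norm_num) (by rw [hA3]) (by norm_num)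
  obtain ⟨U, hU, hUo, hUd⟩ := exists_uni (e := false) (q := 2) hF' (p := 2)
  obtain ⟨δ, hδ⟩ : ∃ δ, δ = M.det := ⟨_, rfl⟩
  have hδ3 : δ ^ 3 = 1 := by rw [hδ]; exact hM.det_pow hF'
  have hM9 : M ^ 9 = 1 := by rw [← hMo]; exact pow_orderOf_eq_one M
  have hU2 : U ^ 2 = 1 := by
    have := pow_orderOf_eq_one U
    rwa [hUo] at this
  obtain ⟨k, rfl⟩ := Nat.exists_eq_add_of_le hn
  refine exists_L hL hF' (by omega) (M := ds (ds M (δ • U)) (1 : Matrix (Fin k) (Fin k) F))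
    (Is.ds (by norm_num) (Is.ds (by norm_num) hM (Is.smul hF' (by rw [hA1, hδ3]) hU)) (Is.one (by norm_num))) (by
      rw [det_ds, det_ds, det_smul, det_one, ← hδ, hUd, Fintype.card_fin, mul_one, mul_one, ← pow_succ', hδ3])
    (by
      rw [ds_pow, ds_pow, show (18 : ℕ) = 9 * 2 by norm_num, pow_mul M, hM9, one_pow, one_pow, smul_pow,
        show (9 * 2 : ℕ) = 3 * 6 by norm_num, pow_mul δ, hδ3, one_pow, one_smul, show (3 * 6 : ℕ) = 2 * 9 by norm_num,
        pow_mul U, hU2, one_pow, ds_one, ds_one]) ?_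
  intro j c h
  rw [ds_pow, ds_pow, ds_eq_smul_iff, ds_eq_smul_iff, smul_pow] at h
  obtain ⟨⟨h1, h2⟩, -⟩ := h
  have hc0 : c ≠ 0 := by
    rintro rfl
    have h3 := pow_of_pow (by norm_num) h1 hM9
    rw [zero_pow (by norm_num)] at h3
    exact zero_ne_one h3
  have hc3 : c ^ 3 = 1 := by
    have := FiniteField.pow_card_sub_one_eq_one c hc0
    rwa [hF] at this
  have h3 : M ^ (3 * j) = 1 := by
    rw [mul_comm, pow_mul, h1, smul_pow_one, hc3, one_smul]
  have h4 := orderOf_dvd_of_pow_eq_one h3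
  rw [hMo] at h4
  have h5 : 3 ∣ j := by omega
  obtain ⟨i, rfl⟩ := h5
  have hU' : U ^ (3 * i) = c • 1 := by
    rw [pow_mul δ, hδ3, one_pow, one_smul] at h2
    exact h2
  have hU3 : U ^ (3 * (3 * i)) = 1 := by
    rw [mul_comm 3 (3 * i), pow_mul, hU', smul_pow_one, hc3, one_smul]
  have h6 := orderOf_dvd_of_pow_eq_one hU3
  rw [hUo] at h6
  have h7 : 2 ∣ i := by omega
  obtain ⟨i', rfl⟩ := h7
  have hc1 : c = 1 := by
    apply eq_one_of_smul (n := 2) (by norm_num)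
    rw [← hU', show 3 * (2 * i') = 2 * (3 * i') by ring, pow_mul, hU2, one_pow]
  rw [hc1, one_smul] at h1
  have h8 := orderOf_dvd_of_pow_eq_one h1
  rw [hMo] at h8
  omega

/-- the torus of order `9 r` -/
theorem nine_tor (hL : IsL S e' n u F) (hF : Fintype.card F = u ^ (cond e' 0 1 + 1)) (hn : 3 ≤ n) {i r : ℕ}
    (hi : 1 ≤ i) (hin : i ≤ n) (hr : r.Prime) (hr3 : r ≠ 3) (h1 : ¬ r ∣ AA e' 1 u) (hri : r ∣ AA e' i u)
    (h3 : ¬ 3 ∣ AA e' 1 u) (h9 : 9 ∣ AA e' i u) : ∃ g : S, 9 ∣ orderOf g ∧ orderOf g ≠ 9 := by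
  have hc9 : Nat.Coprime 9 r := by
    have : Nat.Coprime (3 ^ 2) r := Nat.Coprime.pow_left 2 ((Nat.coprime_primes Nat.prime_three hr).2 (Ne.symm hr3))
    exact this
  obtain ⟨g, hg⟩ := hL.exists_tor_le hF hn hi hin (N := 9 * r) (Nat.mul_pos (by norm_num) hr.pos)
    (Nat.Coprime.mul_left (by
      have h4 : Nat.Coprime (3 ^ 2) (AA e' 1 u) :=
        Nat.Coprime.pow_left 2 ((Nat.prime_three.coprime_iff_not_dvd).2 h3)
      exact h4) ((hr.coprime_iff_not_dvd).2 h1))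
    (hc9.mul_dvd_of_dvd_of_dvd h9 hri)
  refine ⟨g, by rw [hg]; exact dvd_mul_right _ _, ?_⟩
  rw [hg]
  have := hr.two_le
  omega

/-- products of two coprime primes from a direct sum with trivial determinants -/
theorem exists_prod (hL : IsL S e' n u F) (hF : Fintype.card F = u ^ (cond e' 0 1 + 1)) (hn : 3 ≤ n) {a b r s : ℕ}
    (ha : 0 < a) (hb : 0 < b) (hab : a + b ≤ n) (hrs : Nat.Coprime r s) {A : Matrix (Fin a) (Fin a) F}
    {B : Matrix (Fin b) (Fin b) F}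
    (hA : Is e' u A) (hB : Is e' u B) (hAd : A.det = 1) (hBd : B.det = 1) (hAr : orderOf A = r) (hBs : orderOf B = s) :
    ∃ g : S, orderOf g = r * s := by
  have hu := two_le_of_card hF
  have hAr' : A ^ r = 1 := by rw [← hAr]; exact pow_orderOf_eq_one A
  have hBs' : B ^ s = 1 := by rw [← hBs]; exact pow_orderOf_eq_one B
  obtain ⟨k, rfl⟩ := Nat.exists_eq_add_of_le hab
  refine exists_L hL hF hn (M := ds (ds A B) (1 : Matrix (Fin k) (Fin k) F))
    (Is.ds (by omega) (Is.ds (by omega) hA hB) (Is.one (by omega))) (by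
      rw [det_ds, det_ds, hAd, hBd, det_one, mul_one, mul_one]) (by
      rw [ds_pow, ds_pow, pow_mul A, hAr', one_pow, mul_comm r s, pow_mul B, hBs', one_pow, one_pow, ds_one, ds_one]) ?_
  intro j c h
  rw [ds_pow, ds_pow, ds_eq_smul_iff, ds_eq_smul_iff] at h
  obtain ⟨⟨h1, h2⟩, -⟩ := h
  have hc1 : c = 1 := by
    have h3 := pow_of_pow ha h1 hAr'
    have h4 := pow_of_pow hb h2 hBs'
    exact eq_one_of_coprime hrs h3 h4
  rw [hc1, one_smul] at h1 h2
  refine hrs.mul_dvd_of_dvd_of_dvd ?_ ?_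
  · rw [← hAr]; exact orderOf_dvd_of_pow_eq_one h1
  · rw [← hBs]; exact orderOf_dvd_of_pow_eq_one h2

/-- **Primes joined to 3**, if `3 ∣ x + 1`. -/
theorem ord_of_not_joined (hL : IsL S e' n u F) (hF : Fintype.card F = u ^ (cond e' 0 1 + 1)) (hn : n = 4 ∨ n = 5)
    (hx : (3 : ℤ) ∣ xv e' u + 1) {r : ℕ} (hr : r.Prime) (hr5 : 5 ≤ r) (hg : ∃ g : S, orderOf g = r)
    (h3 : ∀ g : S, orderOf g ≠ 3 * r) : orderOf ((xv e' u : ℤ) : ZMod r) = 3 + 2 * (n - 4) := by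
  have hu := two_le_of_card hF
  have hn3 : 3 ≤ n := by omega
  have h31 : ¬ 3 ∣ AA e' 1 u := by
    rw [int_dvd_AA (by omega), pow_one]
    rintro ⟨a, ha⟩
    obtain ⟨b, hb⟩ := hx
    omega
  have h32 : 3 ∣ AA e' 2 u := by
    rw [int_dvd_AA (by omega)]
    obtain ⟨b, hb⟩ := hx
    exact ⟨b * (xv e' u - 1), by push_cast; linear_combination (xv e' u - 1) * hb⟩
  have hc3r : Nat.Coprime 3 r := (Nat.coprime_primes Nat.prime_three hr).2 (by omega)
  obtain ⟨M2, hM2, hM2o⟩ := exists_tor hF (i := 2) (by norm_num) h32 (by norm_num)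
  have hM23 : M2 ^ 3 = 1 := by rw [← hM2o]; exact pow_orderOf_eq_one M2
  have hM2d : M2.det = 1 := det_eq_one hF hM2 hM23 ((Nat.prime_three.coprime_iff_not_dvd).2 h31)
  obtain ⟨p, hp⟩ := CharP.exists F
  obtain ⟨f, hpp, hf⟩ := FiniteField.card F p
  have hpf := Fact.mk hpp
  by_cases hru : r ∣ u
  · -- the characteristic
    exfalso
    have hrp : r = p := by
      have h1 : r ∣ p ^ (f : ℕ) := by
        rw [← hf, hF]
        exact dvd_pow hru (by omega)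
      exact (Nat.prime_dvd_prime_iff_eq hr hpp).1 (hr.dvd_of_dvd_pow h1)
    obtain ⟨U, hU, hUo, hUd⟩ := exists_uni (e := e') (q := u) hF (p := p)
    obtain ⟨g, hg⟩ := exists_prod hL hF hn3 (by norm_num) (by norm_num) (by omega) (by rwa [← hrp]) hM2 hU hM2d hUd
      hM2o hUo
    exact h3 g (by rw [hg, hrp])
  obtain ⟨hi1, hin⟩ := (hL.lin (E := AlgebraicClosure F) hF hn3).ord_le hF (by omega) hr hru hg
  obtain ⟨i, hi⟩ : ∃ i, orderOf ((xv e' u : ℤ) : ZMod r) = i := ⟨_, rfl⟩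
  rw [hi] at hi1 hin ⊢
  have hr1 : i ≠ 1 → ¬ r ∣ AA e' 1 u := fun h => ord_ne hi (by rwa [Nat.dvd_one]) (by omega)
  -- the even cases
  have heven : ∀ j : ℕ, 2 ∣ j → j ≤ n → 1 ≤ j → i = j → False := by
    rintro j ⟨j', rfl⟩ hjn hj1 rfl
    obtain ⟨g, hg⟩ := hL.exists_tor_le hF hn3 hj1 hjn (N := 3 * r) (Nat.mul_pos (by norm_num) hr.pos)
      (Nat.Coprime.mul_left ((Nat.prime_three.coprime_iff_not_dvd).2 h31)
        ((hr.coprime_iff_not_dvd).2 (hr1 (by omega))))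
      (hc3r.mul_dvd_of_dvd_of_dvd (by
        rw [int_dvd_AA (by omega)] at h32 ⊢
        rw [pow_mul]
        exact h32.trans (by simpa using sub_dvd_pow_sub_pow (xv e' u ^ 2) 1 j')) (ord_dvd hi dvd_rfl (by omega)))
    exact h3 g hg
  have h1 : i ≠ 1 := by
    rintro rfl
    obtain ⟨D, hD, hDo⟩ := exists_tor hF (i := 1) le_rfl (ord_dvd hi dvd_rfl (by omega)) hr.pos
    have hDr : D ^ r = 1 := by rw [← hDo]; exact pow_orderOf_eq_one D
    have hsplit : D.det * (D ^ (r - 1)).det = 1 := by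
      rw [← det_mul, ← pow_succ', Nat.sub_add_cancel hr.one_lt.le, hDr, det_one]
    have hDDo : orderOf (ds D (D ^ (r - 1))) = r := by
      apply orderOf_eq_prime (hp := ⟨hr⟩)
      · rw [ds_pow, hDr, ← pow_mul, mul_comm, pow_mul, hDr, one_pow, ds_one]
      · intro h
        rw [← ds_one] at h
        have h2 := (ds_inj h).1
        rw [h2, orderOf_one] at hDo
        exact hr.one_lt.ne hDo
    obtain ⟨g, hg⟩ := exists_prod hL hF hn3 (by norm_num) (by norm_num) (by omega) hc3r hM2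
      (hD.ds (by omega) (hD.pow hF (r - 1))) hM2d (by rw [det_ds, hsplit]) hM2o hDDo
    exact h3 g hg
  have h35 : n = 5 → i ≠ 3 := by
    rintro rfl rfl
    obtain ⟨M3, hM3, hM3o⟩ := exists_tor hF (i := 3) (by norm_num) (ord_dvd hi dvd_rfl (by omega)) hr.pos
    have hM3r : M3 ^ r = 1 := by rw [← hM3o]; exact pow_orderOf_eq_one M3
    have hM3d : M3.det = 1 := det_eq_one hF hM3 hM3r ((hr.coprime_iff_not_dvd).2 (hr1 (by norm_num)))
    obtain ⟨g, hg⟩ := exists_prod hL hF hn3 (by norm_num) (by norm_num) (by norm_num) hc3r hM2 hM3 hM2d hM3d hM2o hM3o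
    exact h3 g hg
  have h2 : i ≠ 2 := fun h => heven 2 (by norm_num) (by omega) (by norm_num) h
  have h4 : i ≠ 4 := fun h => heven 4 (by norm_num) (by omega) (by norm_num) h
  rcases hn with rfl | rfl
  · omega
  · have := h35 rfl
    omega

/-- no elements of order 9 -/
theorem no_nine (hL : IsL S e' n u F) (hF : Fintype.card F = u ^ (cond e' 0 1 + 1)) (hn : n = 4 ∨ n = 5)
    (h3F : (3 : F) ≠ 0) (hx : (3 : ℤ) ∣ xv e' u + 1) (hx9 : ¬ (9 : ℤ) ∣ xv e' u + 1) (g : S) : orderOf g ≠ 9 := by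
  intro hg
  have hu := two_le_of_card hF
  have hn3 : 3 ≤ n := by omega
  have hfi : Nonempty (Fin n) := ⟨⟨0, by omega⟩⟩
  obtain ⟨M, -, hM, hMk⟩ := hL.lin (E := AlgebraicClosure F) hF hn3 g
  obtain ⟨A0, hA0⟩ : ∃ A0, A0 = AA e' 1 u := ⟨_, rfl⟩
  have h31 : ¬ 3 ∣ A0 := by
    rw [hA0, int_dvd_AA (by omega), pow_one]
    rintro ⟨a, ha⟩
    obtain ⟨b, hb⟩ := hx
    omega
  obtain ⟨c, hc⟩ := (hMk 9).1 (by rw [← hg]; exact pow_orderOf_eq_one g)
  have hy9 : ∀ y ∈ evs (AlgebraicClosure F) M, y ^ 9 = algebraMap F (AlgebraicClosure F) c :=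
    fun y hy => pow_of_mem_evs (AlgebraicClosure F) hc hy
  have hz9 : ∀ y ∈ evs (AlgebraicClosure F) M, (y ^ A0) ^ 9 = 1 := by
    intro y hy
    have h0 := hM.ne_zero hy
    have h1 := hy9 _ (hM.mem hy)
    have h2 : (y ^ 9) ^ xv e' u = y ^ 9 := by
      rw [← zpow_pow_comm, h1, hy9 y hy]
    rw [← pow_mul, mul_comm, pow_mul, hA0]
    exact pow_AA_of_fix (by omega) (pow_ne_zero 9 h0) h2
  -- all third powers are trivial
  have hz3 : ∀ y ∈ evs (AlgebraicClosure F) M, (y ^ A0) ^ 3 = 1 := by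
    intro y hy
    by_contra h3
    have h0 := hM.ne_zero hy
    obtain ⟨z, hz⟩ : ∃ z, z = y ^ A0 := ⟨_, rfl⟩
    have hzo : orderOf z = 9 := by
      have h1 := orderOf_dvd_of_pow_eq_one (hz9 y hy)
      rw [← hz] at h1
      have h2 : orderOf z ∣ 3 ^ 2 := by simpa using h1
      obtain ⟨i, hi, he⟩ := (Nat.dvd_prime_pow Nat.prime_three).1 h2
      interval_cases i
      · exfalso
        rw [pow_zero, orderOf_eq_one_iff] at he
        apply h3
        rw [← hz, he, one_pow]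
      · exfalso
        apply h3
        rw [← hz, ← orderOf_dvd_iff_pow_eq_one, he]
        norm_num
      · simpa using he
    have hz0 : z ≠ 0 := by rw [hz]; exact pow_ne_zero _ h0
    have hper := pow_per (xv e' u) y
    obtain ⟨m, hm⟩ : ∃ m, m = per (xv e' u) y := ⟨_, rfl⟩
    rw [← hm] at hper
    have hm0 : 0 < m := by rw [hm]; exact hM.per_pos hy
    have hmn : m ≤ n := by
      rw [hm, ← card_orb]
      have := Multiset.card_le_card (hM.orb_le hy)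
      rwa [card_evs, Fintype.card_fin] at this
    have h5 : (9 : ℤ) ∣ xv e' u ^ m - 1 := by
      have h6 : z ^ (xv e' u ^ m) = z := by
        rw [hz, ← zpow_pow_comm, hper]
      have h7 : z ^ (xv e' u ^ m - 1) = 1 := by rw [zpow_sub₀ hz0, h6, zpow_one, div_self hz0]
      have h8 : (Units.mk0 z hz0) ^ (xv e' u ^ m - 1) = 1 := by
        apply Units.ext
        simpa using h7
      have h9 := orderOf_dvd_iff_zpow_eq_one.2 h8
      rw [← orderOf_units, Units.val_mk0, hzo] at h9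
      exact_mod_cast h9
    obtain ⟨b, hb⟩ := hx
    have hX : xv e' u = 3 * b - 1 := by linarith
    have hb3 : ¬ (3 : ℤ) ∣ b := by
      rintro ⟨b', rfl⟩
      exact hx9 ⟨b', by rw [hb]; ring⟩
    rw [hX] at h5
    have hm5 : m ≤ 5 := by omega
    -- modulo 9
    have key : (9 : ℤ) ∣ (3 * b - 1) ^ m - (-1) ^ m * (1 - 3 * m * b) := by
      interval_cases m
      · exact ⟨0, by ring⟩
      · exact ⟨b ^ 2, by ring⟩
      · exact ⟨3 * b ^ 3 - 3 * b ^ 2, by ring⟩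
      · exact ⟨9 * b ^ 4 - 12 * b ^ 3 + 6 * b ^ 2, by ring⟩
      · exact ⟨27 * b ^ 5 - 45 * b ^ 4 + 30 * b ^ 3 - 10 * b ^ 2, by ring⟩
    have h6 : (9 : ℤ) ∣ (-1) ^ m * (1 - 3 * m * b) - 1 := by
      have := dvd_sub h5 key
      have e1 : (3 * b - 1) ^ m - 1 - ((3 * b - 1) ^ m - (-1) ^ m * (1 - 3 * m * b)) =
        (-1) ^ m * (1 - 3 * m * b) - 1 := by ring
      rwa [e1] at this
    interval_cases m
    · norm_num at h6; omega
    · norm_num at h6; omega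
    · norm_num at h6; omega
    · norm_num at h6; omega
    · norm_num at h6; omega
  have hM1 : M ^ (A0 * 3) = (1 : F) • (1 : Matrix (Fin n) (Fin n) F) := by
    apply pow_eq_smul_of_coprime (AlgebraicClosure F) (k := A0 * 3) (m := 3) one_ne_zero
      (by exact_mod_cast h3F) (ζ := c ^ A0)
    · rw [mul_assoc, show 3 * 3 = 9 by norm_num, mul_comm, pow_mul, hc, smul_pow, one_pow]
    · intro y hy
      rw [pow_mul, hz3 y hy, map_one]
  have h1 := (hMk (A0 * 3)).2 ⟨1, hM1⟩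
  have h2 := orderOf_dvd_of_pow_eq_one h1
  rw [hg] at h2
  omega

end

section Main

variable {e : Bool} {k : ℕ} {S : Type*} [Group S] [Finite S] {F : Type*} [Field F] [Fintype F]

/-- **`PSL_n(u)` and `PSU_n(u)`, `n ≥ 4`** -/
theorem isL_false (h : Cand3 e k S) {e' : Bool} {n u : ℕ} (hL : IsL S e' n u F)
    (hF : Fintype.card F = u ^ (cond e' 0 1 + 1)) (h3 : (3 : F) ≠ 0) (hn : 4 ≤ n)
    (h42 : ¬ (e' = false ∧ n = 4 ∧ u = 2)) : False := by
  have hu := two_le_of_card hF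
  have h3u : ¬ 3 ∣ u := by
    intro hd
    apply h3
    obtain ⟨p, hp⟩ := CharP.exists F
    obtain ⟨f, hpp, hf⟩ := FiniteField.card F p
    have h1 : 3 ∣ p ^ (f : ℕ) := by
      rw [← hf, hF]
      exact dvd_pow hd (by omega)
    have h2 : 3 = p := (Nat.prime_dvd_prime_iff_eq Nat.prime_three hpp).1 (Nat.prime_three.dvd_of_dvd_pow h1)
    subst h2
    exact_mod_cast CharP.cast_eq_zero F 3
  have hX3 : ¬ (3 : ℤ) ∣ xv e' u := by
    unfold xv
    split_ifs
    · exact_mod_cast h3u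
    · rw [dvd_neg]
      exact_mod_cast h3u
  have hnine : ∀ g : S, 9 ∣ orderOf g → orderOf g = 9 := fun g hg => h.nine hg
  by_cases hx1 : (3 : ℤ) ∣ xv e' u - 1
  · by_cases he : e' = false ∧ u = 2
    · obtain ⟨rfl, rfl⟩ := he
      obtain ⟨g, hg⟩ := eighteen hL (by simpa using hF) (by
        have : n ≠ 4 := fun h4 => h42 ⟨rfl, h4, rfl⟩
        omega)
      have := hnine g (by rw [hg]; norm_num)
      omega
    · obtain ⟨g, hg, hg'⟩ := nine_one hL hF hn hx1 he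
      exact hg' (hnine g hg)
  have hx : (3 : ℤ) ∣ xv e' u + 1 := by omega
  have h31 : ¬ 3 ∣ AA e' 1 u := by
    rw [int_dvd_AA (by omega), pow_one]
    exact hx1
  have hne : ¬ (e' = false ∧ u = 2) := by
    rintro ⟨rfl, rfl⟩
    apply hx1
    exact ⟨-1, by simp [xv]⟩
  have h32 : 3 ∣ AA e' 2 u := by
    rw [int_dvd_AA (by omega)]
    obtain ⟨b, hb⟩ := hx
    exact ⟨b * (xv e' u - 1), by push_cast; linear_combination (xv e' u - 1) * hb⟩
  by_cases hx9 : (9 : ℤ) ∣ xv e' u + 1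
  · obtain ⟨r, hr, -, hri⟩ := exists_prime (e := e') (i := 4) (q := u) hu (by norm_num) (by
      rintro (⟨-, h, -⟩ | ⟨-, h, -⟩) <;> omega)
    obtain ⟨g, hg, hg'⟩ := nine_tor hL hF (by omega) (i := 4) (by norm_num) hn hr (by
      rintro rfl
      exact ord_ne hri (j := 2) (by norm_num) (by omega) h32) (ord_ne hri (by norm_num) (by omega))
      (ord_dvd hri dvd_rfl (by omega)) h31 (by
        rw [int_dvd_AA (by omega)]
        obtain ⟨b, hb⟩ := hx9
        exact ⟨b * (xv e' u - 1) * (xv e' u ^ 2 + 1), by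
          push_cast; linear_combination (xv e' u - 1) * (xv e' u ^ 2 + 1) * hb⟩)
    exact hg' (hnine g hg)
  by_cases hn6 : 6 ≤ n
  · obtain ⟨r, hr, -, hri⟩ := exists_prime (e := e') (i := 3) (q := u) hu (by norm_num) (by
      rintro (⟨-, h, -⟩ | ⟨h1, -, h2⟩)
      · omega
      · exact hne ⟨h1, h2⟩)
    obtain ⟨g, hg, hg'⟩ := nine_tor hL hF (by omega) (i := 6) (by norm_num) hn6 hr (by
      rintro rfl
      exact ord_ne hri (j := 2) (by norm_num) (by omega) h32) (ord_ne hri (by norm_num) (by omega))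
      (ord_dvd hri (by norm_num) (by omega)) h31 (by
        rw [int_dvd_AA (by omega)]
        obtain ⟨b, hb⟩ := hx
        have hX : xv e' u = 3 * b - 1 := by linarith
        rw [hX]
        exact ⟨81 * b ^ 6 - 162 * b ^ 5 + 135 * b ^ 4 - 60 * b ^ 3 + 15 * b ^ 2 - 2 * b, by push_cast; ring⟩)
    exact hg' (hnine g hg)
  have hn45 : n = 4 ∨ n = 5 := by omega
  rcases h.split with ⟨r, s, hr, hs, hrs, hr5, hs5, hrg, hsg, h3r, h3s, hrsn⟩ | ⟨⟨g, hg⟩, -⟩
  · have h1 := ord_of_not_joined hL hF hn45 hx hr hr5 hrg h3r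
    have h2 := ord_of_not_joined hL hF hn45 hx hs hs5 hsg h3s
    have hr1 : ¬ r ∣ AA e' 1 u := ord_ne h1 (by rw [Nat.dvd_one]; omega) (by omega)
    have hs1 : ¬ s ∣ AA e' 1 u := ord_ne h2 (by rw [Nat.dvd_one]; omega) (by omega)
    obtain ⟨g, hg⟩ := hL.exists_tor_le hF (by omega) (i := 3 + 2 * (n - 4)) (by omega) (by omega) (N := r * s)
      (Nat.mul_pos hr.pos hs.pos)
      (Nat.Coprime.mul_left ((hr.coprime_iff_not_dvd).2 hr1) ((hs.coprime_iff_not_dvd).2 hs1))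
      (((Nat.coprime_primes hr hs).2 hrs).mul_dvd_of_dvd_of_dvd (ord_dvd h1 dvd_rfl (by omega))
        (ord_dvd h2 dvd_rfl (by omega)))
    exact hrsn g hg
  · exact no_nine hL hF hn45 h3 hx hx9 g hg

end Main

/-- task 1041 -/
theorem psl {e : Bool} {k : ℕ} {S : Type*} [Group S] [Finite S] (h : Cand3 e k S) {F : Type} [Field F] [Fintype F]
    (h3 : (3 : F) ≠ 0) {n : ℕ} (hn : 4 ≤ n) (E : S ≃* Matrix.ProjectiveSpecialLinearGroup (Fin n) F) : False :=
  isL_false h (e' := true) (n := n) (u := Fintype.card F) (F := F) ⟨E⟩ (by simp) h3 hn (by simp)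

/-- task 1042 -/
theorem psu {e : Bool} {k : ℕ} {S : Type*} [Group S] [Finite S] (h : Cand3 e k S) {F : Type} [Field F] [Fintype F]
    {u n : ℕ} (hF : Fintype.card F = u ^ 2) (h3 : (3 : F) ≠ 0) (hn : 4 ≤ n) (h42 : ¬ (n = 4 ∧ u = 2))
    (E : S ≃* Cfsg.PSU n F u) : False :=
  isL_false h (e' := false) (n := n) (u := u) (F := F) ⟨E⟩ (by simpa using hF) h3 hn (by simpa using h42)

end Cfsg.Agent.H953.RecLin
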