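import Cfsg.Agent.H724.UThreeD
import Cfsg.Agent.H460.AADef

/-!
# `PSU_3(q)`, `q ≥ 3`: `Core` (helper953, task 572, for S3833, S3834, S3840)
-/

set_option autoImplicit false
set_option linter.unusedSectionVars false

namespace Cfsg.Agent.H953.CorePsu3

open Subgroup Cfsg Cfsg.Agent.H459.Rad Matrix Cfsg.Agent.H460.AA
open Cfsg.Agent.LieClassical.HermBasic Cfsg.Agent.LieClassical.HermSiegel Cfsg.Agent.LieClassical.HermGen
open Cfsg.Agent.ClassicalGeometry.PSUAutCount (gm semiConj toAut gm_mul gm_one gm_mul_inv gm_inv_mul eq_of_toAut_eq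
  sc gm_sc_mul toAut_sc_mul herm_gm gm_mulVec_inv gm_inv_mulVec gm_inj scalar_of_isotropic)
open Cfsg.Agent.ClassicalGeometry.UnitAutBasic (pr pr_surjective T act_T c0 c0_ne_zero)
open Cfsg.Agent.Schreier.PSU (f₁)
open Cfsg.Agent.H724.UThree (toGU gm_toGU f₁_toGU gm_pow coords exists_lin exists_vec eq_one_of_fix field_false Hst
  RC_conj mat_ext)

variable {F : Type*} [Field F] [Fintype F] {q : ℕ}

theorem f₁_def (A : GU 3 F q) : f₁ A = toAut A 1 := rfl

/-- `p`-elements of the linear automorphism group -/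
theorem pe_f₁ (hF : Fintype.card F = q ^ 2) {p : ℕ} [Fact p.Prime] {A : GU 3 F q} (h : PE p (f₁ A)) :
    ∃ (k : ℕ) (c : F), c * c ^ q = 1 ∧ gm A ^ p ^ k = c • (1 : Matrix (Fin 3) (Fin 3) F) := by
  obtain ⟨k, hk⟩ := PE.pow_eq_one_iff.1 h
  have h1 : toAut (1 : GU 3 F q) 1 = toAut (A ^ p ^ k) 1 := by
    rw [← f₁_def, ← f₁_def, map_pow, hk, map_one]
  obtain ⟨-, c, hc, hc'⟩ := eq_of_toAut_eq hF le_rfl h1
  exact ⟨k, c, hc, by rw [← gm_pow, hc', gm_one]⟩

theorem pa_lin (hF : Fintype.card F = q ^ 2) {p : ℕ} [Fact p.Prime] {A : GU 3 F q} (h : PA p (f₁ A)) (g : SU 3 F q) :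
    ∃ (k : ℕ) (c : F), c * c ^ q = 1 ∧
      (gm A * mat g * gm A * mat g⁻¹) ^ p ^ k = c • (1 : Matrix (Fin 3) (Fin 3) F) := by
  have h1 := h (pr 3 F q g)
  rw [← f₁_toGU, ← map_inv, ← map_mul, ← map_mul, ← map_mul] at h1
  obtain ⟨k, c, hc, hk⟩ := pe_f₁ hF h1
  refine ⟨k, c, hc, ?_⟩
  rw [← hk, gm_mul, gm_mul, gm_mul, mul_assoc, mul_assoc, mul_assoc]
  rfl

/-- a scalar acts trivially -/
theorem f₁_eq_one (hF : Fintype.card F = q ^ 2) {A : GU 3 F q} {b : F} (h : gm A = b • 1) : f₁ A = 1 := by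
  have h1 := herm_gm A (Pi.single 0 1) (Pi.single 0 1)
  rw [h, smul_mulVec, one_mulVec, herm_smul_left, herm_smul_right, herm_single_left, Pi.single_eq_same, one_pow] at h1
  have hb : b * b ^ q = 1 := by linear_combination h1
  have h2 : A = sc 3 ⟨b, hb⟩ * 1 := by
    apply gm_inj
    rw [gm_sc_mul, gm_one, h]
  rw [h2, f₁_def, toAut_sc_mul, ← f₁_def, map_one]

/-- isotropic vectors orthogonal to an isotropic vector are multiples of it -/
theorem parallel (hF : Fintype.card F = q ^ 2) {u v : Fin 3 → F} (hu : hermForm 3 F q u u = 0) (hu0 : u ≠ 0)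
    (hv : hermForm 3 F q v v = 0) (huv : hermForm 3 F q u v = 0) : ∃ c : F, v = c • u := by
  obtain ⟨z, hz⟩ := exists_herm_ne_zero hF hu0
  have hz' : hermForm 3 F q z u ≠ 0 := by
    rw [herm_swap hF u z]
    exact pow_ne_zero _ hz
  have hvu : hermForm 3 F q v u = 0 := herm_eq_zero_swap hF huv
  refine ⟨hermForm 3 F q v z / hermForm 3 F q u z, ?_⟩
  obtain ⟨c, hc⟩ : ∃ c, c = hermForm 3 F q v z / hermForm 3 F q u z := ⟨_, rfl⟩
  rw [← hc]
  obtain ⟨w, hw⟩ : ∃ w, w = v - c • u := ⟨_, rfl⟩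
  suffices h : w = 0 by
    rw [hw, sub_eq_zero] at h
    exact h
  by_contra hw0
  have hwz : hermForm 3 F q w z = 0 := by
    rw [hw, herm_sub_left, herm_smul_left, hc, div_mul_cancel₀ _ hz, sub_self]
  have hwu : hermForm 3 F q w u = 0 := by
    rw [hw, herm_sub_left, herm_smul_left, hvu, hu, mul_zero, sub_zero]
  have hww : hermForm 3 F q w w = 0 := by
    have h1 : hermForm 3 F q u w = 0 := herm_eq_zero_swap hF hwu
    have h2 : hermForm 3 F q v w = 0 := by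
      rw [hw, herm_sub_right hF, herm_smul_right, hv, hvu, mul_zero, sub_zero]
    conv_lhs => rw [hw]
    rw [herm_sub_left, herm_smul_left, ← hw, h2, h1, mul_zero, sub_zero]
  apply hw0
  apply herm_nondeg hF
  intro x
  obtain ⟨a, b, d, rfl⟩ := coords (a := u) (b := w) (c := z) (by
    intro x y t h
    have h1 := congrArg (fun v => hermForm 3 F q v u) h
    simp only [herm_add_left, herm_smul_left, herm_zero_left, hu, hwu, mul_zero, zero_add] at h1
    have ht : t = 0 := (mul_eq_zero.1 h1).resolve_right hz'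
    have h2 := congrArg (fun v => hermForm 3 F q v z) h
    simp only [herm_add_left, herm_smul_left, herm_zero_left, hwz, mul_zero, add_zero, ht, zero_mul] at h2
    have hx : x = 0 := (mul_eq_zero.1 h2).resolve_right hz
    rw [hx, ht, zero_smul, zero_smul, zero_add, add_zero] at h
    exact ⟨hx, (smul_eq_zero.1 h).resolve_right hw0, ht⟩) x
  rw [herm_add_right hF, herm_add_right hF, herm_smul_right, herm_smul_right, herm_smul_right, hwu, hww, hwz, mul_zero,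
    mul_zero, mul_zero, add_zero, add_zero]

/-- some isotropic vector is moved -/
theorem exists_moved (hF : Fintype.card F = q ^ 2) {A : GU 3 F q} (hA : f₁ A ≠ 1) :
    ∃ u : Fin 3 → F, hermForm 3 F q u u = 0 ∧ hermForm 3 F q u (gm A *ᵥ u) ≠ 0 := by
  by_contra hcon
  push Not at hcon
  have hne : gm A ≠ 0 := by
    intro h0
    have h1 := gm_mul_inv A
    rw [h0, Matrix.zero_mul] at h1
    have := congrFun (congrFun h1 0) 0
    simp at this
  obtain ⟨-, b, -, hb⟩ := scalar_of_isotropic hF le_rfl (B := gm A) (ψ := 1) hne (by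
    intro u hu hu0
    obtain ⟨c, hc⟩ := parallel hF hu hu0 (by rw [herm_gm, hu]) (hcon u hu)
    exact ⟨c, hc⟩)
  exact hA (f₁_eq_one hF hb)

/-- moving a pair -/
theorem exists_move (hF : Fintype.card F = q ^ 2) {A : GU 3 F q} {u : Fin 3 → F} (hu : hermForm 3 F q u u = 0)
    (hz0 : hermForm 3 F q u (gm A *ᵥ u) ≠ 0) {a : F} (ha : a ≠ 0) :
    ∃ (g : SU 3 F q) (b : F), act g u = a • u ∧ act g (gm A *ᵥ u) = b • (gm A⁻¹ *ᵥ u) ∧
      a * b ^ q * hermForm 3 F q u (gm A *ᵥ u) ^ q = hermForm 3 F q u (gm A *ᵥ u) := by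
  obtain ⟨z, hz⟩ : ∃ z, z = hermForm 3 F q u (gm A *ᵥ u) := ⟨_, rfl⟩
  rw [← hz] at hz0 ⊢
  have hzq : z ^ q ≠ 0 := pow_ne_zero _ hz0
  have hA : hermForm 3 F q (gm A *ᵥ u) (gm A *ᵥ u) = 0 := by rw [herm_gm, hu]
  have hA' : hermForm 3 F q (gm A⁻¹ *ᵥ u) (gm A⁻¹ *ᵥ u) = 0 := by rw [herm_gm, hu]
  have hz' : hermForm 3 F q u (gm A⁻¹ *ᵥ u) = z ^ q := by
    have h1 := herm_gm A u (gm A⁻¹ *ᵥ u)
    rw [gm_mulVec_inv] at h1
    rw [← h1, herm_swap hF u, ← hz]
  have haz : a * z ^ q ≠ 0 := mul_ne_zero ha hzq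
  obtain ⟨g, -, hg1, hg2⟩ := exists_map_hyp hF (k := 3) le_rfl le_rfl (u := u) (u' := (z⁻¹) ^ q • (gm A *ᵥ u))
    (v := a • u) (v' := ((a * z ^ q)⁻¹) ^ q • (gm A⁻¹ *ᵥ u)) (mem_coordSub_top _) (mem_coordSub_top _)
    (mem_coordSub_top _) (mem_coordSub_top _) hu (by rw [herm_smul_left, herm_smul_right, hA, mul_zero, mul_zero])
    (by rw [herm_smul_right, pow_q_pow_q hF, ← hz, inv_mul_cancel₀ hz0])
    (by rw [herm_smul_left, herm_smul_right, hu, mul_zero, mul_zero])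
    (by rw [herm_smul_left, herm_smul_right, hA', mul_zero, mul_zero])
    (by
      rw [herm_smul_left, herm_smul_right, pow_q_pow_q hF, hz']
      field_simp)
  refine ⟨g, z ^ q * ((a * z ^ q)⁻¹) ^ q, hg1, ?_, ?_⟩
  · have h1 : gm A *ᵥ u = z ^ q • ((z⁻¹) ^ q • (gm A *ᵥ u)) := by
      rw [smul_smul, ← mul_pow, mul_inv_cancel₀ hz0, one_pow, one_smul]
    rw [h1, act_smul, hg2, smul_smul]
  · rw [mul_pow (z ^ q), pow_q_pow_q hF, pow_q_pow_q hF]
    field_simp

theorem eig {A : GU 3 F q} {u : Fin 3 → F} {a b : F} {g : SU 3 F q} (ha : a ≠ 0) (h1 : act g u = a • u)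
    (h2 : act g (gm A *ᵥ u) = b • (gm A⁻¹ *ᵥ u)) :
    (gm A * mat g * gm A * mat g⁻¹) *ᵥ u = (b / a) • u := by
  have h3 : mat g⁻¹ *ᵥ u = a⁻¹ • u := by
    have h4 : u = act g (a⁻¹ • u) := by rw [act_smul, h1, smul_smul, inv_mul_cancel₀ ha, one_smul]
    conv_lhs => rw [h4]
    rw [← act_def, act_inv_act]
  rw [← mulVec_mulVec, h3, ← mulVec_mulVec, ← mulVec_mulVec, mulVec_smul, mulVec_smul, ← act_def, h2, mulVec_smul,
    mulVec_smul, gm_mulVec_inv, smul_smul, div_eq_inv_mul]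

theorem pow_mulVec {M : Matrix (Fin 3) (Fin 3) F} {u : Fin 3 → F} {b : F} (h : M *ᵥ u = b • u) (k : ℕ) :
    (M ^ k) *ᵥ u = b ^ k • u := by
  induction k with
  | zero => rw [pow_zero, pow_zero, one_mulVec, one_smul]
  | succ k ih => rw [pow_succ, ← mulVec_mulVec, h, mulVec_smul, ih, smul_smul, pow_succ, mul_comm]

theorem pow_eig {M : Matrix (Fin 3) (Fin 3) F} {u : Fin 3 → F} {b κ : F} {k : ℕ} (h : M *ᵥ u = b • u) (hu : u ≠ 0)
    (hM : M ^ k = κ • 1) : b ^ k = κ := by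
  have h1 := pow_mulVec h k
  rw [hM, smul_mulVec, one_mulVec] at h1
  have h2 : (κ - b ^ k) • u = 0 := by rw [sub_smul, h1, sub_self]
  exact (sub_eq_zero.1 ((smul_eq_zero.1 h2).resolve_right hu)).symm

theorem ne_zero_of_moved {A : GU 3 F q} {u : Fin 3 → F} (hz0 : hermForm 3 F q u (gm A *ᵥ u) ≠ 0) : u ≠ 0 := by
  rintro rfl
  exact hz0 (herm_zero_left _)

/-- **The norm condition.** -/
theorem norm_cond (hF : Fintype.card F = q ^ 2) {p : ℕ} [Fact p.Prime] {A : GU 3 F q} (h : PA p (f₁ A))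
    (hA : f₁ A ≠ 1) {a : F} (ha : a ≠ 0) : ∃ k, (a * a ^ q) ^ (2 * p ^ k) = 1 := by
  obtain ⟨u, hu, hz0⟩ := exists_moved hF hA
  obtain ⟨g, b, h1, h2, h3⟩ := exists_move hF hu hz0 ha
  obtain ⟨k, κ, hκ, hy⟩ := pa_lin hF h g
  have h4 := pow_eig (eig ha h1 h2) (ne_zero_of_moved hz0) hy
  refine ⟨k, ?_⟩
  obtain ⟨z, hz⟩ : ∃ z, z = hermForm 3 F q u (gm A *ᵥ u) := ⟨_, rfl⟩
  rw [← hz] at hz0 h3
  have hzq : z ^ q ≠ 0 := pow_ne_zero _ hz0
  have haq : a ^ q ≠ 0 := pow_ne_zero _ ha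
  -- `N(a) N(b) = 1`
  have h5 : (a * a ^ q) * (b * b ^ q) = 1 := by
    have h6 := congrArg (fun x => x ^ q) h3
    simp only [mul_pow, pow_q_pow_q hF] at h6
    have h7 : (a * a ^ q) * (b * b ^ q) * (z * z ^ q) = z * z ^ q := by
      calc (a * a ^ q) * (b * b ^ q) * (z * z ^ q) = (a * b ^ q * z ^ q) * (a ^ q * b * z) := by ring
        _ = z * z ^ q := by rw [h3, h6]
    exact mul_right_cancel₀ (mul_ne_zero hz0 hzq) (by rw [h7, one_mul])
  have h8 : (b / a) * (b / a) ^ q * ((a * a ^ q) * (a * a ^ q)) = 1 := by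
    rw [div_pow, ← h5]
    field_simp
  have h9 : ((b / a) * (b / a) ^ q) ^ p ^ k = 1 := by
    rw [mul_pow, ← pow_mul, mul_comm q, pow_mul, h4, hκ]
  have h10 : ((b / a) * (b / a) ^ q * ((a * a ^ q) * (a * a ^ q))) ^ p ^ k = 1 := by rw [h8, one_pow]
  rw [mul_pow, h9, one_mul] at h10
  rw [pow_mul, pow_two]
  exact h10

theorem dvd_of_four (hF : Fintype.card F = q ^ 2) (hq : 4 ≤ q) {p : ℕ} [hp : Fact p.Prime] {A : GU 3 F q}
    (h : PA p (f₁ A)) (hA : f₁ A ≠ 1) : p ∣ q - 1 := by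
  by_contra hpq
  classical
  obtain ⟨g, hg⟩ := IsCyclic.exists_generator (α := Fˣ)
  have hord : orderOf g = q ^ 2 - 1 := by
    rw [orderOf_eq_card_of_forall_mem_zpowers hg, Nat.card_eq_fintype_card, Fintype.card_units, hF]
  have hfac : q ^ 2 - 1 = (q + 1) * (q - 1) := by
    have := Nat.sq_sub_sq q 1
    simpa using this
  obtain ⟨k, hk⟩ := norm_cond hF h hA (a := (g : F)) g.ne_zero
  have h1 : g ^ ((q + 1) * (2 * p ^ k)) = 1 := by
    apply Units.ext
    rw [Units.val_pow_eq_pow_val, Units.val_one, pow_mul, pow_succ' (g : F) q]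
    exact hk
  have h2 := orderOf_dvd_of_pow_eq_one h1
  rw [hord, hfac] at h2
  have h3 : q - 1 ∣ 2 * p ^ k := Nat.dvd_of_mul_dvd_mul_left (by omega) h2
  have h4 : Nat.Coprime (q - 1) (p ^ k) :=
    ((hp.out.coprime_iff_not_dvd.2 hpq).symm).pow_right k
  have h5 : q - 1 ∣ 2 := h4.dvd_of_dvd_mul_right h3
  have h6 := Nat.le_of_dvd (by norm_num) h5
  omega

/-- taking `p`-th roots in the group of norm one elements -/
theorem exists_root (hF : Fintype.card F = q ^ 2) {p : ℕ} (hc : Nat.Coprime p (q + 1)) {c : F} (hc1 : c * c ^ q = 1) :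
    ∃ d : F, d * d ^ q = 1 ∧ d ^ p = c := by
  obtain ⟨m, hm⟩ := Nat.exists_mul_mod_eq_one_of_coprime hc (by have := q_pos hF; omega)
  refine ⟨c ^ m, ?_, ?_⟩
  · rw [← pow_mul, mul_comm m q, pow_mul, ← mul_pow, hc1, one_pow]
  · have h1 : c ^ (q + 1) = 1 := by rw [pow_succ', hc1]
    rw [← pow_mul, mul_comm m p, ← Nat.div_add_mod (p * m) (q + 1), pow_add, pow_mul, h1, one_pow, one_mul, hm.2, pow_one]

/-- **Linear automorphisms, `q ≥ 4`.** -/
theorem lin_four (hF : Fintype.card F = q ^ 2) (hq : 4 ≤ q) {p : ℕ} [hp : Fact p.Prime] (hp2 : p ≠ 2) {A : GU 3 F q}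
    (hx : f₁ A ^ p = 1) (hR : RC (f₁ A)) (h : PA p (f₁ A)) : f₁ A = 1 := by
  by_contra hA
  have hd := dvd_of_four hF hq h hA
  have hd1 : ¬ p ∣ q + 1 := by
    intro h1
    have h2 : p ∣ 2 := by
      have h3 := Nat.dvd_sub h1 hd
      have h4 : q + 1 - (q - 1) = 2 := by omega
      rwa [h4] at h3
    exact hp2 ((Nat.prime_dvd_prime_iff_eq hp.out Nat.prime_two).1 h2)
  -- `A ^ p` is a scalar
  have h1 : toAut (1 : GU 3 F q) 1 = toAut (A ^ p) 1 := by
    rw [← f₁_def, ← f₁_def, map_pow, hx, map_one]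
  obtain ⟨-, c, hc, hc'⟩ := eq_of_toAut_eq hF le_rfl h1
  obtain ⟨d, hd1', hdc⟩ := exists_root hF (hp.out.coprime_iff_not_dvd.2 hd1) hc
  have hd0 : d ≠ 0 := left_ne_zero_of_mul_eq_one hd1'
  obtain ⟨A', hA'⟩ : ∃ A', A' = sc 3 ⟨d⁻¹, by rw [inv_pow, ← mul_inv, hd1', inv_one]⟩ * A := ⟨_, rfl⟩
  have hfA : f₁ A' = f₁ A := by rw [hA', f₁_def, toAut_sc_mul, f₁_def]
  have hAp : A' ^ p = 1 := by
    apply gm_inj
    rw [gm_pow, hA', gm_sc_mul, smul_pow, ← gm_pow, hc', gm_one, smul_smul, inv_pow, hdc,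
      inv_mul_cancel₀ (left_ne_zero_of_mul_eq_one hc), one_smul]
  have hnd : ¬ p ∣ q ^ 2 * (q ^ 2 - q + 1) := by
    intro h2
    rcases (Nat.Prime.dvd_mul hp.out).1 h2 with h3 | h3
    · have h4 := hp.out.dvd_of_dvd_pow h3
      have h5 := Nat.dvd_sub h4 hd
      have h6 : q - (q - 1) = 1 := by omega
      rw [h6] at h5
      exact hp.out.one_lt.ne' (Nat.dvd_one.1 h5)
    · have h4 : p ∣ q * (q - 1) := hd.mul_left q
      have h5 : q ^ 2 - q + 1 = q * (q - 1) + 1 := by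
        have h6 : q ≤ q ^ 2 := Nat.le_self_pow (by norm_num) q
        zify [h6, (by omega : 1 ≤ q)]
        ring
      rw [h5] at h3
      exact hp.out.one_lt.ne' (Nat.dvd_one.1 ((Nat.dvd_add_right h4).1 h3))
  obtain ⟨B, hB⟩ := exists_vec hF hnd hAp
  have hR2 : RC (f₁ (B⁻¹ * A' * B)) := by
    have := RC_conj (f₁ B)⁻¹ hR
    rwa [inv_inv, ← hfA, ← map_inv, ← map_mul, ← map_mul] at this
  have h2 := eq_one_of_fix hF hq hB hR2
  apply hA
  rw [← hfA]
  rw [map_mul, map_mul, map_inv] at h2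
  calc f₁ A' = f₁ B * ((f₁ B)⁻¹ * f₁ A' * f₁ B) * (f₁ B)⁻¹ := by group
    _ = 1 := by rw [h2]; group

/-! ### `q = 3` -/

theorem perp_span (hF : Fintype.card F = q ^ 2) {u w v : Fin 3 → F} (hu : hermForm 3 F q u u = 0) (hu0 : u ≠ 0)
    (hw : hermForm 3 F q w u = 0) (hwu : ∀ c : F, w ≠ c • u) (hv : hermForm 3 F q v u = 0) :
    ∃ s b : F, v = s • u + b • w := by
  obtain ⟨z, hz⟩ := exists_herm_ne_zero hF hu0
  have hz' : hermForm 3 F q z u ≠ 0 := by
    rw [herm_swap hF u z]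
    exact pow_ne_zero _ hz
  obtain ⟨a, b, d, h⟩ := coords (a := u) (b := w) (c := z) (by
    intro x y t h
    have h1 := congrArg (fun v => hermForm 3 F q v u) h
    simp only [herm_add_left, herm_smul_left, herm_zero_left, hu, hw, mul_zero, zero_add] at h1
    have ht : t = 0 := (mul_eq_zero.1 h1).resolve_right hz'
    rw [ht, zero_smul, add_zero] at h
    have hy : y = 0 := by
      by_contra hy
      apply hwu (-(y⁻¹ * x))
      have h2 : y⁻¹ • (x • u + y • w) = 0 := by rw [h, smul_zero]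
      rw [smul_add, smul_smul, smul_smul, inv_mul_cancel₀ hy, one_smul] at h2
      rw [neg_smul]
      exact eq_neg_of_add_eq_zero_right h2
    rw [hy, zero_smul, add_zero] at h
    exact ⟨(smul_eq_zero.1 h).resolve_right hu0, hy, ht⟩) v
  refine ⟨a, b, ?_⟩
  have h1 := hv
  rw [h, herm_add_left, herm_add_left, herm_smul_left, herm_smul_left, herm_smul_left, hu, hw, mul_zero, mul_zero,
    add_zero, zero_add] at h1
  have hd : d = 0 := (mul_eq_zero.1 h1).resolve_right hz'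
  rw [h, hd, zero_smul, add_zero]

section Three

variable (hF : Fintype.card F = 3 ^ 2) [CharP F 3]

include hF

omit [CharP F 3] in
theorem pow_eight {a : F} (ha : a ≠ 0) : a ^ 8 = 1 := by
  have h := FiniteField.pow_card_sub_one_eq_one a ha
  rwa [hF] at h

omit [CharP F 3] in
theorem nil_perp {y : GU 3 F 3} {u : Fin 3 → F} {a : F} (hu : hermForm 3 F 3 u u = 0) (hu0 : u ≠ 0)
    (hy : gm y *ᵥ u = a • u) {w : Fin 3 → F} (hw : hermForm 3 F 3 w u = 0) :
    ∃ c : F, (gm y ^ 8) *ᵥ w = w + c • u := by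
  have ha : a ≠ 0 := by
    rintro rfl
    rw [zero_smul] at hy
    apply hu0
    rw [← gm_inv_mulVec y u, hy, mulVec_zero]
  by_cases hwu : ∀ c : F, w ≠ c • u
  · have hyw : hermForm 3 F 3 (gm y *ᵥ w) u = 0 := by
      have h1 := herm_gm y w u
      rw [hy, herm_smul_right, hw] at h1
      exact (mul_eq_zero.1 h1).resolve_left (pow_ne_zero _ ha)
    obtain ⟨s, b, h⟩ := perp_span hF hu hu0 hw hwu hyw
    have hb : b ≠ 0 := by
      rintro rfl
      rw [zero_smul, add_zero] at h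
      apply hwu (s * a⁻¹)
      have h2 : gm y *ᵥ w = gm y *ᵥ ((s * a⁻¹) • u) := by
        rw [mulVec_smul, hy, h, smul_smul, mul_assoc, inv_mul_cancel₀ ha, mul_one]
      have h3 := congrArg (fun v => gm y⁻¹ *ᵥ v) h2
      simpa only [gm_inv_mulVec] using h3
    have hk : ∀ k : ℕ, ∃ c : F, (gm y ^ k) *ᵥ w = b ^ k • w + c • u := by
      intro k
      induction k with
      | zero => exact ⟨0, by rw [pow_zero, pow_zero, one_mulVec, one_smul, zero_smul, add_zero]⟩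
      | succ k ih =>
        obtain ⟨c, hc⟩ := ih
        refine ⟨b ^ k * s + c * a, ?_⟩
        rw [pow_succ', ← mulVec_mulVec, hc, mulVec_add, mulVec_smul, mulVec_smul, hy, h, smul_add, smul_smul,
          smul_smul, smul_smul, add_smul, pow_succ]
        abel
    obtain ⟨c, hc⟩ := hk 8
    refine ⟨c, ?_⟩
    rw [hc, pow_eight hF hb, one_smul]
  · push Not at hwu
    obtain ⟨c, rfl⟩ := hwu
    refine ⟨0, ?_⟩
    rw [mulVec_smul, pow_mulVec hy, pow_eight hF ha, one_smul, zero_smul, add_zero]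

theorem pow_24 {y : GU 3 F 3} {u : Fin 3 → F} {a : F} (hu : hermForm 3 F 3 u u = 0) (hu0 : u ≠ 0)
    (hy : gm y *ᵥ u = a • u) : gm y ^ 24 = 1 := by
  have ha : a ≠ 0 := by
    rintro rfl
    rw [zero_smul] at hy
    apply hu0
    rw [← gm_inv_mulVec y u, hy, mulVec_zero]
  have hYu : (gm y ^ 8) *ᵥ u = u := by rw [pow_mulVec hy, pow_eight hF ha, one_smul]
  have h1 : (gm y ^ 8 - 1) ^ 3 = 0 := by
    apply Matrix.ext_of_mulVec_single
    intro i
    rw [zero_mulVec]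
    generalize (Pi.single i 1 : Fin 3 → F) = v
    have hperp : hermForm 3 F 3 ((gm y ^ 8 - 1) *ᵥ v) u = 0 := by
      rw [sub_mulVec, one_mulVec, herm_sub_left]
      conv_lhs =>
        enter [1]
        rw [← hYu]
      rw [← gm_pow, herm_gm, sub_self]
    obtain ⟨c, hc⟩ := nil_perp hF hu hu0 hy hperp
    have h2 : (gm y ^ 8 - 1) *ᵥ ((gm y ^ 8 - 1) *ᵥ v) = c • u := by
      rw [sub_mulVec, hc, one_mulVec, add_sub_cancel_left]
    rw [pow_succ', pow_two, ← mulVec_mulVec, ← mulVec_mulVec, h2, mulVec_smul, sub_mulVec, one_mulVec, hYu, sub_self,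
      smul_zero]
  have h2 : (gm y ^ 8 - 1) ^ 3 = (gm y ^ 8) ^ 3 - 1 ^ 3 :=
    sub_pow_char_of_commute 3 (Commute.one_right _)
  rw [h1, one_pow, ← pow_mul] at h2
  exact (sub_eq_zero.1 h2.symm)

theorem scalar_of_eig {y : GU 3 F 3} {u : Fin 3 → F} {a κ : F} (hu : hermForm 3 F 3 u u = 0) (hu0 : u ≠ 0)
    (hy : gm y *ᵥ u = a • u) {m : ℕ} (hm : Nat.Coprime m 24) (h : gm y ^ m = κ • 1) :
    ∃ c : F, gm y = c • 1 := by
  obtain ⟨s, hs⟩ := Nat.exists_mul_mod_eq_one_of_coprime hm (by norm_num)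
  refine ⟨κ ^ s, ?_⟩
  have h1 : gm y ^ (m * s) = κ ^ s • (1 : Matrix (Fin 3) (Fin 3) F) := by rw [pow_mul, h, smul_pow, one_pow]
  rw [← Nat.div_add_mod (m * s) 24, pow_add, pow_mul, pow_24 hF hu hu0 hy, one_pow, one_mul, hs.2, pow_one] at h1
  exact h1

theorem three_five {p : ℕ} [hp : Fact p.Prime] (hp2 : p ≠ 2) (hp3 : p ≠ 3) {A : GU 3 F 3} (h : PA p (f₁ A)) :
    f₁ A = 1 := by
  by_contra hA
  obtain ⟨u, hu, hz0⟩ := exists_moved hF hA
  have hu0 := ne_zero_of_moved hz0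
  obtain ⟨z, hz⟩ : ∃ z, z = hermForm 3 F 3 u (gm A *ᵥ u) := ⟨_, rfl⟩
  have hz0' : z ≠ 0 := by rw [hz]; exact hz0
  have key : ∀ a : F, a ≠ 0 → ∃ c : F, c ^ 3 = (gm A).det ^ 2 ∧ a * a ^ 3 * c ^ 3 * z ^ 3 = z := by
    intro a ha
    obtain ⟨g, b, h1, h2, h3⟩ := exists_move hF hu hz0 ha
    obtain ⟨k, κ, hκ, hy⟩ := pa_lin hF h g
    have h4 := eig ha h1 h2
    have hY : gm (A * toGU g * A * toGU g⁻¹) = gm A * mat g * gm A * mat g⁻¹ := rfl
    have hcop : Nat.Coprime (p ^ k) 24 := by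
      apply Nat.Coprime.pow_left
      rw [hp.out.coprime_iff_not_dvd]
      intro hd
      have h5 : p ∣ 2 ^ 3 * 3 := hd
      rcases (Nat.Prime.dvd_mul hp.out).1 h5 with h6 | h6
      · exact hp2 ((Nat.prime_dvd_prime_iff_eq hp.out Nat.prime_two).1 (hp.out.dvd_of_dvd_pow h6))
      · exact hp3 ((Nat.prime_dvd_prime_iff_eq hp.out Nat.prime_three).1 h6)
    obtain ⟨c, hc⟩ := scalar_of_eig hF (y := A * toGU g * A * toGU g⁻¹) hu hu0 (by rw [hY]; exact h4) hcop
      (by rw [hY]; exact hy)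
    rw [hY] at hc
    have hcb : b = a * c := by
      rw [hc, smul_mulVec, one_mulVec] at h4
      have h5 : (c - b / a) • u = 0 := by rw [sub_smul, h4, sub_self]
      have h6 := sub_eq_zero.1 ((smul_eq_zero.1 h5).resolve_right hu0)
      rw [h6, mul_div_cancel₀ _ ha]
    refine ⟨c, ?_, ?_⟩
    · have h5 := congrArg Matrix.det hc
      rw [det_mul, det_mul, det_mul, det_mat, det_mat, Matrix.det_smul, Matrix.det_one, Fintype.card_fin] at h5
      linear_combination -h5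
    · rw [← hz, hcb] at h3
      linear_combination h3
  obtain ⟨c1, hc1, h1⟩ := key 1 one_ne_zero
  obtain ⟨a, ha⟩ := exists_norm_eq hF (c := (-1 : F)) (by ring)
  have ha0 : a ≠ 0 := by
    rintro rfl
    rw [zero_mul] at ha
    exact one_ne_zero (neg_eq_zero.1 ha.symm)
  obtain ⟨c2, hc2, h2⟩ := key a ha0
  rw [hc1] at h1
  rw [ha, hc2] at h2
  apply hz0'
  have h3 : (3 : F) = 0 := by
    have := CharP.cast_eq_zero F 3
    exact_mod_cast this
  linear_combination z * h3 + h1 + h2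

omit hF in
theorem trace_zero [Finite F] {M : Matrix (Fin 3) (Fin 3) F} {κ : F} {k : ℕ} (h : M ^ 3 ^ k = κ • 1) : M.trace = 0 := by
  have h3 : (3 : F) = 0 := by
    have := CharP.cast_eq_zero F 3
    exact_mod_cast this
  obtain ⟨c, hc⟩ : ∃ c : F, c ^ 3 ^ k = κ := by
    have h1 : Function.Surjective (iterateFrobenius F 3 k) :=
      Finite.surjective_of_injective (iterateFrobenius F 3 k).injective
    obtain ⟨c, hc⟩ := h1 κ
    exact ⟨c, by rw [← hc, iterateFrobenius_def]⟩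
  have hnil : IsNilpotent (M - c • (1 : Matrix (Fin 3) (Fin 3) F)) := by
    refine ⟨3 ^ k, ?_⟩
    have hcomm : Commute M (c • (1 : Matrix (Fin 3) (Fin 3) F)) := (Commute.one_right M).smul_right c
    rw [sub_pow_char_pow_of_commute 3 k hcomm, h, smul_pow, one_pow, hc, sub_self]
  have h4 := (Matrix.isNilpotent_trace_of_isNilpotent hnil).eq_zero
  rw [Matrix.trace_sub, Matrix.trace_smul, Matrix.trace_one, Fintype.card_fin] at h4
  have h5 : M.trace = c * 3 := by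
    have := sub_eq_zero.1 h4
    rw [this, smul_eq_mul]
    norm_num
  rw [h5, h3, mul_zero]

/-- rank one matrices -/
def rk (v : Fin 3 → F) : Matrix (Fin 3) (Fin 3) F := vecMulVec v (fun j => v j ^ 3)

omit [Fintype F] [CharP F 3] hF in
theorem rk_mulVec (v x : Fin 3 → F) : rk v *ᵥ x = hermForm 3 F 3 x v • v := by
  ext i
  rw [rk, Matrix.mulVec, dotProduct, Fin.sum_univ_three, herm_def, Fin.sum_univ_three, Pi.smul_apply, smul_eq_mul]
  simp only [vecMulVec_apply]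
  ring

theorem mat_T {v : Fin 3 → F} (hv : hermForm 3 F 3 v v = 0) : mat (T hF v) = 1 + c0 hF • rk v := by
  apply Matrix.ext_of_mulVec_single
  intro i
  rw [← act_def, act_T hF hv, add_mulVec, one_mulVec, smul_mulVec, rk_mulVec, smul_smul]

theorem mat_T_inv {v : Fin 3 → F} (hv : hermForm 3 F 3 v v = 0) : mat (T hF v)⁻¹ = 1 - c0 hF • rk v := by
  have h1 : mat (T hF v) * (1 - c0 hF • rk v) = 1 := by
    rw [mat_T hF hv]
    have h2 : rk v * rk v = 0 := by
      apply Matrix.ext_of_mulVec_single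
      intro i
      rw [← mulVec_mulVec, rk_mulVec, rk_mulVec, herm_smul_left, hv, mul_zero, zero_smul, zero_mulVec]
    rw [add_mul, one_mul, mul_sub, mul_one, Matrix.smul_mul, Matrix.mul_smul, h2, smul_zero, smul_zero, sub_zero]
    abel
  have h2 : mat (T hF v)⁻¹ * (mat (T hF v) * (1 - c0 hF • rk v)) = mat (T hF v)⁻¹ := by rw [h1, mul_one]
  rw [← mul_assoc, ← mat_mul, inv_mul_cancel, mat_one, one_mul] at h2
  exact h2.symm

theorem three_three {A : GU 3 F 3} (hx : f₁ A ^ 3 = 1) (h : PA 3 (f₁ A)) : f₁ A = 1 := by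
  by_contra hA
  obtain ⟨v, hv, hz0⟩ := exists_moved hF hA
  -- `A ^ 3` is a scalar
  have h1 : toAut (1 : GU 3 F 3) 1 = toAut (A ^ 3) 1 := by
    rw [← f₁_def, ← f₁_def, map_pow, hx, map_one]
  obtain ⟨-, c, hc, hc'⟩ := eq_of_toAut_eq hF le_rfl h1
  have ht0 : (gm A * gm A).trace = 0 := by
    apply trace_zero (κ := c ^ 2) (k := 1)
    rw [← gm_mul, pow_one, ← gm_pow]
    have : (A * A) ^ 3 = A ^ 3 * A ^ 3 := (Commute.refl A).mul_pow 3
    rw [this, gm_mul, hc', gm_one, Matrix.smul_mul, Matrix.mul_smul, smul_smul, mul_one, pow_two]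
  obtain ⟨k, κ, -, hy⟩ := pa_lin hF h (T hF v)
  have ht := trace_zero hy
  rw [mat_T hF hv, mat_T_inv hF hv] at ht
  obtain ⟨D, hD⟩ : ∃ D, D = gm A := ⟨_, rfl⟩
  obtain ⟨R, hR⟩ : ∃ R : Matrix (Fin 3) (Fin 3) F, R = rk v := ⟨_, rfl⟩
  obtain ⟨l, hl⟩ : ∃ l : F, l = c0 hF := ⟨_, rfl⟩
  have hRDR : R * D * R = hermForm 3 F 3 (D *ᵥ v) v • R := by
    apply Matrix.ext_of_mulVec_single
    intro i
    rw [← mulVec_mulVec, ← mulVec_mulVec, hR, rk_mulVec, rk_mulVec, mulVec_smul, herm_smul_left, smul_mulVec, rk_mulVec,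
      smul_smul, mul_comm]
  have hDR : (D * R).trace = hermForm 3 F 3 (D *ᵥ v) v := by
    rw [hR, rk, Matrix.mul_vecMulVec, Matrix.trace_vecMulVec]
    rfl
  rw [← hD, ← hR, ← hl] at ht
  have hexp : D * (1 + l • R) * D * (1 - l • R) = D * D + l • (D * R * D) - l • (D * D * R) - (l * l) • (D * (R * D * R)) := by
    simp only [mul_add, mul_sub, add_mul, mul_one, Matrix.mul_smul, Matrix.smul_mul, smul_smul, mul_assoc]
    abel
  rw [hexp, hRDR, Matrix.trace_sub, Matrix.trace_sub, Matrix.trace_add, Matrix.trace_smul, Matrix.trace_smul,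
    Matrix.trace_smul, Matrix.mul_smul, Matrix.trace_smul, hDR, Matrix.trace_mul_cycle D R D, hD, ht0] at ht
  have h2 : hermForm 3 F 3 (gm A *ᵥ v) v ≠ 0 := by
    rw [herm_swap hF v]
    exact pow_ne_zero _ hz0
  have hl0 : l ≠ 0 := by rw [hl]; exact c0_ne_zero hF
  simp only [smul_eq_mul] at ht
  apply mul_ne_zero (mul_ne_zero hl0 hl0) (mul_ne_zero h2 h2)
  linear_combination -ht

end Three

/-- **`PSU_3(q)`, `q ≥ 3`.** -/
theorem core_psu3 {F : Type*} [Field F] [Fintype F] {q : ℕ} (hF : Fintype.card F = q ^ 2) (hq : 3 ≤ q) :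
    Core (Cfsg.PSU 3 F q) := by
  intro p hp hp2 x hx hR hP
  have hp3 : 3 ≤ p := by
    have := hp.out.two_le
    omega
  have hxp : x ^ p = 1 := by rw [← hx]; exact pow_orderOf_eq_one x
  have hx1 : x ≠ 1 := by
    rintro rfl
    rw [orderOf_one] at hx
    exact hp.out.one_lt.ne' hx.symm
  obtain ⟨A, ρ, rfl⟩ := ClassicalGeometry.PSUAutMain.exists_toAut hF le_rfl (by omega) x
  by_cases hρ : ρ = 1
  · subst hρ
    rw [← f₁_def] at hxp hR hP hx1
    by_cases hq4 : 4 ≤ q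
    · exact hx1 (lin_four hF hq4 hp2 hxp hR hP)
    · obtain rfl : q = 3 := by omega
      have hch : CharP F 3 := by
        obtain ⟨l, hl⟩ := CharP.exists F
        have hlp : l.Prime := CharP.char_is_prime F l
        have : Fact l.Prime := ⟨hlp⟩
        obtain ⟨n, -, hn⟩ := FiniteField.card F l
        have h1 : l ∣ 3 ^ 2 := by
          rw [← hF, hn]
          exact dvd_pow_self l n.ne_zero
        have h2 : l = 3 := (Nat.prime_dvd_prime_iff_eq hlp Nat.prime_three).1 (hlp.dvd_of_dvd_pow h1)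
        rwa [h2] at hl
      by_cases h3 : p = 3
      · subst h3
        exact hx1 (three_three hF hxp hP)
      · exact hx1 (three_five hF hp2 h3 hP)
  · exact field_false hF hp.out hp3 hxp hρ hR

end Cfsg.Agent.H953.CorePsu3
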