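import Mathlib
import Cfsg.Agent.CpAut.Psl
import Cfsg.Agent.ClassicalGeometry.AutPSL.SylowU
import Cfsg.Agent.H119.SLVec
import Cfsg.Agent.H460.AADef

/-!
# `PSL_3(q)`: elliptic automorphisms (helper953, task 862, for S3833, S3834, S3840)
-/

set_option autoImplicit false
set_option linter.unusedSectionVars false

namespace Cfsg.Agent.H953.EllPsl3

open Subgroup Cfsg Matrix Cfsg.Agent.H460.AA
open Cfsg.Agent.ClassicalGeometry.AutPSL.Root Cfsg.Agent.ClassicalGeometry.AutPSL.Auto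
  Cfsg.Agent.ClassicalGeometry.AutPSL.SylowU Cfsg.Agent.ClassicalGeometry.AutPSL.Main

section Alg

variable {F : Type*} [Field F]

/-- the companion matrix -/
def cm (a b c : F) : Matrix (Fin 3) (Fin 3) F := !![0, 0, a; 1, 0, b; 0, 1, c]

/-- the conjugating matrix -/
def gg (a b c : F) : Matrix (Fin 3) (Fin 3) F :=
  !![1, -b, a + 1 + c - b - b * c; 0, -c, -1 - c - c ^ 2; 0, 1, 1 + c]

theorem det_gg (a b c : F) : (gg a b c).det = 1 := by
  rw [gg, Matrix.det_fin_three]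
  simp
  ring

/-- the inverse -/
def gi (a b c : F) : Matrix (Fin 3) (Fin 3) F := (gg a b c).adjugate

theorem gg_mul_gi (a b c : F) : gg a b c * gi a b c = 1 := by
  rw [gi, Matrix.mul_adjugate, det_gg, one_smul]

/-- the product -/
def yy (a b c : F) : Matrix (Fin 3) (Fin 3) F := cm a b c * gg a b c * cm a b c * gi a b c

theorem row_yy (a b c : F) : yy a b c 2 0 = 0 ∧ yy a b c 2 1 = -1 ∧ yy a b c 2 2 = -1 - c := by
  have h : yy a b c * gg a b c = cm a b c * gg a b c * cm a b c := by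
    have h1 : gi a b c * gg a b c = 1 := by rw [gi, Matrix.adjugate_mul, det_gg, one_smul]
    rw [yy, Matrix.mul_assoc, h1, Matrix.mul_one]
  have h0 := congrFun (congrFun h 2) 0
  have h1 := congrFun (congrFun h 2) 1
  have h2 := congrFun (congrFun h 2) 2
  simp [Matrix.mul_apply, Fin.sum_univ_three, cm, gg] at h0 h1 h2
  refine ⟨h0, ?_, ?_⟩
  · rw [h0] at h1 h2
    linear_combination (1 + c) * h1 - h2
  · rw [h0] at h1 h2
    linear_combination (1 + c + c ^ 2) * h1 - c * h2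

theorem row_yy_one (a b c : F) : yy a b c 1 0 = 0 ∧ yy a b c 1 1 = 1 + c := by
  have h : yy a b c * gg a b c = cm a b c * gg a b c * cm a b c := by
    have h1 : gi a b c * gg a b c = 1 := by rw [gi, Matrix.adjugate_mul, det_gg, one_smul]
    rw [yy, Matrix.mul_assoc, h1, Matrix.mul_one]
  have h0 := congrFun (congrFun h 1) 0
  have h1 := congrFun (congrFun h 1) 1
  have h2 := congrFun (congrFun h 1) 2
  simp [Matrix.mul_apply, Fin.sum_univ_three, cm, gg] at h0 h1 h2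
  refine ⟨h0, ?_⟩
  rw [h0] at h1 h2
  linear_combination (1 + c) * h1 - h2

/-- the last coordinate function -/
def ph (F : Type*) [Field F] : Fin 3 → F := ![0, 0, 1]

theorem sq_yy (a b c : F) : ∃ d : F, ph F ᵥ* (yy a b c * yy a b c) = d • ph F := by
  obtain ⟨h0, h1, h2⟩ := row_yy a b c
  obtain ⟨h3, h4⟩ := row_yy_one a b c
  refine ⟨(yy a b c * yy a b c) 2 2, ?_⟩
  ext j
  fin_cases j
  · simp [Matrix.vecMul, dotProduct, Matrix.mul_apply, Fin.sum_univ_three, h0, h1, h3, ph]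
  · simp [Matrix.vecMul, dotProduct, Matrix.mul_apply, Fin.sum_univ_three, h0, h1, h2, h4, ph]
    ring
  · simp [Matrix.vecMul, dotProduct, Fin.sum_univ_three, ph]

theorem pow_row {Y : Matrix (Fin 3) (Fin 3) F} {φ : Fin 3 → F} {d : F} (h : φ ᵥ* (Y * Y) = d • φ) (k : ℕ) :
    φ ᵥ* (Y ^ (2 * k)) = d ^ k • φ := by
  induction k with
  | zero => rw [mul_zero, pow_zero, pow_zero, vecMul_one, one_smul]
  | succ k ih => rw [mul_add, mul_one, pow_add, pow_two Y, ← vecMul_vecMul, ih, smul_vecMul, h, smul_smul, pow_succ]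

/-- an odd power of `yy` is not a scalar -/
theorem not_scalar (a b c : F) (ha : a ≠ 0) {m : ℕ} (hm : Odd m) {κ : F} (h : yy a b c ^ m = κ • 1) : False := by
  obtain ⟨k, rfl⟩ := hm
  obtain ⟨d, hd⟩ := sq_yy a b c
  obtain ⟨h0, h1, h2⟩ := row_yy a b c
  have h3 : ph F ᵥ* (yy a b c ^ (2 * k + 1)) = d ^ k • (ph F ᵥ* yy a b c) := by
    rw [pow_succ, ← vecMul_vecMul, pow_row hd, smul_vecMul]
  have h4 := congrFun h3 1
  have h6 := congrFun h3 2
  rw [h] at h4 h6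
  simp only [Matrix.vecMul, dotProduct, Fin.sum_univ_three, ph, Pi.smul_apply, smul_eq_mul, Matrix.smul_apply,
    Matrix.cons_val_zero, Matrix.cons_val_one, Matrix.cons_val, zero_mul, zero_add, one_mul, h1, h2] at h4 h6
  have h7 : (1 : Matrix (Fin 3) (Fin 3) F) 2 1 = 0 := rfl
  have h8 : (1 : Matrix (Fin 3) (Fin 3) F) 2 2 = 1 := rfl
  rw [h7, mul_zero] at h4
  rw [h8, mul_one] at h6
  have h9 : κ = 0 := by linear_combination h6 - (1 + c) * h4
  -- the matrix is invertible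
  have hdet : (yy a b c).det ≠ 0 := by
    have h4 : (cm a b c).det = a := by
      rw [cm, Matrix.det_fin_three]
      simp
    rw [yy, det_mul, det_mul, det_mul, h4, det_gg, gi, Matrix.det_adjugate, det_gg]
    simp [ha]
  have h6 := congrArg Matrix.det h
  rw [h9, zero_smul, det_pow, Matrix.det_zero] at h6
  exact hdet (pow_eq_zero_iff (Nat.succ_ne_zero _) |>.1 h6)

/-! ### cyclic vectors -/

theorem indep {A : Matrix (Fin 3) (Fin 3) F} (hA : ∀ v : Fin 3 → F, v ≠ 0 → ∀ c : F, A *ᵥ v ≠ c • v)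
    {v : Fin 3 → F} (hv : v ≠ 0) {a b c : F} (h : a • v + b • (A *ᵥ v) + c • (A *ᵥ (A *ᵥ v)) = 0) :
    a = 0 ∧ b = 0 ∧ c = 0 := by
  open Polynomial in
  obtain ⟨m, hm⟩ : ∃ m : F[X], m = C a + C b * X + C c * X ^ 2 := ⟨_, rfl⟩
  have hm0 : m = 0 := by
    by_contra hm0
    have hdeg : m.natDegree < 3 := by
      rw [hm]
      compute_degree
      norm_num
    have hnr : A.charpoly.roots = 0 := by
      rw [Multiset.eq_zero_iff_forall_notMem]
      intro c hc
      rw [mem_roots (Matrix.charpoly_monic A).ne_zero] at hc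
      have h1 : (Matrix.scalar (Fin 3) c - A).det = 0 := by
        rw [← Matrix.eval_charpoly]
        exact hc
      obtain ⟨w, hw0, hw⟩ := Matrix.exists_mulVec_eq_zero_iff.2 h1
      apply hA w hw0 c
      rw [sub_mulVec, sub_eq_zero] at hw
      rw [← hw]
      funext i
      simp [Matrix.scalar_apply, mulVec_diagonal]
    have hnd : A.charpoly.natDegree = 3 := by rw [Matrix.charpoly_natDegree_eq_dim, Fintype.card_fin]
    have hirr : Irreducible A.charpoly :=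
      ((Matrix.charpoly_monic A).irreducible_iff_roots_eq_zero_of_degree_le_three (by rw [hnd]; norm_num)
        (by rw [hnd])).2 hnr
    have hcop : IsCoprime A.charpoly m := by
      rw [hirr.coprime_iff_not_dvd]
      intro hd
      have := natDegree_le_of_dvd hd hm0
      omega
    obtain ⟨s, t, hst⟩ := hcop
    have h1 := congrArg (fun f => aeval A f *ᵥ v) hst
    simp only [map_add, map_mul, Matrix.aeval_self_charpoly, mul_zero, zero_add, map_one, one_mulVec] at h1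
    have h2 : aeval A m *ᵥ v = 0 := by
      rw [hm, ← h]
      simp only [map_add, map_mul, aeval_C, aeval_X, map_pow, add_mulVec, Algebra.algebraMap_eq_smul_one,
        smul_mul_assoc, one_mul, smul_mulVec, one_mulVec, pow_two, mulVec_mulVec]
    rw [← mulVec_mulVec, h2, mulVec_zero] at h1
    exact hv h1.symm
  rw [hm] at hm0
  have e0 := congrArg (fun f => Polynomial.coeff f 0) hm0
  have e1 := congrArg (fun f => Polynomial.coeff f 1) hm0
  have e2 := congrArg (fun f => Polynomial.coeff f 2) hm0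
  simp [Polynomial.coeff_X, Polynomial.coeff_one, Polynomial.coeff_X_pow, Polynomial.coeff_C] at e0 e1 e2
  exact ⟨e0, e1, e2⟩

end Alg

section Lin

variable {F : Type*} [Field F] [Finite F]

/-- inner automorphisms -/
theorem conj_pr (g : Matrix.SpecialLinearGroup (Fin 3) F) :
    MulAut.conj (pr g) = lift (cj (Matrix.SpecialLinearGroup.toGL g)) := by
  ext x
  obtain ⟨y, rfl⟩ := QuotientGroup.mk'_surjective _ x
  change pr g * pr y * (pr g)⁻¹ = pr (cj (Matrix.SpecialLinearGroup.toGL g) y)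
  rw [← map_inv, ← map_mul, ← map_mul]
  congr 1

/-- **The linear case.** -/
theorem lin_false {A : GL (Fin 3) F} (hA : ∀ v : Fin 3 → F, v ≠ 0 → ∀ c : F, (A : Matrix (Fin 3) (Fin 3) F) *ᵥ v ≠ c • v)
    {p : ℕ} [hp : Fact p.Prime] (hp2 : p ≠ 2) (h : PA p (lift (cj A))) : False := by
  obtain ⟨M, hM⟩ : ∃ M, M = (A : Matrix (Fin 3) (Fin 3) F) := ⟨_, rfl⟩
  rw [← hM] at hA
  obtain ⟨v, hv⟩ : ∃ v : Fin 3 → F, v ≠ 0 := ⟨fun _ => 1, fun h => one_ne_zero (congrFun h 0)⟩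
  have hli : LinearIndependent F ![v, M *ᵥ v, M *ᵥ (M *ᵥ v)] := by
    rw [Fintype.linearIndependent_iff]
    intro g hg
    rw [Fin.sum_univ_three] at hg
    obtain ⟨h0, h1, h2⟩ := indep hA hv (a := g 0) (b := g 1) (c := g 2) hg
    intro i
    fin_cases i
    · exact h0
    · exact h1
    · exact h2
  let bs : Module.Basis (Fin 3) F (Fin 3 → F) := basisOfLinearIndependentOfCardEqFinrank hli (by simp)
  have hbs : ∀ i, bs i = ![v, M *ᵥ v, M *ᵥ (M *ᵥ v)] i := fun i => by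
    rw [coe_basisOfLinearIndependentOfCardEqFinrank]
  obtain ⟨B, hB⟩ := Cfsg.Agent.CpAut.Psl.exists_gl bs
  obtain ⟨a, b, c, habc⟩ : ∃ a b c : F, M *ᵥ (M *ᵥ (M *ᵥ v)) = a • v + b • (M *ᵥ v) + c • (M *ᵥ (M *ᵥ v)) := by
    have h1 := bs.sum_repr (M *ᵥ (M *ᵥ (M *ᵥ v)))
    rw [Fin.sum_univ_three, hbs, hbs, hbs] at h1
    exact ⟨_, _, _, h1.symm⟩
  have ha : a ≠ 0 := by
    rintro rfl
    rw [zero_smul, zero_add, ← mulVec_smul, ← mulVec_smul M c, ← mulVec_add] at habc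
    have h1 := congrArg (fun w => ((A⁻¹ : GL (Fin 3) F) : Matrix (Fin 3) (Fin 3) F) *ᵥ w) habc
    simp only [mulVec_mulVec, ← Matrix.mul_assoc] at h1
    have h2 : ((A⁻¹ : GL (Fin 3) F) : Matrix (Fin 3) (Fin 3) F) * M = 1 := by
      rw [hM, ← Units.val_mul, inv_mul_cancel, Units.val_one]
    rw [h2, Matrix.one_mul, one_mulVec] at h1
    obtain ⟨-, -, h3⟩ := indep hA hv (a := -b) (b := -c) (c := 1) (by
      rw [one_smul, mulVec_mulVec, h1, neg_smul, neg_smul]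
      abel)
    exact one_ne_zero h3
  have hAB : M * (B : Matrix (Fin 3) (Fin 3) F) = (B : Matrix (Fin 3) (Fin 3) F) * cm a b c := by
    have hc : ∀ i j, (cm a b c *ᵥ (Pi.single j 1 : Fin 3 → F)) i = cm a b c i j := by
      intro i j
      rw [mulVec_single_one]
      rfl
    apply Matrix.ext_of_mulVec_single
    intro j
    rw [← mulVec_mulVec, ← mulVec_mulVec, hB, hB, Fin.sum_univ_three, Fin.sum_univ_three, hbs, hbs, hbs, mulVec_add,
      mulVec_add, mulVec_smul, mulVec_smul, mulVec_smul, hc, hc, hc]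
    fin_cases j
    · simp [cm]
    · simp [cm]
    · simpa [cm] using habc
  have hBB : (B : Matrix (Fin 3) (Fin 3) F) * ((B⁻¹ : GL (Fin 3) F) : Matrix (Fin 3) (Fin 3) F) = 1 := by
    rw [← Units.val_mul, mul_inv_cancel, Units.val_one]
  have hBB' : ((B⁻¹ : GL (Fin 3) F) : Matrix (Fin 3) (Fin 3) F) * (B : Matrix (Fin 3) (Fin 3) F) = 1 := by
    rw [← Units.val_mul, inv_mul_cancel, Units.val_one]
  -- the conjugating element
  let g0 : Matrix.SpecialLinearGroup (Fin 3) F := ⟨gg a b c, det_gg a b c⟩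
  have hg0 : (g0 : Matrix (Fin 3) (Fin 3) F) = gg a b c := rfl
  have hg0i : ((g0⁻¹ : Matrix.SpecialLinearGroup (Fin 3) F) : Matrix (Fin 3) (Fin 3) F) = gi a b c := by
    rw [Matrix.SpecialLinearGroup.coe_inv, hg0, gi]
  obtain ⟨g, hg⟩ : ∃ g, g = cj B g0 := ⟨_, rfl⟩
  have hgc : (g : Matrix (Fin 3) (Fin 3) F) = B * gg a b c * ((B⁻¹ : GL (Fin 3) F) : Matrix (Fin 3) (Fin 3) F) := by
    rw [hg, coe_cj]
  have hgi : ((g⁻¹ : Matrix.SpecialLinearGroup (Fin 3) F) : Matrix (Fin 3) (Fin 3) F) =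
      B * gi a b c * ((B⁻¹ : GL (Fin 3) F) : Matrix (Fin 3) (Fin 3) F) := by
    rw [hg, ← map_inv, coe_cj, hg0i]
  obtain ⟨k, hk⟩ := PE.pow_eq_one_iff.1 (h (pr g))
  obtain ⟨C, hC⟩ : ∃ C : GL (Fin 3) F, C = A * (Matrix.SpecialLinearGroup.toGL g) * A *
    (Matrix.SpecialLinearGroup.toGL g)⁻¹ := ⟨_, rfl⟩
  have hCl : lift (cj A) * (MulAut.conj (pr g) * lift (cj A) * (MulAut.conj (pr g))⁻¹) = lift (cj C) := by
    rw [conj_pr, ← map_inv, ← map_mul, ← map_mul, ← map_mul, hC]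
    simp only [map_mul, map_inv, mul_assoc]
  rw [hCl, ← map_pow, ← map_pow] at hk
  have h1 : lift (cj (C ^ p ^ k) * fld (1 : F ≃+* F)) = lift (fld (1 : F ≃+* F)) := by
    rw [map_one, mul_one, hk, map_one]
  obtain ⟨⟨r, hr⟩, -⟩ := injective_aux h1
  -- the matrix of `C`
  have hCm : (C : Matrix (Fin 3) (Fin 3) F) =
      B * yy a b c * ((B⁻¹ : GL (Fin 3) F) : Matrix (Fin 3) (Fin 3) F) := by
    have hMB : M = (B : Matrix (Fin 3) (Fin 3) F) * cm a b c * ((B⁻¹ : GL (Fin 3) F) : Matrix (Fin 3) (Fin 3) F) := by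
      rw [← hAB, Matrix.mul_assoc, hBB, Matrix.mul_one]
    have e1 : (C : Matrix (Fin 3) (Fin 3) F) = M * (g : Matrix (Fin 3) (Fin 3) F) * M *
        ((g⁻¹ : Matrix.SpecialLinearGroup (Fin 3) F) : Matrix (Fin 3) (Fin 3) F) := by
      rw [hC, ← map_inv, hM]
      rfl
    rw [e1, hMB, hgc, hgi, yy]
    calc _ = (B : Matrix (Fin 3) (Fin 3) F) * cm a b c * (((B⁻¹ : GL (Fin 3) F) : Matrix (Fin 3) (Fin 3) F) * B) *
        gg a b c * (((B⁻¹ : GL (Fin 3) F) : Matrix (Fin 3) (Fin 3) F) * B) * cm a b c *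
        (((B⁻¹ : GL (Fin 3) F) : Matrix (Fin 3) (Fin 3) F) * B) * gi a b c *
        ((B⁻¹ : GL (Fin 3) F) : Matrix (Fin 3) (Fin 3) F) := by
          simp only [Matrix.mul_assoc]
      _ = _ := by
          rw [hBB']
          simp only [Matrix.mul_assoc, Matrix.one_mul, Matrix.mul_one]
  have hpow : ∀ m : ℕ, (C : Matrix (Fin 3) (Fin 3) F) ^ m =
      B * yy a b c ^ m * ((B⁻¹ : GL (Fin 3) F) : Matrix (Fin 3) (Fin 3) F) := by
    intro m
    induction m with
    | zero => rw [pow_zero, pow_zero, Matrix.mul_one, hBB]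
    | succ m ih =>
      rw [pow_succ, ih, hCm, pow_succ]
      calc _ = (B : Matrix (Fin 3) (Fin 3) F) * yy a b c ^ m *
          (((B⁻¹ : GL (Fin 3) F) : Matrix (Fin 3) (Fin 3) F) * B) * yy a b c *
          ((B⁻¹ : GL (Fin 3) F) : Matrix (Fin 3) (Fin 3) F) := by simp only [Matrix.mul_assoc]
        _ = _ := by
          rw [hBB']
          simp only [Matrix.mul_assoc, Matrix.one_mul]
  have hr' : (C : Matrix (Fin 3) (Fin 3) F) ^ p ^ k = r • 1 := by
    rw [← Units.val_pow_eq_pow_val, ← hr]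
    ext i j
    simp [Matrix.scalar_apply, Matrix.diagonal_apply, Matrix.one_apply]
  have hfin : yy a b c ^ p ^ k = r • 1 := by
    have e1 := hpow (p ^ k)
    rw [hr'] at e1
    calc yy a b c ^ p ^ k = ((B⁻¹ : GL (Fin 3) F) : Matrix (Fin 3) (Fin 3) F) * (B * yy a b c ^ p ^ k *
        ((B⁻¹ : GL (Fin 3) F) : Matrix (Fin 3) (Fin 3) F)) * B := by
          rw [← Matrix.mul_assoc, ← Matrix.mul_assoc, hBB', Matrix.one_mul, Matrix.mul_assoc, hBB', Matrix.mul_one]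
      _ = _ := by rw [← e1, Matrix.mul_smul, Matrix.smul_mul, Matrix.mul_one, hBB']
  exact not_scalar a b c ha ((hp.out.odd_of_ne_two hp2).pow) hfin

end Lin

/-! ### parabolic subgroups -/

section Par

variable {F : Type*} [Field F]

/-- the stabiliser of a line -/
def st (v : Fin 3 → F) : Subgroup (Matrix.SpecialLinearGroup (Fin 3) F) where
  carrier := {g | ∃ c : F, c ≠ 0 ∧ g.1 *ᵥ v = c • v}
  one_mem' := ⟨1, one_ne_zero, by rw [Matrix.SpecialLinearGroup.coe_one, one_mulVec, one_smul]⟩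
  mul_mem' := by
    rintro g h ⟨a, ha, h1⟩ ⟨b, hb, h2⟩
    exact ⟨b * a, mul_ne_zero hb ha, by
      rw [Matrix.SpecialLinearGroup.coe_mul, ← mulVec_mulVec, h2, mulVec_smul, h1, smul_smul]⟩
  inv_mem' := by
    rintro g ⟨a, ha, h1⟩
    refine ⟨a⁻¹, inv_ne_zero ha, ?_⟩
    have h2 : (g⁻¹).1 *ᵥ (g.1 *ᵥ v) = v := by
      rw [mulVec_mulVec, ← Matrix.SpecialLinearGroup.coe_mul, inv_mul_cancel, Matrix.SpecialLinearGroup.coe_one,
        one_mulVec]
    rw [h1, mulVec_smul] at h2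
    conv_rhs => rw [← h2]
    rw [smul_smul, inv_mul_cancel₀ ha, one_smul]

theorem mem_st {v : Fin 3 → F} {g : Matrix.SpecialLinearGroup (Fin 3) F} :
    g ∈ st v ↔ ∃ c : F, c ≠ 0 ∧ g.1 *ᵥ v = c • v := Iff.rfl

theorem mulVec_ne {v : Fin 3 → F} (hv : v ≠ 0) (g : Matrix.SpecialLinearGroup (Fin 3) F) : g.1 *ᵥ v ≠ 0 := by
  intro h
  apply hv
  have h2 : (g⁻¹).1 *ᵥ (g.1 *ᵥ v) = v := by
    rw [mulVec_mulVec, ← Matrix.SpecialLinearGroup.coe_mul, inv_mul_cancel, Matrix.SpecialLinearGroup.coe_one,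
      one_mulVec]
  rw [← h2, h, mulVec_zero]

theorem mem_st' {v : Fin 3 → F} (hv : v ≠ 0) {g : Matrix.SpecialLinearGroup (Fin 3) F} {c : F}
    (h : g.1 *ᵥ v = c • v) : g ∈ st v := by
  refine ⟨c, ?_, h⟩
  rintro rfl
  exact mulVec_ne hv g (by rw [h, zero_smul])

/-- the stabiliser of a line in `PSL` -/
def hh (v : Fin 3 → F) : Subgroup (Matrix.ProjectiveSpecialLinearGroup (Fin 3) F) := (st v).map pr

theorem pr_mem_hh {v : Fin 3 → F} (hv : v ≠ 0) {g : Matrix.SpecialLinearGroup (Fin 3) F} :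
    pr g ∈ hh v ↔ g ∈ st v := by
  constructor
  · rintro ⟨g', ⟨c, -, hc⟩, h⟩
    obtain ⟨d, hd⟩ := exists_smul_of_pr_eq h
    exact mem_st' hv (c := d * c) (by rw [hd, smul_mulVec, hc, smul_smul])
  · exact fun h => ⟨g, h, rfl⟩

/-- the first basis vector -/
def e0 (F : Type*) [Field F] : Fin 3 → F := Pi.single 0 1

theorem e0_ne : e0 F ≠ 0 := by
  intro h
  have := congrFun h 0
  simp [e0] at this

theorem hh_ne_top {v : Fin 3 → F} (hv : v ≠ 0) : hh v ≠ ⊤ := by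
  intro h
  obtain ⟨w, hw0, hw⟩ : ∃ w : Fin 3 → F, w ≠ 0 ∧ ∀ c : F, w ≠ c • v := by
    by_contra hcon
    push Not at hcon
    obtain ⟨a, ha⟩ := hcon (Pi.single 0 1) (by intro h; simpa using congrFun h 0)
    obtain ⟨b, hb⟩ := hcon (Pi.single 1 1) (by intro h; simpa using congrFun h 1)
    have h1 := congrFun ha 0
    have h2 := congrFun ha 1
    have h3 := congrFun hb 0
    have h4 := congrFun hb 1
    simp at h1 h2 h3 h4
    rcases h2 with h2 | h2
    · rw [h2, zero_mul] at h1; exact one_ne_zero h1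
    · rw [h2, mul_zero] at h4; exact one_ne_zero h4
  obtain ⟨g, hg⟩ := Cfsg.Agent.H119.SLVec.exists_map_one (n := 3) (by norm_num) hv hw0
  have h1 : pr g ∈ hh v := by rw [h]; trivial
  rw [pr_mem_hh hv] at h1
  obtain ⟨c, -, hc⟩ := h1
  exact hw c (by rw [← hg, hc])

theorem e0_line [Finite F] {w : Fin 3 → F} (h : ∀ u ∈ upper 3 F, ∃ c : F, u.1 *ᵥ w = c • w) : ∃ c : F, w = c • e0 F := by
  obtain ⟨c, hc⟩ := h _ (transvection_mem_upper (show (0 : Fin 3) < 1 by decide) 1)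
  obtain ⟨d, hd⟩ := h _ (transvection_mem_upper (show (1 : Fin 3) < 2 by decide) 1)
  have ht : ∀ (i j : Fin 3) (hij : i ≠ j) (k : Fin 3),
      ((Matrix.SpecialLinearGroup.transvection hij (1 : F)).1 *ᵥ w) k = w k + if k = i then w j else 0 := by
    intro i j hij k
    change (((1 : Matrix (Fin 3) (Fin 3) F) + single i j 1) *ᵥ w) k = _
    rw [add_mulVec, one_mulVec, Pi.add_apply]
    congr 1
    simp only [Matrix.mulVec, dotProduct, Matrix.single_apply, ite_mul, one_mul, zero_mul]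
    by_cases hk : k = i
    · subst hk
      simp
    · simp [hk, Ne.symm hk]
  have c1 := congrFun hc 1
  have c2 := congrFun hc 2
  have d0 := congrFun hd 0
  have d1 := congrFun hd 1
  have d2 := congrFun hd 2
  have c0 := congrFun hc 0
  rw [ht] at c0 c1 c2 d0 d1 d2
  simp at c0 c1 c2 d0 d1 d2
  have hw2 : w 2 = 0 := by
    by_contra hw
    have h1 : (d - 1) * w 2 = 0 := by linear_combination -d2
    have h2 : d - 1 = 0 := (mul_eq_zero.1 h1).resolve_right hw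
    apply hw
    linear_combination d1 + h2 * w 1
  have hw1 : w 1 = 0 := by
    by_contra hw
    have h1 : (c - 1) * w 1 = 0 := by linear_combination -c1
    have h2 : c - 1 = 0 := (mul_eq_zero.1 h1).resolve_right hw
    apply hw
    linear_combination c0 + h2 * w 0
  refine ⟨w 0, ?_⟩
  ext i
  fin_cases i
  · simp [e0]
  · simp [e0, hw1]
  · simp [e0, hw2]

theorem upper_e0 [Finite F] {u : Matrix.SpecialLinearGroup (Fin 3) F} (hu : u ∈ upper 3 F) : u.1 *ᵥ e0 F = e0 F := by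
  rw [e0, mulVec_single_one]
  ext i
  have h1 := mem_upper.1 hu i 0 (Fin.zero_le i)
  rw [Matrix.col_apply, h1, Pi.single_apply]

theorem norm_le [Fintype F] {U : Subgroup (Matrix.ProjectiveSpecialLinearGroup (Fin 3) F)}
    (hU : U = (upper 3 F).map pr) : Subgroup.normalizer (U : Set (Matrix.ProjectiveSpecialLinearGroup (Fin 3) F)) ≤ hh (e0 F) := by
  intro n hn
  obtain ⟨m, rfl⟩ := QuotientGroup.mk'_surjective _ n
  change pr m ∈ hh (e0 F)
  have hn' := (Subgroup.normalizer _).inv_mem hn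
  change (pr m)⁻¹ ∈ _ at hn'
  rw [pr_mem_hh e0_ne]
  obtain ⟨c, hc⟩ := e0_line (w := m.1 *ᵥ e0 F) (by
    intro u hu
    have h1 : pr u ∈ U := by rw [hU]; exact ⟨u, hu, rfl⟩
    have h2 := (Subgroup.mem_normalizer_iff.1 hn' (pr u)).1 h1
    rw [inv_inv, ← map_inv, ← map_mul, ← map_mul, hU] at h2
    obtain ⟨u', hu', h3⟩ := h2
    obtain ⟨c, hc⟩ := exists_smul_of_pr_eq h3
    refine ⟨c, ?_⟩
    have h4 : u * m = m * (m⁻¹ * u * m) := by group
    have h5 : u.1 *ᵥ (m.1 *ᵥ e0 F) = m.1 *ᵥ ((m⁻¹ * u * m).1 *ᵥ e0 F) := by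
      rw [mulVec_mulVec, mulVec_mulVec, ← Matrix.SpecialLinearGroup.coe_mul, ← Matrix.SpecialLinearGroup.coe_mul, h4]
    rw [h5, hc, smul_mulVec, upper_e0 hu', mulVec_smul])
  exact mem_st' e0_ne hc

/-- The stabiliser of a line contains the normaliser of a Sylow subgroup. -/
theorem exists_sylow_le [Fintype F] (l : ℕ) [Fact l.Prime] [CharP F l] {v : Fin 3 → F} (hv : v ≠ 0) :
    ∃ U : Sylow l (Matrix.ProjectiveSpecialLinearGroup (Fin 3) F),
      Subgroup.normalizer ((U : Subgroup (Matrix.ProjectiveSpecialLinearGroup (Fin 3) F)) : Set _) ≤ hh v := by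
  obtain ⟨U, hU⟩ := exists_sylow (F := F) 3 l
  obtain ⟨m, hm⟩ := Cfsg.Agent.H119.SLVec.exists_map_one (n := 3) (by norm_num) (e0_ne (F := F)) hv
  refine ⟨pr m • U, ?_⟩
  intro n hn
  have h1 : (pr m)⁻¹ * n * pr m ∈ Subgroup.normalizer ((U : Subgroup (Matrix.ProjectiveSpecialLinearGroup (Fin 3) F)) : Set _) := by
    rw [Subgroup.mem_normalizer_iff] at hn ⊢
    have key : ∀ h, h ∈ ((pr m • U : Sylow l _) : Subgroup (Matrix.ProjectiveSpecialLinearGroup (Fin 3) F)) ↔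
        (pr m)⁻¹ * h * pr m ∈ (U : Subgroup (Matrix.ProjectiveSpecialLinearGroup (Fin 3) F)) := by
      intro h
      rw [Sylow.coe_subgroup_smul, Subgroup.mem_pointwise_smul_iff_inv_smul_mem, ← map_inv, MulAut.smul_def,
        MulAut.conj_apply, inv_inv]
    intro h
    have h2 := hn (pr m * h * (pr m)⁻¹)
    rw [key, key] at h2
    have e1 : (pr m)⁻¹ * (pr m * h * (pr m)⁻¹) * pr m = h := by group
    have e2 : (pr m)⁻¹ * (n * (pr m * h * (pr m)⁻¹) * n⁻¹) * pr m =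
      (pr m)⁻¹ * n * pr m * h * ((pr m)⁻¹ * n * pr m)⁻¹ := by group
    rw [e1, e2] at h2
    exact h2
  obtain ⟨n', rfl⟩ := QuotientGroup.mk'_surjective _ n
  change pr n' ∈ hh v
  change (pr m)⁻¹ * pr n' * pr m ∈ _ at h1
  have h2 := norm_le hU h1
  rw [← map_inv, ← map_mul, ← map_mul, pr_mem_hh e0_ne] at h2
  rw [pr_mem_hh hv]
  obtain ⟨c, hc0, hc⟩ := h2
  refine mem_st' hv (c := c) ?_
  have h3 : n' * m = m * (m⁻¹ * n' * m) := by group
  rw [← hm, mulVec_mulVec, ← Matrix.SpecialLinearGroup.coe_mul, h3, Matrix.SpecialLinearGroup.coe_mul,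
    ← mulVec_mulVec, hc, mulVec_smul]

end Par

/-- **Elliptic automorphisms of `PSL_3(F)`.** -/
theorem psl3_elliptic (F : Type) [Field F] [Finite F] {l : ℕ} [Fact l.Prime] [CharP F l] {p : ℕ} [Fact p.Prime]
    (hp2 : p ≠ 2) (_hpl : p ≠ l) (x : MulAut (Matrix.ProjectiveSpecialLinearGroup (Fin 3) F)) (hx : orderOf x = p)
    (hPA : PA p x)
    (hel : ∀ (U : Sylow l (Matrix.ProjectiveSpecialLinearGroup (Fin 3) F))
      (H : Subgroup (Matrix.ProjectiveSpecialLinearGroup (Fin 3) F)), H ≠ ⊤ →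
      Subgroup.normalizer ((U : Subgroup (Matrix.ProjectiveSpecialLinearGroup (Fin 3) F)) : Set _) ≤ H →
      ∃ h ∈ H, x h ∉ H) : False := by
  have : Fintype F := Fintype.ofFinite F
  have hp : p.Prime := Fact.out
  have hxp : x ^ p = 1 := by rw [← hx]; exact pow_orderOf_eq_one x
  obtain ⟨A, σ, rfl⟩ := Cfsg.Agent.CpAut.Psl.exists_of_odd (n := 3) (by norm_num) (hp.odd_of_ne_two hp2) hxp
  have hel' : ∀ v : Fin 3 → F, v ≠ 0 → ∃ g ∈ st v,
      (cj A * fld σ : MulAut (Matrix.SpecialLinearGroup (Fin 3) F)) g ∉ st v := by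
    intro v hv
    obtain ⟨U, hU⟩ := exists_sylow_le l hv
    obtain ⟨h, hh1, hh2⟩ := hel U (hh v) (hh_ne_top hv) hU
    obtain ⟨g, hg, rfl⟩ := hh1
    refine ⟨g, hg, fun h3 => hh2 ?_⟩
    rw [lift_pr, pr_mem_hh hv]
    exact h3
  by_cases hσ : σ = 1
  · subst hσ
    rw [map_one, mul_one] at hPA hel'
    refine lin_false ?_ hp2 hPA
    intro v hv c hc
    obtain ⟨g, ⟨d, hd0, hd⟩, h2⟩ := hel' v hv
    apply h2
    have hc0 : c ≠ 0 := by
      rintro rfl
      apply hv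
      have h3 : ((A⁻¹ : GL (Fin 3) F) : Matrix (Fin 3) (Fin 3) F) *ᵥ ((A : Matrix (Fin 3) (Fin 3) F) *ᵥ v) = v := by
        rw [mulVec_mulVec, ← Units.val_mul, inv_mul_cancel, Units.val_one, one_mulVec]
      rw [← h3, hc, zero_smul, mulVec_zero]
    have hi : ((A⁻¹ : GL (Fin 3) F) : Matrix (Fin 3) (Fin 3) F) *ᵥ v = c⁻¹ • v := by
      have h3 : v = (A : Matrix (Fin 3) (Fin 3) F) *ᵥ (c⁻¹ • v) := by
        rw [mulVec_smul, hc, smul_smul, inv_mul_cancel₀ hc0, one_smul]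
      conv_lhs => rw [h3]
      rw [mulVec_mulVec, ← Units.val_mul, inv_mul_cancel, Units.val_one, one_mulVec]
    refine mem_st' hv (c := d) ?_
    show ((A : Matrix (Fin 3) (Fin 3) F) * g.1 * ((A⁻¹ : GL (Fin 3) F) : Matrix (Fin 3) (Fin 3) F)) *ᵥ v = _
    rw [← mulVec_mulVec, hi, ← mulVec_mulVec, mulVec_smul, hd, mulVec_smul, mulVec_smul, hc, smul_smul, smul_smul]
    congr 1
    field_simp
  · obtain ⟨-, B, hB⟩ := Cfsg.Agent.CpAut.Psl.exists_conj hp hxp hσ
    have hBv : (B : Matrix (Fin 3) (Fin 3) F) *ᵥ e0 F ≠ 0 := by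
      intro h
      apply e0_ne (F := F)
      have h3 : ((B⁻¹ : GL (Fin 3) F) : Matrix (Fin 3) (Fin 3) F) *ᵥ ((B : Matrix (Fin 3) (Fin 3) F) *ᵥ e0 F) = e0 F := by
        rw [mulVec_mulVec, ← Units.val_mul, inv_mul_cancel, Units.val_one, one_mulVec]
      rw [← h3, h, mulVec_zero]
    have hBB : ((B⁻¹ : GL (Fin 3) F) : Matrix (Fin 3) (Fin 3) F) *ᵥ ((B : Matrix (Fin 3) (Fin 3) F) *ᵥ e0 F) = e0 F := by
      rw [mulVec_mulVec, ← Units.val_mul, inv_mul_cancel, Units.val_one, one_mulVec]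
    obtain ⟨g, ⟨d, hd0, hd⟩, h2⟩ := hel' _ hBv
    apply h2
    rw [hB]
    have h1 : (cj B * fld σ * (cj B)⁻¹ : MulAut (Matrix.SpecialLinearGroup (Fin 3) F)) g = cj B (fld σ (cj B⁻¹ g)) := by
      rw [map_inv]; rfl
    rw [h1]
    refine mem_st' hBv (c := σ d) ?_
    have h3 : (cj B⁻¹ g).1 *ᵥ e0 F = d • e0 F := by
      show (((B⁻¹ : GL (Fin 3) F) : Matrix (Fin 3) (Fin 3) F) * g.1 *
        (((B⁻¹)⁻¹ : GL (Fin 3) F) : Matrix (Fin 3) (Fin 3) F)) *ᵥ e0 F = _
      rw [inv_inv, ← mulVec_mulVec, ← mulVec_mulVec, hd, mulVec_smul, hBB]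
    have h4 : (fld σ (cj B⁻¹ g)).1 *ᵥ e0 F = σ d • e0 F := by
      rw [e0, mulVec_single_one] at h3 ⊢
      ext i
      have h5 := congrFun h3 i
      rw [Matrix.col_apply, Pi.smul_apply, smul_eq_mul] at h5 ⊢
      rw [show (fld σ (cj B⁻¹ g)).1 i 0 = σ ((cj B⁻¹ g).1 i 0) from rfl, h5, map_mul]
      congr 1
      rw [Pi.single_apply]
      split_ifs
      · exact map_one σ
      · exact map_zero σ
    show ((B : Matrix (Fin 3) (Fin 3) F) * (fld σ (cj B⁻¹ g)).1 * ((B⁻¹ : GL (Fin 3) F) : Matrix (Fin 3) (Fin 3) F)) *ᵥ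
      ((B : Matrix (Fin 3) (Fin 3) F) *ᵥ e0 F) = _
    rw [← mulVec_mulVec, hBB, ← mulVec_mulVec, h4, mulVec_smul]

end Cfsg.Agent.H953.EllPsl3
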