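import Cfsg.Agent.H953.DpB
import Cfsg.Agent.S0246
import Cfsg.Agent.S0248

/-!
# Good primes of the symplectic and orthogonal groups are good (helper953, project S5734, DP8)

* `goodP_psp`, `goodP_oodd`, `goodP_oplus`, `goodP_ominus`;
* `goodP_cl` : all of them (constant one).
-/

set_option autoImplicit false

namespace Cfsg.Agent.H953.Dp

open Subgroup Cfsg Cfsg.Agent.OrdDiv Cfsg.Agent.H436 Cfsg.Agent.H915.GN Cfsg.Agent.H192.Dp

section omega

open QuadraticMap Module Cfsg.Agent.LieClassical.OrthCore Cfsg.Agent.LieClassical.OrthTrans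
  Cfsg.Agent.LieClassical.OrthSimple Cfsg.Agent.LieClassical.OrthFinite
  Cfsg.Agent.ClassicalGeometry.OrthSemiForms Cfsg.Agent.LieClassical.OrthForms

/-- the orthogonal groups -/
theorem goodP_orth {F : Type} [Field F] [Fintype F] {ι : Type} [Fintype ι] [DecidableEq ι]
    {Q : QuadraticForm F (ι → F)} (hG : Good Q) {T : Type*} [Group T] [Finite T] (ε : T ≃* POmega F ⇑Q)
    {u e : ℕ} (hu : u.Prime) (he3 : 3 ≤ e)
    (he : orderOf ((Fintype.card F : ℕ) : ZMod u) = e) (hdvd : u ∣ Nat.card T)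
    (hc : Fintype.card ι < 2 * e ∨ ∃ k, e ≤ k ∧ k < 2 * e ∧
      (∃ φ : Matrix.SpecialLinearGroup (Fin k) F →* isometryGroup F ⇑Q, Function.Injective φ) ∧
      (Nat.card T).factorization u ≤ padicValNat u (Fintype.card F ^ e - 1)) : GoodP T u (Fintype.card ι) := by
  let σ : Cfsg.Omega F ⇑Q →* Matrix.GeneralLinearGroup ι F :=
    (Cfsg.isometryGroup F ⇑Q).subtype.comp (Cfsg.Omega F ⇑Q).subtype
  have hσ : Function.Injective σ := (Subgroup.subtype_injective _).comp (Subgroup.subtype_injective _)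
  refine goodP_gen (L := Cfsg.Omega F ⇑Q) (ε.symm.toMonoidHom.comp (QuotientGroup.mk' (center (Cfsg.Omega F ⇑Q))))
    (ε.symm.surjective.comp (QuotientGroup.mk'_surjective _)) ?_ σ hσ hu he3 he hdvd ?_
  · intro z hz
    have h1 : z ∈ center (Cfsg.Omega F ⇑Q) := by
      rw [← QuotientGroup.eq_one_iff]
      exact ε.symm.injective (hz.trans (map_one ε.symm).symm)
    exact ⟨h1, H948.OnCyc.center_omega_sq hG h1⟩
  · rcases hc with hc | ⟨k, h1, h2, ⟨φ, hφ⟩, h3⟩
    · exact Or.inl hc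
    · have h4 : ∀ x, φ x ∈ Cfsg.Omega F ⇑Q := by
        intro x
        have hx : φ x ∈ (commutator (Matrix.SpecialLinearGroup (Fin k) F)).map φ :=
          ⟨x, by rw [S0248.result k (by omega)]; trivial, rfl⟩
        rw [commutator_def, Subgroup.map_commutator] at hx
        change φ x ∈ commutator _
        rw [commutator_def]
        exact Subgroup.commutator_mono le_top le_top hx
      exact Or.inr ⟨k, h1, h2, ⟨φ.codRestrict _ h4, fun a b hab => hφ (congrArg Subtype.val hab)⟩, h3⟩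

end omega

variable {u : ℕ}

theorem dvd_of_eq' {u d c n : ℕ} (hu : u.Prime) (hd : ¬ u ∣ d) (h : d * c = n) (hn : u ∣ n) : u ∣ c := by
  rw [← h] at hn
  exact (hu.dvd_mul.1 hn).resolve_left hd

theorem not_dvd_gcd_four {u x : ℕ} (hu : u.Prime) (hu2 : u ≠ 2) : ¬ u ∣ Nat.gcd 4 x := by
  intro h
  have h1 : u ∣ 2 ^ 2 := h.trans (Nat.gcd_dvd_left _ _)
  exact hu2 ((Nat.prime_dvd_prime_iff_eq hu Nat.prime_two).1 (hu.dvd_of_dvd_pow h1))

theorem not_dvd_gcd_two {u x : ℕ} (hu : u.Prime) (hu2 : u ≠ 2) : ¬ u ∣ Nat.gcd 2 x := by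
  intro h
  exact hu2 ((Nat.prime_dvd_prime_iff_eq hu Nat.prime_two).1 (h.trans (Nat.gcd_dvd_left _ _)))

theorem prB_eq (q m : ℕ) : prB q m = ∏ i ∈ Finset.range m, (q ^ (2 * (i + 1)) - 1) :=
  prod_list (fun i => q ^ (2 * (i + 1)) - 1) m

theorem prB_ne {q : ℕ} (hq : 2 ≤ q) (m : ℕ) : prB q m ≠ 0 := by
  rw [prB_eq]
  exact Finset.prod_ne_zero_iff.2 fun i _ => pow_sub_ne hq (by omega)

theorem dvd_prB {q e m j : ℕ} (hd : ∀ i, u ∣ q ^ i - 1 ↔ e ∣ i) (hj : 1 ≤ j) (hjm : j ≤ m) (he : e ∣ 2 * j) :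
    u ∣ prB q m := by
  rw [prB_eq]
  refine ((hd (2 * j)).2 he).trans ?_
  have h := Finset.dvd_prod_of_mem (fun i => q ^ (2 * (i + 1)) - 1) (Finset.mem_range.2 (show j - 1 < m by omega))
  rwa [Nat.sub_add_cancel hj] at h

/-- odd levels -/
theorem odd_level {e m : ℕ} (ho : Odd e) {i : ℕ} (hi : 1 ≤ i) (him : i ≤ m) (hm : m < 2 * e) (h : e ∣ 2 * i) :
    i = e := by
  obtain ⟨c, hc⟩ := (Nat.coprime_two_right.2 ho).dvd_of_dvd_mul_left h
  have h0 : c = 1 := by
    rcases c with _ | _ | c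
    · omega
    · rfl
    · have : 2 * e ≤ e * (c + 1 + 1) := by
        rw [mul_comm 2 e]
        exact Nat.mul_le_mul_left _ (by omega)
      omega
  rw [hc, h0, mul_one]

/-- `v(prB q n)` for an odd level -/
theorem val_prB [Fact u.Prime] {q e n : ℕ} (hq : 2 ≤ q) (hu2 : u ≠ 2) (hd : ∀ i, u ∣ q ^ i - 1 ↔ e ∣ i)
    (ho : Odd e) (he3 : 3 ≤ e) (hm : n < 2 * e) :
    padicValNat u (prB q n) = if e ≤ n then padicValNat u (q ^ e - 1) else 0 := by
  rw [prB_eq, val_prod hq (j := e) (by omega)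
    (fun i h1 h2 h3 => odd_level ho h1 h2 hm ((hd _).1 h3)), val_double hq hu2 (by omega) ((hd e).2 dvd_rfl)]

theorem psp_row {m q : ℕ} {T : Type} [Group T] [Finite T] (h : IsNamed (.psp m q) T) (hb : 3 ≤ m) (hu : u.Prime)
    (hl : LevP (.psp m q) u) : GoodP T u (2 * m) := by
  obtain ⟨e, ⟨he3, hl⟩, he⟩ := hl
  obtain ⟨⟨F, _, _, hF, ⟨ε⟩⟩, -, heq, -⟩ := h
  subst hF
  classical
  have := Fact.mk hu
  have hu2 := ne_two he3 he
  have huq := not_dvd_q he3 he
  have hq : 2 ≤ Fintype.card F := Fintype.one_lt_card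
  have hd := Cfsg.Agent.H948.OnPO.dvd_iff (p := u) (q := Fintype.card F) (by omega) he
  have heq' : Nat.gcd 2 (Fintype.card F - 1) * Nat.card T =
    Fintype.card F ^ (m ^ 2) * (1 * prB (Fintype.card F) m) := by rw [one_mul]; exact heq
  have hdd : ¬ u ∣ Nat.gcd 2 (Fintype.card F - 1) := not_dvd_gcd_two hu hu2
  have hfac := val_of_eq hdd (Nat.gcd_pos_of_pos_left _ (by norm_num)).ne' Nat.card_pos.ne' huq hq one_ne_zero
    (prB_ne hq m) heq'
  have hdvd : u ∣ Nat.card T := by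
    refine dvd_of_eq' hu hdd heq' (Dvd.dvd.mul_left (Dvd.dvd.mul_left ?_ _) _)
    rcases hl with ⟨h1, h2, h3⟩ | ⟨h1, h2, h3⟩
    · obtain ⟨j, hj⟩ := h1
      exact dvd_prB hd (j := j) (by omega) (by omega) (by rw [hj, two_mul])
    · exact dvd_prB hd (j := e) (by omega) h3 (dvd_mul_left e 2)
  let σ : Matrix.symplecticGroup (Fin m) F →* Matrix.GeneralLinearGroup (Fin m ⊕ Fin m) F :=
    (Submonoid.subtype (Matrix.symplecticGroup (Fin m) F)).toHomUnits
  have hσ : Function.Injective σ := by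
    intro a b hab
    exact Subtype.ext (congrArg Units.val hab)
  have hcard : Fintype.card (Fin m ⊕ Fin m) = 2 * m := by
    rw [Fintype.card_sum, Fintype.card_fin, two_mul]
  have key := goodP_gen (L := Matrix.symplecticGroup (Fin m) F) (T := T) (u := u) (e := e)
    (ε.symm.toMonoidHom.comp (QuotientGroup.mk' (center (Matrix.symplecticGroup (Fin m) F))))
    (ε.symm.surjective.comp (QuotientGroup.mk'_surjective _)) ?_ σ hσ hu he3 he hdvd ?_
  · rwa [hcard] at key
  · intro z hz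
    have h1 : z ∈ center (Matrix.symplecticGroup (Fin m) F) := by
      rw [← QuotientGroup.eq_one_iff]
      exact ε.symm.injective (hz.trans (map_one ε.symm).symm)
    refine ⟨h1, ?_⟩
    have h2 := S0246.result (F := F) rfl m (by omega)
    have h3 : (⟨z, h1⟩ : center (Matrix.symplecticGroup (Fin m) F)) ^ 2 = 1 := by
      refine orderOf_dvd_iff_pow_eq_one.1 ((_root_.orderOf_dvd_natCard _).trans ?_)
      rw [h2]
      exact Nat.gcd_dvd_left _ _
    rw [← pow_two]
    exact congrArg Subtype.val h3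
  · rw [hcard]
    rcases hl with ⟨h1, h2, h3⟩ | ⟨h1, h2, h3⟩
    · left; omega
    · right
      refine ⟨m, h3, h2, ⟨H376.WordEmb.leviSp m, H376.WordEmb.leviSp_injective m⟩, ?_⟩
      rw [hfac, padicValNat_one_right, zero_add, val_prB hq hu2 hd h1 he3 h2, if_pos h3]

open Cfsg.Agent.ClassicalGeometry.OrthSemiForms Cfsg.Agent.LieClassical.OrthForms in
theorem oodd_row {m q : ℕ} {T : Type} [Group T] [Finite T] (h : IsNamed (.oodd m q) T) (hb : 3 ≤ m) (hu : u.Prime)
    (hl : LevP (.oodd m q) u) : GoodP T u (2 * m + 1) := by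
  obtain ⟨e, ⟨he3, hl⟩, he⟩ := hl
  obtain ⟨⟨F, _, _, hF, ⟨ε⟩⟩, ⟨-, ho, -⟩, heq, -⟩ := h
  subst hF
  classical
  have := Fact.mk hu
  have hu2 := ne_two he3 he
  have huq := not_dvd_q he3 he
  have hq : 2 ≤ Fintype.card F := Fintype.one_lt_card
  have hd := Cfsg.Agent.H948.OnPO.dvd_iff (p := u) (q := Fintype.card F) (by omega) he
  have heq' : 2 * Nat.card T =
    Fintype.card F ^ (m ^ 2) * (1 * prB (Fintype.card F) m) := by rw [one_mul]; exact heq
  have hdd : ¬ u ∣ 2 := fun h => hu2 ((Nat.prime_dvd_prime_iff_eq hu Nat.prime_two).1 h)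
  have hfac := val_of_eq hdd two_ne_zero Nat.card_pos.ne' huq hq one_ne_zero (prB_ne hq m) heq'
  have hdvd : u ∣ Nat.card T := by
    refine dvd_of_eq' hu hdd heq' (Dvd.dvd.mul_left (Dvd.dvd.mul_left ?_ _) _)
    rcases hl with ⟨h1, h2, h3⟩ | ⟨h1, h2, h3⟩
    · obtain ⟨j, hj⟩ := h1
      exact dvd_prB hd (j := j) (by omega) (by omega) (by rw [hj, two_mul])
    · exact dvd_prB hd (j := e) (by omega) h3 (dvd_mul_left e 2)
  have h2F : (2 : F) ≠ 0 := by
    intro h0
    obtain ⟨n, hp, hn⟩ := FiniteField.card F (ringChar F)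
    have h1 : ringChar F ∣ 2 := (ringChar.spec F 2).1 (by exact_mod_cast h0)
    have h2 : ringChar F = 2 := (Nat.prime_dvd_prime_iff_eq hp Nat.prime_two).1 h1
    rw [hn, h2] at ho
    exact (Nat.not_odd_iff_even.2 ((Nat.even_pow' n.pos.ne').2 even_two)) ho
  have hcard : Fintype.card (Unit ⊕ Fin m ⊕ Fin m) = 2 * m + 1 := by
    simp only [Fintype.card_sum, Fintype.card_fin, Fintype.card_unit]
    omega
  have key := goodP_orth (T := T) (u := u) (e := e) (good_odd (F := F) (m := m) (by omega) h2F)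
    (by rw [coe_oddForm]; exact ε) hu he3 he hdvd ?_
  · rwa [hcard] at key
  · rw [hcard, coe_oddForm]
    rcases hl with ⟨h1, h2, h3⟩ | ⟨h1, h2, h3⟩
    · left; omega
    · right
      refine ⟨m, h3, h2, H376.WordEmb.sl_odd m, ?_⟩
      rw [hfac, padicValNat_one_right, zero_add, val_prB hq hu2 hd h1 he3 h2, if_pos h3]

open Cfsg.Agent.ClassicalGeometry.OrthSemiForms Cfsg.Agent.LieClassical.OrthForms in
theorem oplus_row {m q : ℕ} {T : Type} [Group T] [Finite T] (h : IsNamed (.oplus m q) T) (hb : 4 ≤ m) (hu : u.Prime)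
    (hl : LevP (.oplus m q) u) : GoodP T u (2 * m) := by
  obtain ⟨e, ⟨he3, hl⟩, he⟩ := hl
  obtain ⟨⟨F, _, _, hF, ⟨ε⟩⟩, -, heq, -⟩ := h
  subst hF
  classical
  have := Fact.mk hu
  have hu2 := ne_two he3 he
  have huq := not_dvd_q he3 he
  have hq : 2 ≤ Fintype.card F := Fintype.one_lt_card
  have hd := Cfsg.Agent.H948.OnPO.dvd_iff (p := u) (q := Fintype.card F) (by omega) he
  have heq' : Nat.gcd 4 (Fintype.card F ^ m - 1) * Nat.card T =
    Fintype.card F ^ (m * (m - 1)) * ((Fintype.card F ^ m - 1) * prB (Fintype.card F) (m - 1)) := heq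
  have hdd : ¬ u ∣ Nat.gcd 4 (Fintype.card F ^ m - 1) := not_dvd_gcd_four hu hu2
  have hfac := val_of_eq hdd (Nat.gcd_pos_of_pos_left _ (by norm_num)).ne' Nat.card_pos.ne' huq hq
    (pow_sub_ne hq (by omega)) (prB_ne hq (m - 1)) heq'
  have hdvd : u ∣ Nat.card T := by
    refine dvd_of_eq' hu hdd heq' (Dvd.dvd.mul_left ?_ _)
    rcases hl with ⟨h1, h2, h3⟩ | ⟨h1, h2, h3⟩
    · obtain ⟨j, hj⟩ := h1
      exact Dvd.dvd.mul_left (dvd_prB hd (j := j) (by omega) (by omega) (by rw [hj, two_mul])) _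
    · by_cases h4 : e = m
      · exact Dvd.dvd.mul_right ((hd m).2 (by rw [h4])) _
      · exact Dvd.dvd.mul_left (dvd_prB hd (j := e) (by omega) (by omega) (dvd_mul_left e 2)) _
  have hcard : Fintype.card (Fin m ⊕ Fin m) = 2 * m := by
    rw [Fintype.card_sum, Fintype.card_fin, two_mul]
  have key := goodP_orth (T := T) (u := u) (e := e) (good_plus (F := F) (m := m) (by omega))
    (by rw [coe_plusForm]; exact ε) hu he3 he hdvd ?_
  · rwa [hcard] at key
  · rw [hcard, coe_plusForm]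
    rcases hl with ⟨h1, h2, h3⟩ | ⟨h1, h2, h3⟩
    · left; omega
    · right
      refine ⟨m, h3, h2, H376.WordEmb.sl_plus m, ?_⟩
      rw [hfac, val_prB hq hu2 hd h1 he3 (by omega)]
      by_cases h4 : e = m
      · subst h4
        rw [if_neg (by omega), add_zero]
      · have h5 : ¬ u ∣ Fintype.card F ^ m - 1 := by
          intro h6
          exact h4 (odd_level h1 (by omega) le_rfl h2 (((hd m).1 h6).mul_left 2)).symm
        rw [padicValNat.eq_zero_of_not_dvd h5, zero_add, if_pos (by omega)]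

open Cfsg.Agent.ClassicalGeometry.OrthSemiForms Cfsg.Agent.LieClassical.OrthForms in
theorem ominus_row {m q : ℕ} {T : Type} [Group T] [Finite T] (h : IsNamed (.ominus m q) T) (hb : 4 ≤ m)
    (hu : u.Prime) (hl : LevP (.ominus m q) u) : GoodP T u (2 * m) := by
  obtain ⟨e, ⟨he3, hl⟩, he⟩ := hl
  obtain ⟨⟨F, _, _, a, b, hF, hab, ⟨ε⟩⟩, -, heq, -⟩ := h
  subst hF
  classical
  have := Fact.mk hu
  have hu2 := ne_two he3 he
  have huq := not_dvd_q he3 he
  have hq : 2 ≤ Fintype.card F := Fintype.one_lt_card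
  have hd := Cfsg.Agent.H948.OnPO.dvd_iff (p := u) (q := Fintype.card F) (by omega) he
  have heq' : Nat.gcd 4 (Fintype.card F ^ m + 1) * Nat.card T =
    Fintype.card F ^ (m * (m - 1)) * ((Fintype.card F ^ m + 1) * prB (Fintype.card F) (m - 1)) := heq
  have hdd : ¬ u ∣ Nat.gcd 4 (Fintype.card F ^ m + 1) := not_dvd_gcd_four hu hu2
  have hfac := val_of_eq hdd (Nat.gcd_pos_of_pos_left _ (by norm_num)).ne' Nat.card_pos.ne' huq hq
    (Nat.succ_ne_zero _) (prB_ne hq (m - 1)) heq'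
  have hplus : u ∣ Fintype.card F ^ m + 1 → e ∣ 2 * m := by
    intro h6
    rw [← hd]
    have h2 := Nat.sq_sub_sq (Fintype.card F ^ m) 1
    rw [one_pow, ← pow_mul, mul_comm m 2] at h2
    rw [h2]
    exact Dvd.dvd.mul_right h6 _
  have hdvd : u ∣ Nat.card T := by
    refine dvd_of_eq' hu hdd heq' (Dvd.dvd.mul_left ?_ _)
    rcases hl with ⟨h1, h2, h3⟩ | ⟨h1, h2, h3⟩
    · by_cases h4 : e = 2 * m
      · refine Dvd.dvd.mul_right ?_ _
        have h5 : u ∣ Fintype.card F ^ (2 * m) - 1 := (hd _).2 (by rw [h4])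
        have h6 := Nat.sq_sub_sq (Fintype.card F ^ m) 1
        rw [one_pow, ← pow_mul, mul_comm m 2] at h6
        rw [h6] at h5
        refine (hu.dvd_mul.1 h5).resolve_right fun h7 => ?_
        have h8 := Nat.le_of_dvd (by omega) ((hd m).1 h7)
        omega
      · obtain ⟨j, hj⟩ := h1
        exact Dvd.dvd.mul_left (dvd_prB hd (j := j) (by omega) (by omega) (by rw [hj, two_mul])) _
    · exact Dvd.dvd.mul_left (dvd_prB hd (j := e) (by omega) (by omega) (dvd_mul_left e 2)) _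
  have hcard : Fintype.card ((Fin (m - 1) ⊕ Fin (m - 1)) ⊕ Fin 2) = 2 * m := by
    simp only [Fintype.card_sum, Fintype.card_fin]
    omega
  have key := goodP_orth (T := T) (u := u) (e := e) (good_minus (F := F) (m := m - 1) (by omega) a b hab)
    (by rw [coe_minusForm]; exact ε) hu he3 he hdvd ?_
  · rwa [hcard] at key
  · rw [hcard, coe_minusForm]
    rcases hl with ⟨h1, h2, h3⟩ | ⟨h1, h2, h3⟩
    · left; omega
    · right
      refine ⟨m - 1, h3, by omega, H376.WordEmb.sl_minus (m - 1) a b, ?_⟩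
      rw [hfac, val_prB hq hu2 hd h1 he3 (by omega), if_pos h3]
      have h5 : ¬ u ∣ Fintype.card F ^ m + 1 := by
        intro h6
        have := odd_level h1 (by omega) le_rfl h2 (hplus h6)
        omega
      rw [padicValNat.eq_zero_of_not_dvd h5, zero_add]

/-- **good primes are good**: symplectic and orthogonal groups -/
theorem goodP_cl : ∃ c : ℕ, ∀ (g : Grp) (T : Type) [Group T] [Finite T],
    (∃ m q, g = .psp m q ∨ g = .oodd m q ∨ g = .oplus m q ∨ g = .ominus m q) → IsNamed g T → BigCl g →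
      ∀ u : ℕ, u.Prime → LevP g u → GoodP T u (c * dm g) := by
  refine ⟨1, ?_⟩
  rintro g T _ _ ⟨m, q, rfl | rfl | rfl | rfl⟩ hT hb u hu hl
  · rw [one_mul]
    exact psp_row hT hb hu hl
  · rw [one_mul]
    exact oodd_row hT hb hu hl
  · rw [one_mul]
    exact oplus_row hT hb hu hl
  · rw [one_mul]
    exact ominus_row hT hb hu hl

end Cfsg.Agent.H953.Dp
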