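import Cfsg.Agent.H953.InvA
import Cfsg.Agent.H953.InvB
import Cfsg.Agent.H681.ZerosPSL3
import Cfsg.Agent.S2690
import Cfsg.Agent.H326.T3.SlDeg

/-!
# Automorphisms of `PSL₃(F)` fixing the characters of degree `(q - 1)² (q + 1)` and `q³ - 1` (helper953, task 2532 of
helper691, S4855)

`inndiag_of_inv`: such an automorphism is inner-diagonal.
-/

set_option autoImplicit false

namespace Cfsg.Agent.H953.InvT

open Module Matrix Cfsg

local notation "PSL3(" F ")" => Matrix.ProjectiveSpecialLinearGroup (Fin 3) F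
local notation "SL3(" F ")" => Matrix.SpecialLinearGroup (Fin 3) F

section rel

variable {F : Type*} [Field F]

theorem rel {δ : MulAut PSL3(F)} (hδ : IsInnerDiagonalAutPSL δ) (s s₁ : SL3(F))
    (hc : IsConj (QuotientGroup.mk s : PSL3(F)) (δ (QuotientGroup.mk s₁))) :
    ∃ (K : GL (Fin 3) F) (z : F), z ^ 3 = 1 ∧
      (s : Matrix (Fin 3) (Fin 3) F) * (K : Matrix (Fin 3) (Fin 3) F) =
        z • ((K : Matrix (Fin 3) (Fin 3) F) * (s₁ : Matrix (Fin 3) (Fin 3) F)) := by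
  obtain ⟨g, hg⟩ := hδ
  let s₂ : SL3(F) := ⟨(g : Matrix (Fin 3) (Fin 3) F) * (s₁ : Matrix (Fin 3) (Fin 3) F) *
      ((g⁻¹ : GL (Fin 3) F) : Matrix (Fin 3) (Fin 3) F), by
    rw [Matrix.det_mul, Matrix.det_mul, s₁.2, mul_one, ← Matrix.det_mul]
    have : (g : Matrix (Fin 3) (Fin 3) F) * ((g⁻¹ : GL (Fin 3) F) : Matrix (Fin 3) (Fin 3) F) = 1 := g.mul_inv
    rw [this, Matrix.det_one]⟩
  have h2 : δ (QuotientGroup.mk s₁) = QuotientGroup.mk s₂ := hg s₁ s₂ rfl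
  rw [h2] at hc
  obtain ⟨c, hc⟩ := isConj_iff.1 hc
  obtain ⟨h, rfl⟩ := QuotientGroup.mk_surjective c
  have h3 : (QuotientGroup.mk (h * s * h⁻¹) : PSL3(F)) = QuotientGroup.mk s₂ := hc
  have h4 := (QuotientGroup.eq (s := Subgroup.center SL3(F))).1 h3
  obtain ⟨r, hr, hrs⟩ := Matrix.SpecialLinearGroup.mem_center_iff.1 h4
  have hr3 : r ^ 3 = 1 := by simpa using hr
  have hr0 : r ≠ 0 := by
    rintro rfl
    norm_num at hr3
  have h5 : (s₂ : Matrix (Fin 3) (Fin 3) F) = r • ((h * s * h⁻¹ : SL3(F)) : Matrix (Fin 3) (Fin 3) F) := by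
    have h6 : s₂ = (h * s * h⁻¹) * ((h * s * h⁻¹)⁻¹ * s₂) := by group
    rw [congrArg Subtype.val h6, Matrix.SpecialLinearGroup.coe_mul (h * s * h⁻¹), ← hrs]
    have h7 : Matrix.scalar (Fin 3) r = r • (1 : Matrix (Fin 3) (Fin 3) F) := by
      rw [Matrix.smul_one_eq_diagonal]
      rfl
    rw [h7, Matrix.mul_smul, mul_one]
  let H : GL (Fin 3) F := (h : GL (Fin 3) F)
  refine ⟨H⁻¹ * g, r⁻¹, by rw [inv_pow, hr3, inv_one], ?_⟩
  have hH : ((H⁻¹ : GL (Fin 3) F) : Matrix (Fin 3) (Fin 3) F) = ((h⁻¹ : SL3(F)) : Matrix (Fin 3) (Fin 3) F) := by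
    have : (H⁻¹ : GL (Fin 3) F) = ((h⁻¹ : SL3(F)) : GL (Fin 3) F) := (map_inv _ h).symm
    rw [this]
    rfl
  have hhi : ((h⁻¹ : SL3(F)) : Matrix (Fin 3) (Fin 3) F) * (h : Matrix (Fin 3) (Fin 3) F) = 1 := by
    rw [← Matrix.SpecialLinearGroup.coe_mul, inv_mul_cancel, Matrix.SpecialLinearGroup.coe_one]
  have hgi : ((g⁻¹ : GL (Fin 3) F) : Matrix (Fin 3) (Fin 3) F) * (g : Matrix (Fin 3) (Fin 3) F) = 1 := g.inv_mul
  rw [Units.val_mul, hH]
  -- `g s₁ = s₂ g`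
  have h8 : (g : Matrix (Fin 3) (Fin 3) F) * (s₁ : Matrix (Fin 3) (Fin 3) F) =
      (s₂ : Matrix (Fin 3) (Fin 3) F) * (g : Matrix (Fin 3) (Fin 3) F) := by
    change _ = ((g : Matrix (Fin 3) (Fin 3) F) * (s₁ : Matrix (Fin 3) (Fin 3) F) *
      ((g⁻¹ : GL (Fin 3) F) : Matrix (Fin 3) (Fin 3) F)) * (g : Matrix (Fin 3) (Fin 3) F)
    rw [mul_assoc _ _ (g : Matrix (Fin 3) (Fin 3) F), hgi, mul_one]
  rw [mul_assoc _ (g : Matrix (Fin 3) (Fin 3) F), h8, h5]
  simp only [Matrix.SpecialLinearGroup.coe_mul, Matrix.smul_mul, Matrix.mul_smul, smul_smul, inv_mul_cancel₀ hr0,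
    one_smul]
  simp only [← mul_assoc]
  rw [hhi, one_mul]

end rel


section singer

open Cfsg.Agent.H504 Cfsg.Agent.H926.Cc Cfsg.Geo Cfsg.Agent.H681.ZerosPSL3

/-- **the Singer torus of `PSL(3, q)` and its generator** -/
theorem exists_singer {F : Type} [Field F] [Fintype F] {t : ℕ} (ht : Fintype.card F = t + 1) :
    ∃ (E : Type) (_ : Field E) (_ : Algebra F E) (_ : FiniteDimensional F E)
      (φ : E →ₐ[F] Matrix (Fin 3) (Fin 3) F) (ω : E) (s : SL3(F)) (A : Subgroup PSL3(F)),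
      finrank F E = 3 ∧ (∀ c : F, ω ≠ algebraMap F E c) ∧ (t + 1) ^ 2 + (t + 1) + 1 ∣ orderOf ω ∧
      (s : Matrix (Fin 3) (Fin 3) F) = φ ω ∧ (QuotientGroup.mk s : PSL3(F)) ∈ A ∧ (QuotientGroup.mk s : PSL3(F)) ≠ 1 ∧
      ZeroTI.CC A ∧ Nat.card A * Nat.gcd 3 t = t ^ 2 + 3 * t + 3 := by
  have ht0 : 0 < t := by
    have := Fintype.one_lt_card (α := F)
    omega
  obtain ⟨p, hp⟩ := CharP.exists F
  have : Fact p.Prime := ⟨CharP.char_is_prime F p⟩
  let E := FiniteField.Extension F p 3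
  have hfr : finrank F E = 3 := FiniteField.finrank_extension F p 3
  have hfd : FiniteDimensional F E := Module.finite_of_finrank_pos (by rw [hfr]; norm_num)
  let b : Basis (Fin 3) F E := finBasisOfFinrankEq F E hfr
  let φ : E →ₐ[F] Matrix (Fin 3) (Fin 3) F := Algebra.leftMulMatrix b
  let L := specialLinear (Fin 3) F
  have hpr : (finrank F E).Prime := by rw [hfr]; norm_num
  have h3 : 3 ≤ finrank F E := by rw [hfr]
  have hfr' : finrank F E = Fintype.card (Fin 3) := by rw [hfr, Fintype.card_fin]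
  have hL : L ≤ specialLinear (Fin 3) F := le_rfl
  have hroot : RootProp φ L := rootProp_SL hpr h3 hfr' hL
  have hU : ∀ u ∈ U1 F E, toGLE φ u ∈ L := by
    intro u hu
    exact (norm_eq_one (φ := φ) hfr' (g := toGLE φ u) (a := (u : E)) rfl).2 (mem_U1.1 hu)
  have hcZ : Nat.card (Zs L) = Nat.gcd (Fintype.card (Fin 3)) (Nat.card F - 1) := by
    refine card_Zs hL ?_
    intro c hc
    have hc' : ((c : F)) ^ 3 = 1 := by
      have := congrArg Units.val hc
      simpa using this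
    refine ⟨Units.map (Matrix.scalar (Fin 3) : F →+* Matrix (Fin 3) (Fin 3) F).toMonoidHom c, ?_, ?_⟩
    · rw [Cfsg.Agent.H873.mem_specialLinear_iff]
      show Matrix.det (Matrix.scalar (Fin 3) (c : F)) = 1
      rw [Matrix.scalar_apply, Matrix.det_diagonal]
      simpa using hc'
    · show Matrix.scalar (Fin 3) (c : F) = _
      rw [Matrix.smul_one_eq_diagonal]
      rfl
  have hcard := card_Dq hfr' hL hU hcZ
  rw [hfr, Nat.card_eq_fintype_card (α := F), ht, Nat.add_sub_cancel] at hcard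
  have h4 : (t + 1) ^ 3 - 1 = t * (t ^ 2 + 3 * t + 3) := by
    rw [Nat.sub_eq_iff_eq_add (Nat.one_le_pow _ _ (by omega))]
    ring
  have hcard' : Nat.card (Dq φ L) * Nat.gcd 3 t = t ^ 2 + 3 * t + 3 := by
    rw [h4] at hcard
    have h5 : t * (Nat.card (Dq φ L) * Nat.gcd 3 t) = t * (t ^ 2 + 3 * t + 3) := by
      rw [← hcard]
      ring
    exact Nat.eq_of_mul_eq_mul_left ht0 h5
  -- the generator
  have hcU := card_U1 (F := F) (E := E)
  rw [hfr, Nat.card_eq_fintype_card (α := F), ht, Nat.add_sub_cancel, h4, mul_comm t] at hcU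
  have hcU' : Nat.card (U1 F E) = (t + 1) ^ 2 + (t + 1) + 1 := by
    have := Nat.eq_of_mul_eq_mul_right ht0 hcU
    rw [this]
    ring
  have : Finite E := Module.finite_of_finite F
  obtain ⟨u, hu⟩ := IsCyclic.exists_generator (α := U1 F E)
  have hou : orderOf ((u : Eˣ) : E) = (t + 1) ^ 2 + (t + 1) + 1 := by
    rw [orderOf_units, Subgroup.orderOf_coe, orderOf_eq_card_of_forall_mem_zpowers hu, hcU']
  have hnF : ∀ c : F, ((u : Eˣ) : E) ≠ algebraMap F E c := by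
    intro c hc
    have hc0 : c ≠ 0 := by
      rintro rfl
      rw [map_zero] at hc
      exact (u : Eˣ).ne_zero hc
    have h5 : ((u : Eˣ) : E) ^ t = 1 := by
      rw [hc, ← map_pow]
      have := FiniteField.pow_card_sub_one_eq_one c hc0
      rw [ht, Nat.add_sub_cancel] at this
      rw [this, map_one]
    have h6 := Nat.le_of_dvd ht0 (orderOf_dvd_of_pow_eq_one h5)
    rw [hou] at h6
    nlinarith
  let g : L := ⟨toGLE φ u, hU u u.2⟩
  have hg : g ∈ Cs φ L := mem_Cs.2 ⟨((u : Eˣ) : E), rfl⟩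
  have hne : ∃ g ∈ L, ∃ a : E, (g : Matrix (Fin 3) (Fin 3) F) = φ a ∧ ∀ z : F, a ≠ algebraMap F E z :=
    ⟨toGLE φ u, hU u u.2, _, rfl, hnF⟩
  refine ⟨E, inferInstance, inferInstance, hfd, φ, ((u : Eˣ) : E), slE F g, (Dq φ L).map (tqE F).toMonoidHom, hfr, hnF,
    hou ▸ dvd_rfl, rfl, ⟨QuotientGroup.mk' (Zs L) g, mk_mem_Dq.2 hg, rfl⟩, ?_,
    cc_map _ (cc_of_cc (cc_Dq hpr hfr' hroot hne)), ?_⟩
  · intro h1
    have h2 : slE F g ∈ Subgroup.center SL3(F) := (QuotientGroup.eq_one_iff _).1 h1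
    obtain ⟨r, -, hrs⟩ := Matrix.SpecialLinearGroup.mem_center_iff.1 h2
    apply hnF r
    apply φ.toRingHom.injective
    change φ ((u : Eˣ) : E) = φ (algebraMap F E r)
    rw [phi_algebraMap]
    exact hrs.symm
  · rw [← hcard']
    congr 1
    exact (Nat.card_congr ((Dq φ L).equivMapOfInjective _ (tqE F).injective).toEquiv).symm

end singer


section chars

open Cfsg.Agent.H504.ZeroTI Cfsg.Agent.H678.CCExact Cfsg.Agent.Characters.CCBasic Cfsg.Agent.Characters.CCEstimates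
  Cfsg.Agent.Characters.CCValues

theorem isCC_of {G : Type*} [Group G] {A : Subgroup G} (hA : CC A) (h : A ≠ ⊥) : IsCC A := ⟨h, hA.cent⟩

theorem len_eq {G : Type*} [Group G] [Finite G] (A : Subgroup G) : len A = eIdx A := by
  have h1 := len_mul_card A
  have h2 := (A.subgroupOf (Subgroup.normalizer (A : Set G))).index_mul_card
  rw [Nat.card_congr (Subgroup.subgroupOfEquivOfLe (Subgroup.le_normalizer (H := A))).toEquiv] at h2
  exact Nat.eq_of_mul_eq_mul_right (Nat.card_pos (α := A)) (h1.trans h2.symm)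

theorem inv_conj {G : Type} [Group G] [Fintype G] {A : Subgroup G} (hA : CC A) {e s n : ℕ} (hs2 : 2 ≤ s)
    (he2 : 2 ≤ e) (he3 : e ≤ 3) (hcard : Nat.card A = e * s + 1) (hn : Nat.card G = Nat.card A * n)
    (hmod : n % Nat.card A = e) (T : Finset (IrrCharacter G)) (w : IrrCharacter G → ℤ)
    (hw : ∀ ψ ∈ T, w ψ = 1 ∨ w ψ = -1) (hwd : ∀ ψ ∈ T, (Nat.card A : ℤ) ∣ charDegree (ψ : G → ℂ) - w ψ)
    (hT : T.card = e) {d : ℕ} (hd : ∑ ψ ∈ T, (charDegree (ψ : G → ℂ) : ℤ) * w ψ = d ∨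
      ∑ ψ ∈ T, (charDegree (ψ : G → ℂ) : ℤ) * w ψ = -d) (β : G ≃* G)
    (hinv : ∀ ψ : IrrCharacter G, charDegree (ψ : G → ℂ) = d → (ψ : G → ℂ) ∘ β = ψ) {x : G} (hx : x ∈ A)
    (hx1 : x ≠ 1) : IsConj x (β x) := by
  have : Finite (IrrCharacter G) := Cfsg.Agent.Characters.Core.finite_irr
  have : Fintype (IrrCharacter G) := Fintype.ofFinite _
  have hes : 2 * 2 ≤ e * s := Nat.mul_le_mul he2 hs2
  have hbot : A ≠ ⊥ := by
    rintro rfl
    rw [Subgroup.card_bot] at hcard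
    omega
  have hCC := isCC_of hA hbot
  have hlen : len A = e := by
    rw [len_eq, Cfsg.Agent.H504.Zeros.eIdx_eq_mod hA (by omega) hn, hmod]
  obtain ⟨D⟩ := nonempty_ccData hCC hlen (s := s) (by rw [hcard, mul_comm]) hs2
  have hes2 : e * 2 ≤ e * s := Nat.mul_le_mul_left _ hs2
  have key := data_of D hs2 he2 he3 (by omega) hbot T w hw hwd hT
  have h1 : ∑ ψ : IrrCharacter G, D.f ψ ^ 2 = e ∧ D.d = d := by
    rcases key with ⟨h1, h2⟩ | ⟨h1, h2⟩ <;> rcases hd with h3 | h3 <;> rw [h3] at h2 <;> refine ⟨h1, ?_⟩ <;> omega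
  refine conj_of_inv hCC D h1.1 (by omega) β (fun ψ hψ => hinv ψ ?_) hx hx1
  rw [D.deg ψ hψ, h1.2]

end chars


section psl

open Cfsg.Agent.H504.ZeroTI Cfsg.Agent.Characters.CCValues

variable {F : Type} [Field F] [Fintype F]

/-- the order of `PSL(3, q)` through the Singer torus -/
theorem sing_num {t : ℕ} (ht : Fintype.card F = t + 1) (ht2 : 2 ≤ t) {A : Subgroup PSL3(F)}
    (hcard : Nat.card A * Nat.gcd 3 t = t ^ 2 + 3 * t + 3) :
    Nat.card PSL3(F) = Nat.card A * ((t + 1) ^ 3 * (t ^ 2 * (t + 2))) ∧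
      ((t + 1) ^ 3 * (t ^ 2 * (t + 2))) % Nat.card A = 3 ∧ ∃ m, 2 ≤ m ∧ Nat.card A = 3 * m + 1 := by
  have hG := Cfsg.Agent.HKS.EndOrd.card_psl_three ht
  set a := Nat.card A with ha
  set g := Nat.gcd 3 t with hg
  have hg0 : 0 < g := Nat.gcd_pos_of_pos_left _ (by norm_num)
  have hg3 : g = 1 ∨ g = 3 := (Nat.dvd_prime Nat.prime_three).1 (Nat.gcd_dvd_left 3 t)
  have hn : Nat.card PSL3(F) = a * ((t + 1) ^ 3 * (t ^ 2 * (t + 2))) := by
    rw [← hcard] at hG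
    have : g * Nat.card PSL3(F) = g * (a * ((t + 1) ^ 3 * (t ^ 2 * (t + 2)))) := by rw [hG]; ring
    exact Nat.eq_of_mul_eq_mul_left hg0 this
  obtain ⟨m, hm, hm9⟩ : ∃ m, a = 3 * m + 1 ∧ 2 ≤ m := by
    rcases hg3 with h | h
    · rw [h, mul_one] at hcard
      have h3 : ¬ 3 ∣ t := by
        intro h3
        have := Nat.gcd_eq_left h3
        omega
      have h5 : t % 3 = 1 ∨ t % 3 = 2 := by omega
      rcases h5 with h5 | h5
      · obtain ⟨u, hu⟩ : ∃ u, t = 3 * u + 1 := ⟨t / 3, by omega⟩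
        refine ⟨(t + 1) * (u + 1), ?_, ?_⟩
        · rw [hcard, hu]; ring
        · have : 1 ≤ u := by omega
          nlinarith
      · obtain ⟨u, hu⟩ : ∃ u, t = 3 * u + 2 := ⟨t / 3, by omega⟩
        refine ⟨(u + 1) * (t + 2), ?_, ?_⟩
        · rw [hcard, hu]; ring
        · nlinarith
    · obtain ⟨u, hu⟩ : 3 ∣ t := h ▸ Nat.gcd_dvd_right 3 t
      refine ⟨u ^ 2 + u, ?_, ?_⟩
      · have : a * 3 = 3 * (3 * (u ^ 2 + u) + 1) := by
          rw [← h, hcard, hu, h]; ring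
        omega
      · have : 1 ≤ u := by omega
        nlinarith
  refine ⟨hn, ?_, m, hm9, hm⟩
  obtain ⟨r, rfl⟩ : ∃ r, t = r + 1 := ⟨t - 1, by omega⟩
  have : (r + 1 + 1) ^ 3 * ((r + 1) ^ 2 * (r + 1 + 2)) =
      3 + a * (g * ((r + 1) * ((r + 1) ^ 2 * (r + 1 + 2)) + r)) := by
    have e : a * (g * ((r + 1) * ((r + 1) ^ 2 * (r + 1 + 2)) + r)) =
      (a * g) * ((r + 1) * ((r + 1) ^ 2 * (r + 1 + 2)) + r) := by ring
    rw [e, hcard]
    ring
  rw [this, Nat.add_mul_mod_self_left, Nat.mod_eq_of_lt (by omega)]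

theorem exists_irr {G : Type*} [Group G] {n : ℕ} (h : n ∈ charDegrees G) :
    ∃ χ : IrrCharacter G, charDegree (χ : G → ℂ) = n := h

theorem deg_one {G : Type*} [Group G] [Finite G] : charDegree (one G : G → ℂ) = 1 := by
  have h := Cfsg.Agent.Blocks.Basic.irr_one_eq_charDegree (one G).2
  rw [coe_one, Pi.one_apply] at h
  exact_mod_cast h.symm

/-- **the elements of the Singer torus** -/
theorem sing_conj {t : ℕ} (ht : Fintype.card F = t + 1) (ht2 : 2 ≤ t) {A : Subgroup PSL3(F)} (hA : CC A)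
    (hcard : Nat.card A * Nat.gcd 3 t = t ^ 2 + 3 * t + 3) (β : MulAut PSL3(F))
    (h : ∀ θ : PSL3(F) → ℂ, IsIrrCharacter _ θ →
      charDegree θ = (Fintype.card F - 1) ^ 2 * (Fintype.card F + 1) → θ ∘ β = θ) {x : PSL3(F)} (hx : x ∈ A)
    (hx1 : x ≠ 1) : IsConj x (β x) := by
  classical
  have hfin : Finite PSL3(F) := Quotient.finite _
  have := Fintype.ofFinite PSL3(F)
  obtain ⟨hn, hmod, m, hm2, hm⟩ := sing_num ht ht2 hcard
  obtain ⟨St, hSt⟩ := exists_irr (Cfsg.Agent.H326.T3.sl3_st (F := F))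
  obtain ⟨P, hP⟩ := exists_irr (Cfsg.Agent.H326.T3.sl3_two (F := F))
  rw [ht] at hSt hP
  have d1 : charDegree (one PSL3(F) : PSL3(F) → ℂ) = 1 := deg_one
  have hne1 : one PSL3(F) ≠ St := by
    intro h1
    rw [← h1, d1] at hSt
    have : 1 < (t + 1) ^ 3 := Nat.one_lt_pow (by norm_num) (by omega)
    omega
  have hne2 : one PSL3(F) ≠ P := by
    intro h1
    rw [← h1, d1] at hP
    nlinarith
  have hne3 : St ≠ P := by
    intro h1
    rw [← h1, hSt] at hP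
    nlinarith
  have hdvd : (Nat.card A : ℤ) ∣ (t : ℤ) ^ 2 + 3 * t + 3 := by
    refine ⟨Nat.gcd 3 t, ?_⟩
    exact_mod_cast hcard.symm
  refine inv_conj (s := m) (n := (t + 1) ^ 3 * (t ^ 2 * (t + 2))) (e := 3) hA hm2 (by norm_num) le_rfl hm hn hmod
    {one PSL3(F), St, P} (fun ψ => if ψ = P then -1 else 1) ?_ ?_ ?_ (d := t ^ 2 * (t + 2)) ?_ β ?_ hx hx1
  · intro ψ _
    by_cases hψ : ψ = P
    · right; simp [hψ]
    · left; simp [hψ]
  · intro ψ hψ
    simp only [Finset.mem_insert, Finset.mem_singleton] at hψ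
    rcases hψ with rfl | rfl | rfl
    · rw [if_neg hne2, d1]
      simp
    · rw [if_neg hne3, hSt]
      have : (((t + 1) ^ 3 : ℕ) : ℤ) - 1 = ((t : ℤ) ^ 2 + 3 * t + 3) * t := by push_cast; ring
      rw [this]
      exact hdvd.mul_right _
    · rw [if_pos rfl, hP]
      have : (((t + 1) ^ 2 + (t + 1) : ℕ) : ℤ) - (-1) = (t : ℤ) ^ 2 + 3 * t + 3 := by push_cast; ring
      rw [this]
      exact hdvd
  · rw [Finset.card_insert_of_notMem, Finset.card_insert_of_notMem, Finset.card_singleton]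
    · simpa using hne3
    · simp [hne1, hne2]
  · left
    rw [Finset.sum_insert, Finset.sum_insert, Finset.sum_singleton, if_neg hne2, if_neg hne3, if_pos rfl, d1, hSt, hP]
    · push_cast
      ring
    · simpa using hne3
    · simp [hne1, hne2]
  · intro ψ hψ
    apply h ψ ψ.2
    rw [hψ, ht, Nat.add_sub_cancel]

end psl


section four

open Cfsg.Agent.H504.ZeroTI Cfsg.Agent.Characters.CCValues

variable {F : Type} [Field F]

/-- an element of order 5 of `SL(3, 4)` -/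
def m5 (y : F) (h2 : (2 : F) = 0) : SL3(F) :=
  ⟨!![0, 1, 0; 1, y, 0; 0, 0, 1], by
    rw [Matrix.det_fin_three]
    simp
    linear_combination -h2⟩

theorem m5_inv (y : F) (h2 : (2 : F) = 0) : (((m5 y h2)⁻¹ : SL3(F)) : Matrix (Fin 3) (Fin 3) F) =
    !![y, 1, 0; 1, 0, 0; 0, 0, 1] := by
  have h : ((m5 y h2 : SL3(F)) : Matrix (Fin 3) (Fin 3) F) * !![y, 1, 0; 1, 0, 0; 0, 0, 1] = 1 := by
    ext i j
    fin_cases i <;> fin_cases j <;> simp [m5, Matrix.mul_apply, Fin.sum_univ_three]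
    linear_combination y * h2
  have h1 : (((m5 y h2)⁻¹ : SL3(F)) : Matrix (Fin 3) (Fin 3) F) * ((m5 y h2 : SL3(F)) : Matrix (Fin 3) (Fin 3) F) = 1 := by
    rw [← Matrix.SpecialLinearGroup.coe_mul, inv_mul_cancel, Matrix.SpecialLinearGroup.coe_one]
  calc _ = (((m5 y h2)⁻¹ : SL3(F)) : Matrix (Fin 3) (Fin 3) F) *
      (((m5 y h2 : SL3(F)) : Matrix (Fin 3) (Fin 3) F) * !![y, 1, 0; 1, 0, 0; 0, 0, 1]) := by rw [h, mul_one]
    _ = _ := by rw [← mul_assoc, h1, one_mul]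

theorem m5_pow (y : F) (h2 : (2 : F) = 0) (hy : y ^ 2 + y + 1 = 0) : (m5 y h2) ^ 5 = 1 := by
  have hsq : ((m5 y h2 ^ 2 : SL3(F)) : Matrix (Fin 3) (Fin 3) F) = !![1, y, 0; y, y, 0; 0, 0, 1] := by
    rw [Matrix.SpecialLinearGroup.coe_pow, sq]
    ext i j
    fin_cases i <;> fin_cases j <;> simp [m5, Matrix.mul_apply, Fin.sum_univ_three]
    linear_combination hy - y * h2
  have h4 : ((m5 y h2 ^ 4 : SL3(F)) : Matrix (Fin 3) (Fin 3) F) = !![y, 1, 0; 1, 0, 0; 0, 0, 1] := by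
    have : m5 y h2 ^ 4 = m5 y h2 ^ 2 * m5 y h2 ^ 2 := by rw [← pow_add]
    rw [this, Matrix.SpecialLinearGroup.coe_mul, hsq]
    ext i j
    fin_cases i <;> fin_cases j <;> simp [Matrix.mul_apply, Fin.sum_univ_three]
    · linear_combination hy - y * h2
    · linear_combination hy - h2
    · linear_combination hy - h2
    · linear_combination y ^ 2 * h2
  have h5 : m5 y h2 ^ 5 = m5 y h2 ^ 4 * m5 y h2 := by rw [← pow_succ]
  apply Subtype.ext
  rw [h5, Matrix.SpecialLinearGroup.coe_mul, h4, Matrix.SpecialLinearGroup.coe_one]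
  ext i j
  fin_cases i <;> fin_cases j <;> simp [m5, Matrix.mul_apply, Fin.sum_univ_three]
  linear_combination y * h2

variable [Fintype F]

/-- **the elements of order 5 of `PSL(3, 4)`** -/
theorem five_conj (hF : Fintype.card F = 4) (β : MulAut PSL3(F))
    (h : ∀ θ : PSL3(F) → ℂ, IsIrrCharacter _ θ → charDegree θ + 1 = Fintype.card F ^ 3 → θ ∘ β = θ) {z : PSL3(F)}
    (hz : orderOf z = 5) : IsConj z (β z) := by
  classical
  have hfin : Finite PSL3(F) := Quotient.finite _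
  have := Fintype.ofFinite PSL3(F)
  have hp5 : Fact (Nat.Prime 5) := ⟨by norm_num⟩
  have hn : Nat.card PSL3(F) = 20160 := by
    rw [Cfsg.Agent.H681.ZerosPSL3.hn_of (t := 3) hF (a := 7) (by norm_num)]
    norm_num
  obtain ⟨x, hx, hxc⟩ := Cfsg.Agent.H681.ZerosPSL3.exists_isolated hF hn (Or.inl rfl)
  have hA := Cfsg.Agent.H504.Zeros.cc_of_prime (by norm_num : Nat.Prime 5) hx hxc
  have hcA : Nat.card (Subgroup.zpowers x) = 5 := by rw [Nat.card_zpowers, hx]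
  -- Sylow
  have hval : 5 ^ (Nat.card PSL3(F)).factorization 5 = 5 := by
    rw [hn]
    have : (20160 : ℕ) = 5 ^ 1 * 4032 := by norm_num
    rw [this, Nat.factorization_mul (by norm_num) (by norm_num), Finsupp.add_apply,
      Nat.Prime.factorization_pow (by norm_num : Nat.Prime 5)]
    rw [Nat.factorization_eq_zero_of_not_dvd (by norm_num : ¬ 5 ∣ 4032)]
    simp
  let P : Sylow 5 PSL3(F) := Sylow.ofCard (Subgroup.zpowers x) (by rw [hcA, hval])
  let Q : Sylow 5 PSL3(F) := Sylow.ofCard (Subgroup.zpowers z) (by rw [Nat.card_zpowers, hz, hval])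
  obtain ⟨g, hg⟩ := MulAction.exists_smul_eq PSL3(F) Q P
  have hza : g * z * g⁻¹ ∈ Subgroup.zpowers x := by
    have h1 : g * z * g⁻¹ ∈ ((g • Q : Sylow 5 PSL3(F)) : Subgroup PSL3(F)) := by
      rw [Sylow.coe_subgroup_smul]
      exact Subgroup.smul_mem_pointwise_smul z (MulAut.conj g) _ (Subgroup.mem_zpowers z)
    rw [hg] at h1
    exact h1
  have ha1 : g * z * g⁻¹ ≠ 1 := by
    intro h1
    have h2 : z = 1 := by
      have := congrArg (fun y => g⁻¹ * y * g) h1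
      simpa [mul_assoc] using this
    rw [h2, orderOf_one] at hz
    omega
  obtain ⟨St, hSt⟩ := exists_irr (Cfsg.Agent.H326.T3.sl3_st (F := F))
  rw [hF] at hSt
  have d1 : charDegree (one PSL3(F) : PSL3(F) → ℂ) = 1 := deg_one
  have hne1 : one PSL3(F) ≠ St := by
    intro h1
    rw [← h1, d1] at hSt
    norm_num at hSt
  have key : IsConj (g * z * g⁻¹) (β (g * z * g⁻¹)) := by
    refine inv_conj (s := 2) (n := 4032) (e := 2) hA le_rfl le_rfl (by norm_num) hcA (by rw [hn, hcA])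
      (by rw [hcA]) {one PSL3(F), St} (fun ψ => if ψ = St then -1 else 1) ?_ ?_ ?_ (d := 63) ?_ β ?_ hza ha1
    · intro ψ _
      by_cases hψ : ψ = St
      · right; simp [hψ]
      · left; simp [hψ]
    · intro ψ hψ
      simp only [Finset.mem_insert, Finset.mem_singleton] at hψ
      rw [hcA]
      rcases hψ with rfl | rfl
      · rw [if_neg hne1, d1]
        simp
      · rw [if_pos rfl, hSt]
        norm_num
    · rw [Finset.card_insert_of_notMem, Finset.card_singleton]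
      simpa using hne1
    · right
      rw [Finset.sum_insert, Finset.sum_singleton, if_neg hne1, if_pos rfl, d1, hSt]
      · norm_num
      · simpa using hne1
    · intro ψ hψ
      apply h ψ ψ.2
      rw [hψ, hF]
      norm_num
  have h3 : IsConj z (g * z * g⁻¹) := isConj_iff.2 ⟨g, rfl⟩
  have h4 : IsConj (β z) (β (g * z * g⁻¹)) := isConj_iff.2 ⟨β g, by rw [map_mul, map_mul, map_inv]⟩
  exact h3.trans (key.trans h4.symm)

/-- the field automorphism of `PSL(3, 4)` -/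
theorem four_false (hF : Fintype.card F = 4) {δ : MulAut PSL3(F)} (hδ : IsInnerDiagonalAutPSL δ) (σ : F ≃+* F)
    (hσ : ∀ c, σ c = c ^ 2) (φ' : MulAut PSL3(F)) (hφ : IsStdFieldAutPSL σ φ')
    (h : ∀ θ : PSL3(F) → ℂ, IsIrrCharacter _ θ → charDegree θ + 1 = Fintype.card F ^ 3 → θ ∘ (δ * φ') = θ) :
    False := by
  classical
  have h4 : (4 : F) = 0 := by
    have := FiniteField.cast_card_eq_zero F
    rw [hF] at this
    exact_mod_cast this
  have h2 : (2 : F) = 0 := by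
    have : (2 : F) ^ 2 = 0 := by linear_combination h4
    exact pow_eq_zero_iff (two_ne_zero) |>.1 this
  -- an element of order three
  obtain ⟨y, hy0, hy1⟩ : ∃ y : F, y ≠ 0 ∧ y ≠ 1 := by
    by_contra hc
    push Not at hc
    have h5 : (Finset.univ : Finset F) ⊆ {0, 1} := by
      intro y _
      by_cases hy : y = 0
      · simp [hy]
      · simp [hc y hy]
    have h6 := Finset.card_le_card h5
    rw [Finset.card_univ, hF] at h6
    have := Finset.card_le_two (a := (0 : F)) (b := 1)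
    omega
  have hy : y ^ 2 + y + 1 = 0 := by
    have h5 := FiniteField.pow_card_sub_one_eq_one y hy0
    rw [hF] at h5
    have h6 : (y - 1) * (y ^ 2 + y + 1) = 0 := by
      have h7 : y ^ 3 = 1 := h5
      linear_combination h7
    rcases mul_eq_zero.1 h6 with h7 | h7
    · exact absurd (sub_eq_zero.1 h7) hy1
    · exact h7
  have hne : (QuotientGroup.mk (m5 y h2) : PSL3(F)) ≠ 1 := by
    intro h1
    obtain ⟨r, -, hr⟩ := Matrix.SpecialLinearGroup.mem_center_iff.1 ((QuotientGroup.eq_one_iff _).1 h1)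
    have h5 : Matrix.scalar (Fin 3) r 0 1 = (m5 y h2 : Matrix (Fin 3) (Fin 3) F) 0 1 := by rw [hr]
    simp [m5] at h5
  have hord : orderOf (QuotientGroup.mk (m5 y h2) : PSL3(F)) = 5 := by
    have hp5 : Fact (Nat.Prime 5) := ⟨by norm_num⟩
    apply orderOf_eq_prime _ hne
    rw [← QuotientGroup.mk_pow, m5_pow y h2 hy]
    rfl
  have hconj := five_conj hF (δ * φ') h hord
  let s₁ : SL3(F) := Matrix.SpecialLinearGroup.map (σ : F →+* F) (m5 y h2)
  have h5 : φ' (QuotientGroup.mk (m5 y h2)) = QuotientGroup.mk s₁ := hφ _ _ rfl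
  have h6 : (δ * φ') (QuotientGroup.mk (m5 y h2) : PSL3(F)) = δ (QuotientGroup.mk s₁) := by
    rw [MulAut.mul_apply, h5]
  rw [h6] at hconj
  obtain ⟨K, z, hz3, hK⟩ := rel hδ _ _ hconj
  have hz0 : z ≠ 0 := by
    rintro rfl
    norm_num at hz3
  have hKi : (K : Matrix (Fin 3) (Fin 3) F) * ((K⁻¹ : GL (Fin 3) F) : Matrix (Fin 3) (Fin 3) F) = 1 := K.mul_inv
  have hKi' : ((K⁻¹ : GL (Fin 3) F) : Matrix (Fin 3) (Fin 3) F) * (K : Matrix (Fin 3) (Fin 3) F) = 1 := K.inv_mul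
  -- the trace
  have ht : ∀ (A B : Matrix (Fin 3) (Fin 3) F) (c : F), A * (K : Matrix (Fin 3) (Fin 3) F) =
      c • ((K : Matrix (Fin 3) (Fin 3) F) * B) → A.trace = c * B.trace := by
    intro A B c hAB
    have h7 : A = c • ((K : Matrix (Fin 3) (Fin 3) F) * B * ((K⁻¹ : GL (Fin 3) F) : Matrix (Fin 3) (Fin 3) F)) := by
      rw [← Matrix.smul_mul, ← hAB, mul_assoc, hKi, mul_one]
    rw [h7, Matrix.trace_smul, mul_assoc, Matrix.trace_mul_comm, mul_assoc, hKi', mul_one, smul_eq_mul]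
  have hinv : (((m5 y h2)⁻¹ : SL3(F)) : Matrix (Fin 3) (Fin 3) F) * (K : Matrix (Fin 3) (Fin 3) F) =
      z⁻¹ • ((K : Matrix (Fin 3) (Fin 3) F) * ((s₁⁻¹ : SL3(F)) : Matrix (Fin 3) (Fin 3) F)) := by
    have e1 : ((m5 y h2 : SL3(F)) : Matrix (Fin 3) (Fin 3) F) * (((m5 y h2)⁻¹ : SL3(F)) : Matrix (Fin 3) (Fin 3) F) = 1 := by
      rw [← Matrix.SpecialLinearGroup.coe_mul, mul_inv_cancel, Matrix.SpecialLinearGroup.coe_one]
    have e1' : (((m5 y h2)⁻¹ : SL3(F)) : Matrix (Fin 3) (Fin 3) F) * ((m5 y h2 : SL3(F)) : Matrix (Fin 3) (Fin 3) F) = 1 := by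
      rw [← Matrix.SpecialLinearGroup.coe_mul, inv_mul_cancel, Matrix.SpecialLinearGroup.coe_one]
    have e2 : (s₁ : Matrix (Fin 3) (Fin 3) F) * ((s₁⁻¹ : SL3(F)) : Matrix (Fin 3) (Fin 3) F) = 1 := by
      rw [← Matrix.SpecialLinearGroup.coe_mul, mul_inv_cancel, Matrix.SpecialLinearGroup.coe_one]
    calc (((m5 y h2)⁻¹ : SL3(F)) : Matrix (Fin 3) (Fin 3) F) * (K : Matrix (Fin 3) (Fin 3) F) =
        (((m5 y h2)⁻¹ : SL3(F)) : Matrix (Fin 3) (Fin 3) F) * (K : Matrix (Fin 3) (Fin 3) F) *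
          ((s₁ : Matrix (Fin 3) (Fin 3) F) * ((s₁⁻¹ : SL3(F)) : Matrix (Fin 3) (Fin 3) F)) := by rw [e2, mul_one]
      _ = (((m5 y h2)⁻¹ : SL3(F)) : Matrix (Fin 3) (Fin 3) F) * ((K : Matrix (Fin 3) (Fin 3) F) *
          (s₁ : Matrix (Fin 3) (Fin 3) F)) * ((s₁⁻¹ : SL3(F)) : Matrix (Fin 3) (Fin 3) F) := by simp only [mul_assoc]
      _ = (((m5 y h2)⁻¹ : SL3(F)) : Matrix (Fin 3) (Fin 3) F) * (z⁻¹ • (((m5 y h2 : SL3(F)) : Matrix (Fin 3) (Fin 3) F) *
          (K : Matrix (Fin 3) (Fin 3) F))) * ((s₁⁻¹ : SL3(F)) : Matrix (Fin 3) (Fin 3) F) := by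
            rw [hK, smul_smul, inv_mul_cancel₀ hz0, one_smul]
      _ = z⁻¹ • (((((m5 y h2)⁻¹ : SL3(F)) : Matrix (Fin 3) (Fin 3) F) * ((m5 y h2 : SL3(F)) : Matrix (Fin 3) (Fin 3) F)) *
          (K : Matrix (Fin 3) (Fin 3) F) * ((s₁⁻¹ : SL3(F)) : Matrix (Fin 3) (Fin 3) F)) := by
            rw [Matrix.mul_smul, Matrix.smul_mul]
            simp only [mul_assoc]
      _ = _ := by rw [e1', one_mul]
  have t1 := ht _ _ _ hK
  have t2 := ht _ _ _ hinv
  have a1 : ((m5 y h2 : SL3(F)) : Matrix (Fin 3) (Fin 3) F).trace = y + 1 := by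
    simp [m5, Matrix.trace, Fin.sum_univ_three]
  have a2 : (((m5 y h2)⁻¹ : SL3(F)) : Matrix (Fin 3) (Fin 3) F).trace = y + 1 := by
    rw [m5_inv]
    simp [Matrix.trace, Fin.sum_univ_three]
  have hmt : ∀ A : Matrix (Fin 3) (Fin 3) F, (A.map σ).trace = A.trace ^ 2 := by
    intro A
    rw [← hσ]
    simp [Matrix.trace]
  have a3 : (s₁ : Matrix (Fin 3) (Fin 3) F).trace = (y + 1) ^ 2 := by
    rw [← a1, ← hmt]
    rfl
  have a4 : ((s₁⁻¹ : SL3(F)) : Matrix (Fin 3) (Fin 3) F).trace = (y + 1) ^ 2 := by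
    rw [← a2, ← hmt]
    have : s₁⁻¹ = Matrix.SpecialLinearGroup.map (σ : F →+* F) ((m5 y h2)⁻¹) := (map_inv _ _).symm
    rw [this]
    rfl
  rw [a1, a3] at t1
  rw [a2, a4] at t2
  have hy2 : y + 1 ≠ 0 := by
    intro h7
    apply hy1
    linear_combination h7 - h2
  have b1 : z * (y + 1) = 1 := by
    apply mul_right_cancel₀ hy2
    linear_combination -t1
  have b2 : z⁻¹ * (y + 1) = 1 := by
    apply mul_right_cancel₀ hy2
    linear_combination -t2
  have b3 : y + 1 = z := by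
    calc y + 1 = z * (z⁻¹ * (y + 1)) := by rw [← mul_assoc, mul_inv_cancel₀ hz0, one_mul]
      _ = z := by rw [b2, mul_one]
  rw [← b3] at b1
  -- `(y+1)² = 1`
  apply hy0
  have b4 : y ^ 2 = 0 := by linear_combination b1 - y * h2
  exact pow_eq_zero_iff (two_ne_zero) |>.1 b4

end four

/-- **Theorem** (task 2532). -/
theorem inndiag_of_inv {F : Type} [Field F] [Fintype F] (h3 : 3 ≤ Fintype.card F)
    (β : MulAut (ProjectiveSpecialLinearGroup (Fin 3) F))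
    (h : ∀ θ : ProjectiveSpecialLinearGroup (Fin 3) F → ℂ, IsIrrCharacter _ θ →
      (charDegree θ = (Fintype.card F - 1) ^ 2 * (Fintype.card F + 1) ∨ charDegree θ + 1 = Fintype.card F ^ 3) →
      θ ∘ β = θ) : IsInnerDiagonalAutPSL β := by
  classical
  obtain ⟨p, hp⟩ := CharP.exists F
  have hpp : Fact p.Prime := ⟨CharP.char_is_prime F p⟩
  obtain ⟨f, -, hf⟩ := FiniteField.card F p
  have hf' : Nat.card F = p ^ (f : ℕ) := by rw [Nat.card_eq_fintype_card, hf]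
  obtain ⟨δ, φ', γ, σ, hδ, hφ, hγ, rfl⟩ := Cfsg.Agent.S2690.result hf f.pos (n := 3) (by norm_num) (by norm_num) β
  obtain ⟨t, ht⟩ : ∃ t, Fintype.card F = t + 1 := ⟨Fintype.card F - 1, by omega⟩
  obtain ⟨E, _, _, _, φ, ω, s, A, hfr, hω, hord, hs, hsA, hs1, hA, hcard⟩ := exists_singer ht
  have hpf : p ^ (f : ℕ) = t + 1 := by rw [← hf, ht]
  have hord' : (p ^ (f : ℕ)) ^ 2 + p ^ (f : ℕ) + 1 ∣ orderOf ω := by rw [hpf]; exact hord
  have hq3 : 3 ≤ p ^ (f : ℕ) := by rw [← hf]; exact h3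
  have hconj := sing_conj ht (by omega) hA hcard (δ * φ' * γ) (fun θ hθ hd => h θ hθ (Or.inl hd)) hsA hs1
  have hrefl : σ = RingEquiv.refl F → φ' = 1 := by
    rintro rfl
    ext x
    obtain ⟨u, rfl⟩ := QuotientGroup.mk_surjective x
    rw [hφ u u (by ext i j; rfl)]
    rfl
  rcases hγ with rfl | hγ
  · rw [mul_one] at hconj h ⊢
    let s₁ : SL3(F) := Matrix.SpecialLinearGroup.map (σ : F →+* F) s
    have h5 : (δ * φ') (QuotientGroup.mk s : PSL3(F)) = δ (QuotientGroup.mk s₁) := by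
      rw [MulAut.mul_apply, hφ s s₁ rfl]
    rw [h5] at hconj
    obtain ⟨K, z, hz3, hK⟩ := rel hδ _ _ hconj
    have hs₁ : (s₁ : Matrix (Fin 3) (Fin 3) F) = (φ ω).map σ := by
      rw [← hs]
      rfl
    rw [hs₁, hs] at hK
    rcases plus_case hf' hq3 hfr φ σ K hω hord' hz3 hK with h6 | ⟨h6, h7⟩
    · rw [hrefl h6, mul_one]
      exact hδ
    · exact (four_false (hf.trans h6) hδ σ h7 φ' hφ (fun θ hθ hd => h θ hθ (Or.inr hd))).elim
  · exfalso
    let s₂ : SL3(F) := ⟨((s⁻¹ : SL3(F)) : Matrix (Fin 3) (Fin 3) F)ᵀ, by rw [Matrix.det_transpose]; exact (s⁻¹).2⟩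
    let s₁ : SL3(F) := Matrix.SpecialLinearGroup.map (σ : F →+* F) s₂
    have h5 : (δ * φ' * γ) (QuotientGroup.mk s : PSL3(F)) = δ (QuotientGroup.mk s₁) := by
      rw [MulAut.mul_apply, MulAut.mul_apply, hγ s s₂ rfl, hφ s₂ s₁ rfl]
    rw [h5] at hconj
    obtain ⟨K, z, hz3, hK⟩ := rel hδ _ _ hconj
    have hω0 : ω ≠ 0 := fun h0 => hω 0 (by rw [h0, map_zero])
    have hinv : ((s⁻¹ : SL3(F)) : Matrix (Fin 3) (Fin 3) F) = φ ω⁻¹ := by
      have e1 : ((s⁻¹ : SL3(F)) : Matrix (Fin 3) (Fin 3) F) * (s : Matrix (Fin 3) (Fin 3) F) = 1 := by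
        rw [← Matrix.SpecialLinearGroup.coe_mul, inv_mul_cancel, Matrix.SpecialLinearGroup.coe_one]
      calc ((s⁻¹ : SL3(F)) : Matrix (Fin 3) (Fin 3) F) =
          ((s⁻¹ : SL3(F)) : Matrix (Fin 3) (Fin 3) F) * (φ ω * φ ω⁻¹) := by
            rw [← map_mul, mul_inv_cancel₀ hω0, map_one, mul_one]
        _ = (((s⁻¹ : SL3(F)) : Matrix (Fin 3) (Fin 3) F) * (s : Matrix (Fin 3) (Fin 3) F)) * φ ω⁻¹ := by
            rw [hs, mul_assoc]
        _ = _ := by rw [e1, one_mul]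
    have hs₁ : (s₁ : Matrix (Fin 3) (Fin 3) F) = (φ ω⁻¹)ᵀ.map σ := by
      rw [← hinv]
      rfl
    rw [hs₁, hs] at hK
    exact minus_case hf' hq3 hfr φ σ K hω hord' hz3 hK

end Cfsg.Agent.H953.InvT
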