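import Cfsg.Agent.H953.FiveB
import Cfsg.Agent.H749.Val
import Cfsg.Agent.S0292
import Cfsg.Agent.S0293
import Cfsg.Agent.S0294

/-!
# The orthogonal rows of `H777.Elim5.Row5` (helper953, task 2153 of helper777, S5230, S5232)

`row_oodd`, `row_oplus`, `row_ominus`: if the 5-part of the order of `PΩ(Q)` is `5 ^ 8` or `5 ^ 9`, there is an abelian
5-subgroup of order at least `5 ^ 5`.
-/

set_option autoImplicit false

namespace Cfsg.Agent.H953.FiveOrth

open Matrix Subgroup QuadraticMap Cfsg.Agent.H423.PGOrth Cfsg.Agent.LieClassical.OmegaReindex Cfsg.Agent.H953.Five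
open Cfsg.Agent.H749 (vp_prod vp_natCast vp)
open Cfsg (POmega Omega quadFormOdd quadFormPlus quadFormMinus isometryGroup)
open Cfsg.Agent.H777.Elim5 (Vn5 Row5 Big5)

section num

/-- the product of the even degree factors -/
def pr (q m : ℕ) : ℕ := ∏ i ∈ Finset.range m, (q ^ (2 * (i + 1)) - 1)

theorem pr_ne {q : ℕ} (hq : 1 < q) (m : ℕ) : pr q m ≠ 0 := by
  refine Finset.prod_ne_zero_iff.2 fun k _ => ?_
  have := Nat.one_lt_pow (n := 2 * (k + 1)) (by omega) hq
  omega

theorem fact_pr {q e : ℕ} (hq : 1 < q) (he : orderOf (((q : ℤ) ^ 2 : ℤ) : ZMod 5) = e) (m : ℕ) :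
    (pr q m).factorization 5 = (m / e) * (q ^ (2 * e) - 1).factorization 5 + (m / e).factorial.factorization 5 := by
  have hf : Fact (Nat.Prime 5) := ⟨by norm_num⟩
  have hq2 : (1 : ℤ) < (q : ℤ) ^ 2 := by
    have : (1 : ℤ) < q := by exact_mod_cast hq
    nlinarith
  have h2 := vp_prod (p := 5) (by norm_num) he (fun i hi h => by
    have := one_lt_pow₀ hq2 hi
    omega) m
  have h4 : vp 5 (∏ i ∈ Finset.range m, (((q : ℤ) ^ 2) ^ (i + 1) - 1)) = (pr q m).factorization 5 := by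
    rw [← vp_natCast, pr]
    congr 1
    rw [Nat.cast_prod]
    refine Finset.prod_congr rfl fun i _ => ?_
    rw [Nat.cast_sub (Nat.one_le_pow _ _ (by omega))]
    push_cast
    rw [pow_mul]
  have h5 : vp 5 (((q : ℤ) ^ 2) ^ e - 1) = (q ^ (2 * e) - 1).factorization 5 := by
    rw [← vp_natCast]
    congr 1
    rw [Nat.cast_sub (Nat.one_le_pow _ _ (by omega))]
    push_cast
    rw [pow_mul]
  rw [h4, h5] at h2
  exact h2

theorem fact_one {q : ℕ} (hq : 1 < q) (h : 5 ∣ q ^ 2 - 1) (m : ℕ) :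
    (pr q m).factorization 5 = m * (q ^ 2 - 1).factorization 5 + m.factorial.factorization 5 := by
  have hf : Fact (Nat.Prime 5) := ⟨by norm_num⟩
  have he : orderOf (((q : ℤ) ^ 2 : ℤ) : ZMod 5) = 1 := by
    rw [orderOf_eq_one_iff]
    have h1 : ((q ^ 2 - 1 : ℕ) : ZMod 5) = 0 := (ZMod.natCast_eq_zero_iff _ _).2 h
    rw [Nat.cast_sub (Nat.one_le_pow _ _ (by omega)), sub_eq_zero] at h1
    exact_mod_cast h1
  have := fact_pr hq he m
  rwa [Nat.div_one, mul_one] at this

theorem fact_two {q : ℕ} (hq : 1 < q) (h5 : ¬ 5 ∣ q) (h : ¬ 5 ∣ q ^ 2 - 1) (m : ℕ) :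
    (pr q m).factorization 5 = (m / 2) * (q ^ 4 - 1).factorization 5 + (m / 2).factorial.factorization 5 := by
  have hf : Fact (Nat.Prime 5) := ⟨by norm_num⟩
  have h0 : ((q : ℕ) : ZMod 5) ≠ 0 := fun h' => h5 ((ZMod.natCast_eq_zero_iff _ _).1 h')
  have h1 : ((q : ℕ) : ZMod 5) ^ 2 ≠ 1 := by
    intro h'
    apply h
    rw [← ZMod.natCast_eq_zero_iff, Nat.cast_sub (Nat.one_le_pow _ _ (by omega)), sub_eq_zero]
    exact_mod_cast h'
  have hdec : ∀ x : ZMod 5, x ≠ 0 → x ^ 2 ≠ 1 → orderOf (x ^ 2) = 2 := by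
    intro x hx hx2
    apply orderOf_eq_prime
    · rw [← pow_mul]
      exact ZMod.pow_card_sub_one_eq_one hx
    · exact hx2
  have he : orderOf (((q : ℤ) ^ 2 : ℤ) : ZMod 5) = 2 := by
    push_cast
    exact hdec _ h0 h1
  exact fact_pr hq he m

theorem four_of {q : ℕ} (hq : 1 < q) (h5 : ¬ 5 ∣ q) : 5 ∣ q ^ 4 - 1 := by
  have hf : Fact (Nat.Prime 5) := ⟨by norm_num⟩
  have h0 : ((q : ℕ) : ZMod 5) ≠ 0 := fun h' => h5 ((ZMod.natCast_eq_zero_iff _ _).1 h')
  rw [← ZMod.natCast_eq_zero_iff, Nat.cast_sub (Nat.one_le_pow _ _ (by omega)), sub_eq_zero]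
  have := ZMod.pow_card_sub_one_eq_one h0
  exact_mod_cast this

theorem fac_small {n : ℕ} (h : n < 5) : n.factorial.factorization 5 = 0 := by
  apply Nat.factorization_eq_zero_of_not_dvd
  intro h'
  have := (Nat.Prime.dvd_factorial (by norm_num : Nat.Prime 5)).1 h'
  omega

theorem fac_five : (Nat.factorial 5).factorization 5 = 1 := by
  have hf : Fact (Nat.Prime 5) := ⟨by norm_num⟩
  rw [Nat.factorial_succ, Nat.factorization_mul (by norm_num) (Nat.factorial_ne_zero _), Finsupp.add_apply,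
    fac_small (by norm_num), add_zero]
  exact Nat.Prime.factorization_self (by norm_num)

theorem fac_six : (Nat.factorial 6).factorization 5 = 1 := by
  rw [Nat.factorial_succ, Nat.factorization_mul (by norm_num) (Nat.factorial_ne_zero _), Finsupp.add_apply, fac_five]
  rw [Nat.factorization_eq_zero_of_not_dvd (by norm_num)]

/-- same rank -/
theorem num_eq {n a : ℕ} (hn : 2 ≤ n) (ha : 1 ≤ a) (h : 8 ≤ n * a + n.factorial.factorization 5) :
    5 ≤ (n / 2) * (2 * a) := by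
  rcases Nat.lt_or_ge n 6 with h6 | h6
  · interval_cases n
    · rw [fac_small (by norm_num)] at h; omega
    · rw [fac_small (by norm_num)] at h; omega
    · rw [fac_small (by norm_num)] at h; omega
    · rw [fac_five] at h; omega
  · have : 3 ≤ n / 2 := by omega
    calc 5 ≤ 3 * (2 * 1) := by norm_num
      _ ≤ (n / 2) * (2 * a) := by gcongr

/-- rank one less -/
theorem num_lt {m a : ℕ} (hn : 5 ≤ m) (ha : 1 ≤ a) (h : 8 ≤ m * a + m.factorial.factorization 5) :
    5 ≤ ((m - 1) / 2) * (2 * a) := by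
  rcases Nat.lt_or_ge m 7 with h6 | h6
  · interval_cases m
    · rw [fac_five] at h; omega
    · rw [fac_six] at h; omega
  · have : 3 ≤ (m - 1) / 2 := by omega
    calc 5 ≤ 3 * (2 * 1) := by norm_num
      _ ≤ ((m - 1) / 2) * (2 * a) := by gcongr

/-- rank one less, second case -/
theorem num_lt' {m a : ℕ} (hm : m % 4 = 2) (hn : 6 ≤ m) (ha : 1 ≤ a)
    (h : 8 ≤ (m / 2) * a + (m / 2).factorial.factorization 5) :
    5 ≤ ((m - 1) / 4) * (2 * a) := by
  rcases Nat.lt_or_ge m 14 with h6 | h6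
  · interval_cases m <;> norm_num at hm
    · rw [show 6 / 2 = 3 from rfl, fac_small (by norm_num)] at h; omega
    · rw [show 10 / 2 = 5 from rfl, fac_five] at h; omega
  · have : 3 ≤ (m - 1) / 4 := by omega
    calc 5 ≤ 3 * (2 * 1) := by norm_num
      _ ≤ ((m - 1) / 4) * (2 * a) := by gcongr

theorem plus_dvd (q m : ℕ) (hm : 1 ≤ m) : (q ^ m - 1) * pr q (m - 1) ∣ pr q m := by
  obtain ⟨k, rfl⟩ : ∃ k, m = k + 1 := ⟨m - 1, by omega⟩
  rw [pr, pr, Finset.prod_range_succ, Nat.add_sub_cancel, mul_comm]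
  refine mul_dvd_mul_left _ ?_
  exact Nat.pow_sub_one_dvd_pow_sub_one _ (Dvd.intro_left 2 rfl)

theorem minus_dvd (q m : ℕ) (hm : 1 ≤ m) : (q ^ m + 1) * pr q (m - 1) ∣ pr q m := by
  obtain ⟨k, rfl⟩ : ∃ k, m = k + 1 := ⟨m - 1, by omega⟩
  rw [pr, pr, Finset.prod_range_succ, Nat.add_sub_cancel, mul_comm]
  refine mul_dvd_mul_left _ ?_
  refine ⟨q ^ (k + 1) - 1, ?_⟩
  have := Nat.sq_sub_sq (q ^ (k + 1)) 1
  rw [one_pow, ← pow_mul, mul_comm (k + 1) 2] at this
  exact this

theorem not_dvd_one {q m : ℕ} (hq : 1 < q) (h : 5 ∣ q ^ 2 - 1) (hm : Even m) : ¬ 5 ∣ q ^ m + 1 := by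
  intro h'
  obtain ⟨k, rfl⟩ := hm
  have h1 : q ^ 2 - 1 ∣ q ^ (k + k) - 1 := by
    rw [← two_mul]
    exact Nat.pow_sub_one_dvd_pow_sub_one _ ⟨k, rfl⟩
  have h2 := h.trans h1
  have h3 : 1 ≤ q ^ (k + k) := Nat.one_le_pow _ _ (by omega)
  omega

theorem not_dvd_two {q m : ℕ} (hq : 1 < q) (h5 : ¬ 5 ∣ q) (h : ¬ 5 ∣ q ^ 2 - 1) (hm : m % 4 ≠ 2) : ¬ 5 ∣ q ^ m + 1 := by
  intro h'
  have h0 : q % 5 ≠ 0 := by omega
  have h1 : q % 5 = 2 ∨ q % 5 = 3 := by
    have h2 : 1 ≤ q ^ 2 := Nat.one_le_pow _ _ (by omega)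
    have h3 : (q ^ 2) % 5 ≠ 1 := by omega
    rw [Nat.pow_mod] at h3
    have : q % 5 < 5 := Nat.mod_lt _ (by norm_num)
    interval_cases q % 5 <;> simp_all
  have h2 : (q ^ m) % 5 = 4 := by omega
  have h4 : (q ^ 4) % 5 = 1 := by
    rw [Nat.pow_mod]
    rcases h1 with h1 | h1 <;> rw [h1]
  rw [← Nat.div_add_mod m 4, pow_add, pow_mul, Nat.mul_mod, Nat.pow_mod (q ^ 4), h4, one_pow, Nat.pow_mod q] at h2
  have h6 : m % 4 < 4 := Nat.mod_lt _ (by norm_num)
  rcases h1 with h1 | h1 <;> rw [h1] at h2 <;> interval_cases m % 4 <;> simp_all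

theorem four_le {q : ℕ} (hq : 1 < q) (h : 5 ∣ q ^ 2 - 1) : 4 ≤ q := by
  by_contra hc
  interval_cases q <;> norm_num at h

theorem eight_of {k n : ℕ} (hk : k ≠ 0) (h : 5 ^ n ∣ k) : n ≤ k.factorization 5 :=
  (Nat.Prime.pow_dvd_iff_le_factorization (by norm_num) hk).1 h

end num

section rows

variable {F : Type*} [Field F] [Finite F]

theorem one_lt_card' : 1 < Nat.card F := Finite.one_lt_card

theorem cm_one (h5 : ¬ 5 ∣ Nat.card F) (h : 5 ∣ Nat.card F ^ 2 - 1) (k : ℕ) :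
    Cm ((k / 2) * (2 * (Nat.card F ^ 2 - 1).factorization 5)) ↥(isometryGroup F (quadFormPlus k F)) := by
  have h1 := cm_plus_of (cm_four (four_le one_lt_card' h) h5 (Nat.ordProj_dvd _ 5)) (k / 2) (k % 2)
  rwa [Nat.div_add_mod] at h1

theorem cm_two (h5 : ¬ 5 ∣ Nat.card F) (k : ℕ) :
    Cm ((k / 4) * (2 * (Nat.card F ^ 4 - 1).factorization 5)) ↥(isometryGroup F (quadFormPlus k F)) := by
  have h1 := cm_plus_of (cm_eight h5 (Nat.ordProj_dvd _ 5)) (k / 4) (k % 4)
  rwa [Nat.div_add_mod] at h1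

/-- the size of the field if 5 divides it -/
theorem card_five (h : 5 ∣ Nat.card F) : ∃ f : ℕ, 1 ≤ f ∧ Nat.card F = 5 ^ f := by
  have := Fintype.ofFinite F
  obtain ⟨p, hp⟩ := CharP.exists F
  have hpp : p.Prime := CharP.char_is_prime F p
  obtain ⟨n, hp', hn⟩ := FiniteField.card F p
  rw [← Nat.card_eq_fintype_card] at hn
  rw [hn] at h
  have h4 : 5 ∣ p := (by norm_num : Nat.Prime 5).dvd_of_dvd_pow h
  have h5 : p = 5 := ((Nat.prime_dvd_prime_iff_eq (by norm_num) hpp).1 h4).symm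
  subst h5
  exact ⟨n, n.pos, hn⟩

theorem vn_dvd {K : Type*} [Group K] (hV : Vn5 8 K ∨ Vn5 9 K) : 5 ^ 8 ∣ Nat.card K ∧ ¬ 5 ^ 10 ∣ Nat.card K := by
  rcases hV with ⟨h1, h2⟩ | ⟨h1, h2⟩
  · exact ⟨h1, fun h => h2 ((pow_dvd_pow 5 (by norm_num)).trans h)⟩
  · exact ⟨(pow_dvd_pow 5 (by norm_num)).trans h1, h2⟩

theorem dvd_right {n N x : ℕ} {q : ℕ} (hq : ¬ 5 ∣ q) (h : 5 ^ N ∣ q ^ n * x) : 5 ^ N ∣ x := by
  refine Nat.Coprime.dvd_of_dvd_mul_left ?_ h
  apply Nat.Coprime.pow
  exact (Nat.Prime.coprime_iff_not_dvd (by norm_num)).2 hq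

theorem dvd_gcd {N x : ℕ} {y : ℕ} (h : 5 ^ N ∣ Nat.gcd 4 y * x) : 5 ^ N ∣ x := by
  refine Nat.Coprime.dvd_of_dvd_mul_left ?_ h
  apply Nat.Coprime.pow_left
  exact Nat.Coprime.coprime_dvd_right (Nat.gcd_dvd_left 4 y) (by norm_num)

/-- anisotropic binary form -/
theorem exists_aniso (h2 : (2 : F) ≠ 0) : ∃ c : F, c ≠ 0 ∧
    ∀ z₁ z₂ : F, z₁ ^ 2 + 0 * z₁ * z₂ + c * z₂ ^ 2 = 0 → z₁ = 0 ∧ z₂ = 0 := by
  have := Fintype.ofFinite F
  obtain ⟨s, hs⟩ := FiniteField.exists_nonsquare (F := F) (fun h => h2 (by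
    have := ringChar.spec F 2
    rw [h] at this
    exact_mod_cast this.2 dvd_rfl))
  have hs0 : s ≠ 0 := by
    rintro rfl
    exact hs ⟨0, by simp⟩
  refine ⟨-s, neg_ne_zero.2 hs0, fun z₁ z₂ h => ?_⟩
  have h0 : z₂ = 0 := by
    by_contra hz
    apply hs
    refine ⟨z₁ / z₂, ?_⟩
    field_simp
    linear_combination -h
  subst h0
  refine ⟨?_, rfl⟩
  have : z₁ ^ 2 = 0 := by linear_combination h
  exact pow_eq_zero_iff (two_ne_zero) |>.1 this

end rows

section final

variable {F : Type*} [Field F] [Fintype F]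

/-- **`Ω_{2m+1}(q)`** -/
theorem row_oodd {m : ℕ} (hm : 3 ≤ m) (ho : Odd (Fintype.card F)) : Row5 (POmega F (quadFormOdd m F)) := by
  intro hV
  obtain ⟨hV8, hV10⟩ := vn_dvd hV
  have h1 := Cfsg.Agent.S0292.result (F := F) rfl ho m hm
  rw [← Nat.card_eq_fintype_card] at h1
  change _ = _ * pr (Nat.card F) m at h1
  have h20 : (2 : F) ≠ 0 := by
    intro h
    have hc : CharP F 2 := CharTwo.of_one_ne_zero_of_two_eq_zero one_ne_zero h
    obtain ⟨n, -, hn⟩ := FiniteField.card F 2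
    rw [hn] at ho
    exact absurd ho (by rw [Nat.not_odd_iff_even]; exact (Nat.even_pow.2 ⟨even_two, n.ne_zero⟩))
  suffices h : ∃ r, 5 ≤ r ∧ Cm r ↥(isometryGroup F (quadFormOdd m F)) by
    obtain ⟨r, hr, h⟩ := h
    rw [← coe_quadOdd] at h ⊢
    exact big_of_cm _ (quadOdd_nondegenerate h20) (by simp; omega) (quadOdd_isotropic (by omega)) hr h
  by_cases h5 : 5 ∣ Nat.card F
  · obtain ⟨f, hf, hq⟩ := card_five h5
    have h2 : 5 ^ (f * m ^ 2) ∣ Nat.card (POmega F (quadFormOdd m F)) := by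
      have h3 : 5 ^ (f * m ^ 2) ∣ 2 * Nat.card (POmega F (quadFormOdd m F)) := by
        rw [h1, hq, ← pow_mul]
        exact dvd_mul_right _ _
      exact Nat.Coprime.dvd_of_dvd_mul_left (Nat.Coprime.pow_left _ (by norm_num)) h3
    have h3 : f * m ^ 2 < 10 := by
      by_contra hc
      exact hV10 ((pow_dvd_pow 5 (by omega)).trans h2)
    have h4 : m = 3 := by
      by_contra hc
      have : 4 ≤ m := by omega
      have : 16 ≤ f * m ^ 2 := by nlinarith
      omega
    subst h4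
    have h6 : f = 1 := by omega
    subst h6
    rw [pow_one] at hq
    exact ⟨5, le_rfl, cm_seven hq⟩
  · have h2 : 5 ^ 8 ∣ pr (Nat.card F) m := by
      refine dvd_right h5 (n := m ^ 2) ?_
      rw [← h1]
      exact Dvd.dvd.mul_left hV8 2
    have h3 := eight_of (pr_ne one_lt_card' _) h2
    by_cases hc : 5 ∣ Nat.card F ^ 2 - 1
    · rw [fact_one one_lt_card' hc] at h3
      have ha : 1 ≤ (Nat.card F ^ 2 - 1).factorization 5 := eight_of (by
        have := one_lt_card' (F := F)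
        have := Nat.one_lt_pow (n := 2) (by omega) this
        omega) (by rwa [pow_one])
      exact ⟨_, num_eq (by omega) ha h3, cm_odd (cm_one h5 hc m)⟩
    · rw [fact_two one_lt_card' h5 hc] at h3
      have ha : 1 ≤ (Nat.card F ^ 4 - 1).factorization 5 := eight_of (by
        have := one_lt_card' (F := F)
        have := Nat.one_lt_pow (n := 4) (by omega) this
        omega) (by
          rw [pow_one]
          exact four_of one_lt_card' h5)
      rcases Nat.lt_or_ge m 4 with h4 | h4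
      · have h6 : m = 3 := by omega
        subst h6
        obtain ⟨c, hc0, hc1⟩ := exists_aniso h20
        refine ⟨(Nat.card F ^ 4 - 1).factorization 5, ?_, (cm_minus_one hc1 h5 (Nat.ordProj_dvd _ 5)).map
          (oddThree c h20 hc0).iso (oddThree c h20 hc0).iso_injective⟩
        rw [show 3 / 2 = 1 from rfl, fac_small (by norm_num)] at h3
        omega
      · have h6 := num_eq (by omega) ha h3
        rw [Nat.div_div_eq_div_mul] at h6
        exact ⟨_, h6, cm_odd (cm_two h5 m)⟩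

/-- **`PΩ⁺_{2m}(q)`** -/
theorem row_oplus {m : ℕ} (hm : 4 ≤ m) : Row5 (POmega F (quadFormPlus m F)) := by
  intro hV
  obtain ⟨hV8, hV10⟩ := vn_dvd hV
  have h1 := Cfsg.Agent.S0293.result (F := F) rfl m hm
  rw [← Nat.card_eq_fintype_card, mul_assoc] at h1
  change _ = _ * (_ * pr (Nat.card F) (m - 1)) at h1
  suffices h : ∃ r, 5 ≤ r ∧ Cm r ↥(isometryGroup F (quadFormPlus m F)) by
    obtain ⟨r, hr, h⟩ := h
    rw [← coe_quadPlus] at h ⊢
    exact big_of_cm _ quadPlus_nondegenerate (by simp; omega) (quadPlus_isotropic (by omega)) hr h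
  by_cases h5 : 5 ∣ Nat.card F
  · exfalso
    have h2 : 5 ^ (m * (m - 1)) ∣ Nat.card (POmega F (quadFormPlus m F)) := by
      apply dvd_gcd
      rw [h1]
      exact Dvd.dvd.mul_right (pow_dvd_pow_of_dvd h5 _) _
    have h3 : 10 ≤ m * (m - 1) := by
      have : 3 ≤ m - 1 := by omega
      nlinarith
    exact hV10 ((pow_dvd_pow 5 h3).trans h2)
  · have h2 : 5 ^ 8 ∣ pr (Nat.card F) m := by
      refine (dvd_right h5 (n := m * (m - 1)) ?_).trans (plus_dvd _ m (by omega))
      rw [← h1]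
      exact Dvd.dvd.mul_left hV8 _
    have h3 := eight_of (pr_ne one_lt_card' _) h2
    by_cases hc : 5 ∣ Nat.card F ^ 2 - 1
    · rw [fact_one one_lt_card' hc] at h3
      have ha : 1 ≤ (Nat.card F ^ 2 - 1).factorization 5 := eight_of (by
        have := one_lt_card' (F := F)
        have := Nat.one_lt_pow (n := 2) (by omega) this
        omega) (by rwa [pow_one])
      exact ⟨_, num_eq (by omega) ha h3, cm_one h5 hc m⟩
    · rw [fact_two one_lt_card' h5 hc] at h3
      have ha : 1 ≤ (Nat.card F ^ 4 - 1).factorization 5 := eight_of (by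
        have := one_lt_card' (F := F)
        have := Nat.one_lt_pow (n := 4) (by omega) this
        omega) (by
          rw [pow_one]
          exact four_of one_lt_card' h5)
      have h6 := num_eq (by omega) ha h3
      rw [Nat.div_div_eq_div_mul] at h6
      exact ⟨_, h6, cm_two h5 m⟩

/-- **`PΩ⁻_{2m}(q)`** -/
theorem row_ominus {m : ℕ} (hm : 4 ≤ m) {a b : F}
    (hab : ∀ z₁ z₂ : F, z₁ ^ 2 + a * z₁ * z₂ + b * z₂ ^ 2 = 0 → z₁ = 0 ∧ z₂ = 0) :
    Row5 (POmega F (quadFormMinus (m - 1) F a b)) := by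
  intro hV
  obtain ⟨hV8, hV10⟩ := vn_dvd hV
  have h1 := Cfsg.Agent.S0294.result (F := F) rfl m hm a b hab
  rw [← Nat.card_eq_fintype_card, mul_assoc] at h1
  change _ = _ * (_ * pr (Nat.card F) (m - 1)) at h1
  suffices h : ∃ r, 5 ≤ r ∧ Cm r ↥(isometryGroup F (quadFormMinus (m - 1) F a b)) by
    obtain ⟨r, hr, h⟩ := h
    rw [← coe_quadMinus] at h ⊢
    exact big_of_cm _ (quadMinus_nondegenerate hab) (by simp; omega) (quadMinus_isotropic (by omega) a b) hr h
  by_cases h5 : 5 ∣ Nat.card F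
  · exfalso
    have h2 : 5 ^ (m * (m - 1)) ∣ Nat.card (POmega F (quadFormMinus (m - 1) F a b)) := by
      apply dvd_gcd
      rw [h1]
      exact Dvd.dvd.mul_right (pow_dvd_pow_of_dvd h5 _) _
    have h3 : 10 ≤ m * (m - 1) := by
      have : 3 ≤ m - 1 := by omega
      nlinarith
    exact hV10 ((pow_dvd_pow 5 h3).trans h2)
  · have h2 : 5 ^ 8 ∣ (Nat.card F ^ m + 1) * pr (Nat.card F) (m - 1) := by
      refine (dvd_right h5 (n := m * (m - 1)) ?_)
      rw [← h1]
      exact Dvd.dvd.mul_left hV8 _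
    have h2' : ¬ 5 ∣ Nat.card F ^ m + 1 → 5 ^ 8 ∣ pr (Nat.card F) (m - 1) := fun h =>
      dvd_right h (n := 1) (by rwa [pow_one])
    by_cases hc : 5 ∣ Nat.card F ^ 2 - 1
    · have ha : 1 ≤ (Nat.card F ^ 2 - 1).factorization 5 := eight_of (by
        have := one_lt_card' (F := F)
        have := Nat.one_lt_pow (n := 2) (by omega) this
        omega) (by rwa [pow_one])
      rcases Nat.even_or_odd m with he | he
      · have h3 := eight_of (pr_ne one_lt_card' _) (h2' (not_dvd_one one_lt_card' hc he))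
        rw [fact_one one_lt_card' hc] at h3
        exact ⟨_, num_eq (by omega) ha h3, cm_minus a b (cm_one h5 hc (m - 1))⟩
      · have h3 := eight_of (pr_ne one_lt_card' _) (h2.trans (minus_dvd _ m (by omega)))
        rw [fact_one one_lt_card' hc] at h3
        have h4 : 5 ≤ m := by
          rcases he with ⟨k, rfl⟩
          omega
        exact ⟨_, num_lt h4 ha h3, cm_minus a b (cm_one h5 hc (m - 1))⟩
    · have ha : 1 ≤ (Nat.card F ^ 4 - 1).factorization 5 := eight_of (by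
        have := one_lt_card' (F := F)
        have := Nat.one_lt_pow (n := 4) (by omega) this
        omega) (by
          rw [pow_one]
          exact four_of one_lt_card' h5)
      by_cases he : m % 4 = 2
      · have h3 := eight_of (pr_ne one_lt_card' _) (h2.trans (minus_dvd _ m (by omega)))
        rw [fact_two one_lt_card' h5 hc] at h3
        exact ⟨_, num_lt' he (by omega) ha h3, cm_minus a b (cm_two h5 (m - 1))⟩
      · have h3 := eight_of (pr_ne one_lt_card' _) (h2' (not_dvd_two one_lt_card' h5 hc he))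
        rw [fact_two one_lt_card' h5 hc] at h3
        rcases Nat.lt_or_ge m 5 with h4 | h4
        · have h6 : m = 4 := by omega
          subst h6
          refine ⟨(Nat.card F ^ 4 - 1).factorization 5, ?_, (cm_minus_one hab h5 (Nat.ordProj_dvd _ 5)).map
            (minusThree a b).iso (minusThree a b).iso_injective⟩
          rw [show (4 - 1) / 2 = 1 from rfl, fac_small (by norm_num)] at h3
          omega
        · have h6 := num_eq (by omega) ha h3
          rw [Nat.div_div_eq_div_mul] at h6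
          exact ⟨_, h6, cm_minus a b (cm_two h5 (m - 1))⟩

end final

end Cfsg.Agent.H953.FiveOrth
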