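import Cfsg.Agent.H886.HypNonRigid2

/-!
Non-rigid overgroups of the stabiliser of an orthogonal decomposition into hyperbolic planes contain `E Q`:
at least five members, `|F| ≥ 7`.  (Six members: `H886.HypNonRigid2`.)
-/

set_option autoImplicit false
set_option linter.unusedSectionVars false
set_option linter.unusedVariables false

namespace Cfsg.Agent.H953.HypFive

open QuadraticMap Cfsg.Agent.LieClassical.OrthCore Cfsg.Agent.LieClassical.OrthTrans
  Cfsg.Agent.LieClassical.OrthFinite Cfsg.Agent.LieClassical.OrthSimple Cfsg.Agent.H883.Bridge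
  Cfsg.Agent.H883.Root Cfsg.Agent.H883.Sub Cfsg.Agent.H886.Decomp Cfsg.Agent.H886.Rigid
  Cfsg.Agent.H886.PlaneRigid Cfsg.Agent.H886.DecTools Cfsg.Agent.H886.HypPl
  Cfsg.Agent.H886.HypNonRigid
open Cfsg.Agent.H886.PlaneNonRigid (Linked linked_move linked_refl has_of_move exists_notMem_finset
  refl_mul_refl_factor refl_pair_apply hasGroup has_other)

variable {F V : Type*} [Field F] [AddCommGroup V] [Module F V] {Q : QuadraticForm F V} {t : ℕ}
  {D : Fin t → Submodule F V} {p : Fin t → V →ₗ[F] V} {M : Subgroup (V ≃ₗ[F] V)}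

/-- The orthogonal direction in a hyperbolic plane. -/
theorem exists_perp {W : Submodule F V} {e f : V} (h : HB Q W e f) {c : V} (hc : c ∈ W)
    (hQc : Q c ≠ 0) : ∃ e' ∈ W, Q e' = -Q c ∧ polar Q e' c = 0 ∧
      ∀ z ∈ W, polar Q e' z = 0 → ∃ r : F, z = r • c := by
  obtain ⟨a, b, rfl⟩ := h.span c hc
  rw [h.Q_eq] at hQc
  have ha : a ≠ 0 := left_ne_zero_of_mul hQc
  have hb : b ≠ 0 := right_ne_zero_of_mul hQc
  refine ⟨a • e + (-b) • f, h.mem _ _, ?_, ?_, ?_⟩
  · rw [h.Q_eq, h.Q_eq]; ring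
  · rw [h.polar_eq]; ring
  · intro z hz h0
    obtain ⟨x, y, rfl⟩ := h.span z hz
    rw [h.polar_eq] at h0
    refine ⟨x / a, ?_⟩
    have hy : y = x / a * b := by
      field_simp
      linear_combination h0
    rw [smul_add, smul_smul, smul_smul, ← hy, div_mul_cancel₀ x ha]

section Planes

variable [Finite F] [FiniteDimensional F V]

/-- `has_member` with a general correction of the reflections. -/
theorem has_member' (hq : 7 ≤ Nat.card F) (hG : Good Q) (h : Dec Q D p)
    (hD : ∀ i, ∃ e f, HB Q (D i) e f)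
    (hMO : M ≤ O Q) (hH : stabFamily D ⊓ E Q ≤ M) {s w₀ : V} {j : Fin t}
    (hsj : p j s = 0)
    (hcor : ∀ c ∈ D j, ∀ hc : Q c ≠ 0, ∃ g ∈ stabFamily D ⊓ E Q, g s = s ∧
      ∀ y ∈ D j, g y = refl Q c hc y)
    (hw : Has Q M s w₀) (hwj : p j w₀ ≠ 0) {w : V}
    (hwD : w ∈ D j) : Has Q M s w := by
  obtain ⟨e, f, hef⟩ := hD j
  obtain ⟨a, ha, a', ha', hQa, hQa', haa, hind⟩ := HB.exists_pair hq hef
  have hQa0' : Q a' ≠ 0 := by rw [hQa']; exact hQa
  have fixs : ∀ c (hc : c ∈ D j) (hQc : Q c ≠ 0), refl Q c hQc s = s := by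
    intro c hc hQc
    rw [refl_apply, h.polar_right j s hc, hsj, polar_zero_right, mul_zero, zero_smul, sub_zero]
  have h1 := hw.map (g := refl Q a hQa * refl Q a' hQa0')
    ((O Q).mul_mem (refl_mem_O _) (refl_mem_O _))
    (hH (h.refl_mul_refl_mem hG ha ha' hQa hQa0' hQa'.symm))
  have e1 : (refl Q a hQa * refl Q a' hQa0') s = s := by
    show refl Q a hQa (refl Q a' hQa0' s) = s
    rw [fixs a' ha', fixs a ha]
  rw [e1] at h1
  have h2 := hw.sub h1
  set z := w₀ - (refl Q a hQa * refl Q a' hQa0') w₀ with hz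
  have hcomp : ∀ m, p m ((refl Q a hQa * refl Q a' hQa0') w₀) =
      if m = j then refl Q a hQa (refl Q a' hQa0' (p j w₀)) else p m w₀ := by
    intro m
    show p m (refl Q a hQa (refl Q a' hQa0' w₀)) = _
    split_ifs with hm
    · subst hm
      rw [h.proj_refl ha, h.proj_refl ha']
    · rw [h.proj_refl_ne hm ha, h.proj_refl_ne hm ha']
  have hzD : z ∈ D j := by
    refine h.mem_of fun m hm => ?_
    rw [hz, map_sub, hcomp, if_neg hm, sub_self]
  have hz0 : z ≠ 0 := by
    intro h0
    have h3 := congrArg (p j) h0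
    rw [hz, map_sub, hcomp, if_pos rfl, map_zero, sub_eq_zero] at h3
    exact hwj (eq_zero_of_fix hef.rank (h.nondegOn hG.nondeg j) ha ha' hQa hQa0' hind (h.mem j w₀)
      h3.symm)
  refine hef.mem_of_closed hq (hasGroup Q M hw.sing) ?_ (w := z) h2 hzD hz0 hwD
  intro c hc hQc y hy hyD
  obtain ⟨g, hg, hgs, hgy⟩ := hcor c hc hQc
  have h3 := Has.map (show Has Q M s y from hy) (g := g) (E_le_O hg.2) (hH hg)
  rw [hgs, hgy y hyD] at h3
  exact h3

/-- From a vector `s` with components of opposite norms to a singular vector of support two. -/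
theorem exists_short (hq : 7 ≤ Nat.card F) (hG : Good Q) (h : Dec Q D p)
    (hD : ∀ i, ∃ e f, HB Q (D i) e f)
    (hMO : M ≤ O Q) (hH : stabFamily D ⊓ E Q ≤ M) (hm1 : ¬ IsSquare (-1 : F)) {s w : V}
    {i j k : Fin t} (hij : i ≠ j) (hik : i ≠ k) (hjk : j ≠ k) (hsk : p k s = 0)
    (hsi : Q (p i s) ≠ 0) (hneg : Q (p j s) = -Q (p i s)) (hw : Has Q M s w)
    (hwk : p k w ≠ 0) {e : V} (he : e ∈ D i) (hes : polar Q e (p i s) = 0) (hQes : Q e = -Q (p i s))
    (hew : polar Q e (p i w) ≠ 0) :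
    ∃ s' w' : V, s' ≠ 0 ∧ Has Q M s' w' ∧ ∃ S : Finset (Fin t), S.card ≤ 2 ∧
      (∀ k, k ∉ S → p k s' = 0) ∧ ∃ k, k ∉ S ∧ p k w' ≠ 0 := by
  classical
  have he0 : e ≠ 0 := by
    rintro rfl
    rw [polar_zero_left] at hew
    exact hew rfl
  have hQe : Q e ≠ 0 := by rw [hQes]; exact neg_ne_zero.2 hsi
  have hQsj : Q (p j s) ≠ 0 := by rw [hneg]; exact neg_ne_zero.2 hsi
  have hrep := rep (Q := Q) hD
  -- a vector of `D j` orthogonal to `s`
  obtain ⟨e₂, f₂, hef₂⟩ := hD j
  obtain ⟨e', he', hQe'2, he's, -⟩ := exists_perp hef₂ (h.mem j s) hQsj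
  have hQe' : Q e' ≠ 0 := by rw [hQe'2]; exact neg_ne_zero.2 hQsj
  have fixk : ∀ c (hc : c ∈ D k) (hQc : Q c ≠ 0), refl Q c hQc s = s := by
    intro c hc hQc
    rw [refl_apply, h.polar_right k s hc, hsk, polar_zero_right, mul_zero, zero_smul, sub_zero]
  have fixe : refl Q e hQe s = s := by
    rw [refl_apply, h.polar_right i s he, hes, mul_zero, zero_smul, sub_zero]
  have fixe' : refl Q e' hQe' s = s := by
    rw [refl_apply, h.polar_right j s he', he's, mul_zero, zero_smul, sub_zero]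
  have hk' : ∀ z ∈ D k, Has Q M s z := by
    intro z hz
    refine has_member' hq hG h hD hMO hH hsk ?_ hw hwk hz
    intro c hc hQc
    by_cases hce : IsSquare (Q c * Q e)
    · obtain ⟨r, hr0, hr⟩ := exists_factor hQc hQe hce
      refine ⟨refl Q c hQc * refl Q e hQe, ⟨(stabFamily D).mul_mem (h.refl_mem_stabFamily hc _)
        (h.refl_mem_stabFamily he _), refl_mul_refl_factor hG hQc hQe hr0 hr⟩, ?_, ?_⟩
      · show refl Q c hQc (refl Q e hQe s) = s
        rw [fixe, fixk c hc]
      · intro y hy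
        show refl Q c hQc (refl Q e hQe y) = refl Q c hQc y
        rw [refl_apply (v := e), h.orth i k hik e he y hy, mul_zero, zero_smul, sub_zero]
    · have hce' : IsSquare (Q c * Q e') := by
        have h1 := isSquare_mul_of_not hm1 hce
        have h2 : Q c * Q e' = -1 * (Q c * Q e) := by
          rw [hQe'2, hneg, hQes]; ring
        rw [h2]
        exact h1
      obtain ⟨r, hr0, hr⟩ := exists_factor hQc hQe' hce'
      refine ⟨refl Q c hQc * refl Q e' hQe', ⟨(stabFamily D).mul_mem (h.refl_mem_stabFamily hc _)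
        (h.refl_mem_stabFamily he' _), refl_mul_refl_factor hG hQc hQe' hr0 hr⟩, ?_, ?_⟩
      · show refl Q c hQc (refl Q e' hQe' s) = s
        rw [fixe', fixk c hc]
      · intro y hy
        show refl Q c hQc (refl Q e' hQe' y) = refl Q c hQc y
        rw [refl_apply (v := e'), h.orth j k hjk e' he' y hy, mul_zero, zero_smul, sub_zero]
  -- the vector `μ e`
  obtain ⟨c, hc, hQc⟩ := hrep k (Q e) hQe
  have hQc0 : Q c ≠ 0 := by rw [hQc]; exact hQe
  have h1 := hw.map (g := refl Q e hQe * refl Q c hQc0)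
    ((O Q).mul_mem (refl_mem_O _) (refl_mem_O _))
    (hH (h.refl_mul_refl_mem hG he hc hQe hQc0 hQc.symm))
  have e1 : (refl Q e hQe * refl Q c hQc0) s = s := by
    show refl Q e hQe (refl Q c hQc0 s) = s
    rw [fixk c hc, fixe]
  set μ := (Q e)⁻¹ * polar Q e w with hμ
  set ν := (Q c)⁻¹ * polar Q c w with hν
  have hμ0 : μ ≠ 0 := by
    refine mul_ne_zero (inv_ne_zero hQe) ?_
    rw [h.polar_right i w he]
    exact hew
  have e2 : (refl Q e hQe * refl Q c hQc0) w = w - μ • e - ν • c := by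
    show refl Q e hQe (refl Q c hQc0 w) = _
    have e3 : refl Q e hQe c = c := by
      rw [refl_apply, h.orth i k hik e he c hc, mul_zero, zero_smul, sub_zero]
    rw [refl_apply (v := c), map_sub, map_smul, ← hν, e3, refl_apply, ← hμ]
  rw [e1, e2] at h1
  have h2 := (hw.sub h1).sub (hk' (ν • c) ((D k).smul_mem _ hc))
  have e3 : w - (w - μ • e - ν • c) - ν • c = μ • e := by abel
  rw [e3] at h2
  -- the singular vector
  have hQμ : Q (μ • e) ≠ 0 := by
    rw [QuadraticMap.map_smul, smul_eq_mul]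
    exact mul_ne_zero (mul_ne_zero hμ0 hμ0) hQe
  obtain ⟨z, hz, hQz⟩ := hrep k (-Q (μ • e)) (neg_ne_zero.2 hQμ)
  have hz0 : z ≠ 0 := by
    rintro rfl
    rw [QuadraticMap.map_zero] at hQz
    exact (neg_ne_zero.2 hQμ) hQz.symm
  have h3 := h2.add (hk' z hz)
  have hv : Q (μ • e + z) = 0 := by
    rw [Q_add, hQz, h.orth i k hik _ ((D i).smul_mem _ he) z hz]
    ring
  have h4 := h3.swap hv
  refine ⟨μ • e + z, -s, ?_, h4, {i, k}, Finset.card_le_two, ?_, j, ?_, ?_⟩
  · intro h0
    have h5 := congrArg (p k) h0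
    rw [map_add, h.other k i hik.symm _ ((D i).smul_mem _ he), h.self k z hz, zero_add,
      map_zero] at h5
    exact hz0 h5
  · intro l hl
    simp only [Finset.mem_insert, Finset.mem_singleton, not_or] at hl
    rw [map_add, h.other l i hl.1 _ ((D i).smul_mem _ he), h.other l k hl.2 z hz, add_zero]
  · simp only [Finset.mem_insert, Finset.mem_singleton, not_or]
    exact ⟨hij.symm, hjk⟩
  · rw [map_neg]
    refine neg_ne_zero.2 ?_
    intro h0
    rw [h0, QuadraticMap.map_zero] at hQsj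
    exact hQsj rfl

/-- **A linked vector with three nonsingular components gives a Siegel transformation**, the singular
vector having at most two components. -/
theorem exists_siegel2 (hq : 7 ≤ Nat.card F) (hG : Good Q) (h : Dec Q D p)
    (hD : ∀ i, ∃ e f, HB Q (D i) e f) (ht : 5 ≤ t)
    (hMO : M ≤ O Q) (hH : stabFamily D ⊓ E Q ≤ M) {x : V} (hx : Linked Q D M x)
    (hns : ∀ i, p i x ≠ 0 → Q (p i x) ≠ 0) {i j l : Fin t}
    (hij : i ≠ j) (hil : i ≠ l) (hjl : j ≠ l) (hi : p i x ≠ 0) (hj : p j x ≠ 0) (hl : p l x ≠ 0) :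
    ∃ s w : V, s ≠ 0 ∧ Has Q M s w ∧ ∃ S : Finset (Fin t), S.card ≤ 2 ∧ (∀ k, k ∉ S → p k s = 0) ∧
      ∃ k, k ∉ S ∧ p k w ≠ 0 := by
  classical
  obtain ⟨hQx, -⟩ := id hx
  have hκ : -(Q x)⁻¹ ≠ 0 := neg_ne_zero.2 (inv_ne_zero hQx)
  have hrep := rep (Q := Q) hD
  have hD' := hD
  choose e₀ f₀ hef using hD
  -- pairs
  obtain ⟨c, hc, d, hd, hQc, hQd, hcx, hdx, hcd⟩ :=
    HB.exists_pair_sing hq (hef i) (hef j) (h.mem i x) (hns i hi) (h.mem j x) (hns j hj)
  have hc0 : c ≠ 0 := by
    rintro rfl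
    exact hQc (QuadraticMap.map_zero Q)
  have hpcd : polar Q c d = 0 := h.orth i j hij c hc d hd
  have hcx' : polar Q c x = Q c := by rw [h.polar_right i x hc, hcx]
  have hdx' : polar Q d x = Q d := by rw [h.polar_right j x hd, hdx]
  have hQcd : Q (c + d) = 0 := by rw [Q_add, hpcd, add_zero, hcd]
  have hpix : ∀ k, k ≠ i → k ≠ j → p k (c + d) = 0 := by
    intro k h1 h2
    rw [map_add, h.other k i h1 c hc, h.other k j h2 d hd, add_zero]
  have hcd0 : c + d ≠ 0 := by
    intro h0
    have := congrArg (p i) h0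
    rw [map_add, h.self i c hc, h.other i j hij d hd, add_zero, map_zero] at this
    exact hc0 this
  have hxcd : polar Q (c + d) x = 0 := by rw [polar_add_left, hcx', hdx', hcd]
  have hgx : (refl Q c hQc * refl Q d hQd) x = x - (c + d) := by
    show refl Q c hQc (refl Q d hQd x) = _
    rw [refl_pair_apply h hd hQd hdx, refl_pair_apply h hc hQc (by
      rw [map_sub, h.other i j hij d hd, sub_zero]; exact hcx)]
    abel
  have hgO : refl Q c hQc * refl Q d hQd ∈ O Q := (O Q).mul_mem (refl_mem_O _) (refl_mem_O _)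
  have hgD : refl Q c hQc * refl Q d hQd ∈ stabFamily D :=
    (stabFamily D).mul_mem (h.refl_mem_stabFamily hc _) (h.refl_mem_stabFamily hd _)
  -- the short case
  have short : (∃ g ∈ stabFamily D ⊓ E Q, g x = x - (c + d)) →
      ∃ s w : V, s ≠ 0 ∧ Has Q M s w ∧ ∃ S : Finset (Fin t), S.card ≤ 2 ∧
        (∀ k, k ∉ S → p k s = 0) ∧ ∃ k, k ∉ S ∧ p k w ≠ 0 := by
    rintro ⟨g, hg, hgx⟩
    refine ⟨c + d, (-(Q x)⁻¹) • x, hcd0, has_of_move h hG hMO hH hx hg hgx hQcd hxcd, {i, j},
      Finset.card_le_two, ?_, l, ?_, ?_⟩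
    · intro k hk
      simp only [Finset.mem_insert, Finset.mem_singleton, not_or] at hk
      exact hpix k hk.1 hk.2
    · simp only [Finset.mem_insert, Finset.mem_singleton, not_or]
      exact ⟨Ne.symm hil, Ne.symm hjl⟩
    · rw [map_smul]
      exact smul_ne_zero hκ hl
  by_cases hfull : ∃ m, p m x = 0
  · obtain ⟨m, hm⟩ := hfull
    apply short
    obtain ⟨g, hg, hg'⟩ := exists_mem h hG m (hrep m) hgO hgD
    exact ⟨g, hg, by rw [hg' x hm, hgx]⟩
  push Not at hfull
  by_cases hsq : IsSquare (-1 : F)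
  · apply short
    obtain ⟨e, he⟩ := hsq
    have he0 : e ≠ 0 := by
      rintro rfl
      rw [mul_zero] at he
      exact (neg_ne_zero.2 one_ne_zero) he
    refine ⟨_, ⟨hgD, refl_mul_refl_factor hG hQc hQd he0 ?_⟩, hgx⟩
    rw [← he]
    linear_combination hcd
  -- two pairs
  obtain ⟨l', hl'S⟩ := exists_notMem_finset ({i, j, l} : Finset (Fin t))
    (lt_of_le_of_lt Finset.card_le_three (by omega))
  obtain ⟨k, hkS⟩ := exists_notMem_finset ({i, j, l, l'} : Finset (Fin t))
    (lt_of_le_of_lt Finset.card_le_four (by omega))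
  obtain ⟨c', hc', d', hd', hQc', hQd', hcx2, hdx2, hcd2⟩ :=
    HB.exists_pair_sing hq (hef l) (hef l') (h.mem l x) (hns l hl) (h.mem l' x)
      (hns l' (hfull l'))
  simp only [Finset.mem_insert, Finset.mem_singleton, not_or] at hl'S
  obtain ⟨hl'i, hl'j, hl'l⟩ := hl'S
  have o1 : polar Q c c' = 0 := h.orth i l hil c hc c' hc'
  have o2 : polar Q c d' = 0 := h.orth i l' (Ne.symm hl'i) c hc d' hd'
  have o3 : polar Q d c' = 0 := h.orth j l hjl d hd c' hc'
  have o4 : polar Q d d' = 0 := h.orth j l' (Ne.symm hl'j) d hd d' hd'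
  have o5 : polar Q c' d' = 0 := h.orth l l' (Ne.symm hl'l) c' hc' d' hd'
  have hcx2' : polar Q c' x = Q c' := by rw [h.polar_right l x hc', hcx2]
  have hdx2' : polar Q d' x = Q d' := by rw [h.polar_right l' x hd', hdx2]
  have hgE : refl Q c hQc * refl Q d hQd * (refl Q c' hQc' * refl Q d' hQd') ∈ E Q := by
    have hd1 : Q d = -Q c := by linear_combination hcd
    have hd2 : Q d' = -Q c' := by linear_combination hcd2
    by_cases hcc : IsSquare (Q c * Q c')
    · obtain ⟨e, he, hQ⟩ := exists_factor hQc hQc' hcc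
      have e1 : refl Q c hQc * refl Q d hQd * (refl Q c' hQc' * refl Q d' hQd') =
          (refl Q c hQc * refl Q c' hQc') * (refl Q d hQd * refl Q d' hQd') := by
        have := refl_comm (Q := Q) hQd hQc' o3
        calc _ = refl Q c hQc * (refl Q d hQd * refl Q c' hQc') * refl Q d' hQd' := by group
          _ = _ := by rw [this]; group
      rw [e1]
      exact (E Q).mul_mem (refl_mul_refl_factor hG hQc hQc' he hQ)
        (refl_mul_refl_factor hG hQd hQd' he (by rw [hd1, hd2, hQ]; ring))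
    · have hcc' : IsSquare (Q c * Q d') := by
        have := isSquare_mul_of_not hsq hcc
        rw [hd2]
        obtain ⟨r, hr⟩ := this
        exact ⟨r, by rw [← hr]; ring⟩
      obtain ⟨e, he, hQ⟩ := exists_factor hQc hQd' hcc'
      have e1 : refl Q c hQc * refl Q d hQd * (refl Q c' hQc' * refl Q d' hQd') =
          (refl Q d hQd * refl Q c' hQc') * (refl Q c hQc * refl Q d' hQd') := by
        have h1 := refl_comm (Q := Q) hQc hQd hpcd
        have h2 := refl_comm (Q := Q) hQc hQc' o1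
        calc _ = (refl Q c hQc * refl Q d hQd) * refl Q c' hQc' * refl Q d' hQd' := by group
          _ = refl Q d hQd * (refl Q c hQc * refl Q c' hQc') * refl Q d' hQd' := by rw [h1]; group
          _ = _ := by rw [h2]; group
      rw [e1]
      exact (E Q).mul_mem (refl_mul_refl_factor hG hQd hQc' he (by
          rw [hd1]
          linear_combination -hQ + hd2))
        (refl_mul_refl_factor hG hQc hQd' he hQ)
  have hgD' : refl Q c hQc * refl Q d hQd * (refl Q c' hQc' * refl Q d' hQd') ∈ stabFamily D :=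
    (stabFamily D).mul_mem hgD
      ((stabFamily D).mul_mem (h.refl_mem_stabFamily hc' _) (h.refl_mem_stabFamily hd' _))
  have hgx' : (refl Q c hQc * refl Q d hQd * (refl Q c' hQc' * refl Q d' hQd')) x =
      x - (c + d + (c' + d')) := by
    show (refl Q c hQc * refl Q d hQd) (refl Q c' hQc' (refl Q d' hQd' x)) = _
    rw [refl_pair_apply h hd' hQd' hdx2, refl_pair_apply h hc' hQc' (by
      rw [map_sub, h.other l l' (Ne.symm hl'l) d' hd', sub_zero]; exact hcx2)]
    have e2 : (refl Q c hQc * refl Q d hQd) (x - d' - c') =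
        (refl Q c hQc * refl Q d hQd) x - (d' + c') := by
      rw [sub_sub, map_sub, map_add]
      have f1 : (refl Q c hQc * refl Q d hQd) d' = d' := by
        show refl Q c hQc (refl Q d hQd d') = d'
        rw [refl_apply (v := d), o4, mul_zero, zero_smul, sub_zero, refl_apply, o2, mul_zero, zero_smul,
          sub_zero]
      have f2 : (refl Q c hQc * refl Q d hQd) c' = c' := by
        show refl Q c hQc (refl Q d hQd c') = c'
        rw [refl_apply (v := d), o3, mul_zero, zero_smul, sub_zero, refl_apply, o1, mul_zero, zero_smul,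
          sub_zero]
      rw [f1, f2]
    rw [e2, hgx]
    abel
  have hQs : Q (c + d + (c' + d')) = 0 := by
    rw [Q_add, hQcd, Q_add, o5, polar_add_left, polar_add_right, polar_add_right, o1, o2, o3, o4]
    linear_combination hcd2
  have hxs : polar Q (c + d + (c' + d')) x = 0 := by
    rw [polar_add_left, hxcd, polar_add_left, hcx2', hdx2']
    linear_combination hcd2
  -- reduce the support
  have hw := has_of_move h hG hMO hH hx ⟨hgD', hgE⟩ hgx' hQs hxs
  have hps : p i (c + d + (c' + d')) = c := by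
    rw [map_add, map_add, map_add, h.self i c hc, h.other i j hij d hd, h.other i l hil c' hc',
      h.other i l' (Ne.symm hl'i) d' hd', add_zero, add_zero, add_zero]
  have hpsj : p j (c + d + (c' + d')) = d := by
    rw [map_add, map_add, map_add, h.self j d hd, h.other j i hij.symm c hc, h.other j l hjl c' hc',
      h.other j l' (Ne.symm hl'j) d' hd', add_zero, add_zero, zero_add]
  simp only [Finset.mem_insert, Finset.mem_singleton, not_or] at hkS
  have hpk : p k (c + d + (c' + d')) = 0 := by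
    rw [map_add, hpix k hkS.1 hkS.2.1, map_add, h.other k l hkS.2.2.1 c' hc',
      h.other k l' hkS.2.2.2 d' hd', add_zero, add_zero]
  have hwk : p k ((-(Q x)⁻¹) • x) ≠ 0 := by
    rw [map_smul]
    exact smul_ne_zero hκ (hfull k)
  have hd1 : Q d = -Q c := by linear_combination hcd
  obtain ⟨e, he, hQe1, hec, -⟩ := exists_perp (hef i) hc hQc
  obtain ⟨e', he', hQe1', hed, -⟩ := exists_perp (hef j) hd hQd
  by_cases h1 : polar Q e (p i x) = 0
  · by_cases h2 : polar Q e' (p j x) = 0
    · -- short case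
      apply short
      have hQe : Q e ≠ 0 := by rw [hQe1]; exact neg_ne_zero.2 hQc
      have hQe' : Q e' ≠ 0 := by rw [hQe1']; exact neg_ne_zero.2 hQd
      have fe : refl Q e hQe x = x := by
        rw [refl_apply, h.polar_right i x he, h1, mul_zero, zero_smul, sub_zero]
      have fe' : refl Q e' hQe' x = x := by
        rw [refl_apply, h.polar_right j x he', h2, mul_zero, zero_smul, sub_zero]
      have ce : refl Q d hQd * refl Q e' hQe' = refl Q e' hQe' * refl Q d hQd :=
        refl_comm (Q := Q) hQd hQe' (by rw [polar_comm]; exact hed)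
      have g1 : refl Q c hQc * refl Q e' hQe' ∈ E Q :=
        refl_mul_refl_factor hG hQc hQe' one_ne_zero (by rw [hQe1', hd1]; ring)
      have g2 : refl Q e hQe * refl Q d hQd ∈ E Q :=
        refl_mul_refl_factor hG hQe hQd one_ne_zero (by rw [hQe1, hd1]; ring)
      refine ⟨(refl Q c hQc * refl Q e' hQe') * (refl Q e hQe * refl Q d hQd),
        ⟨(stabFamily D).mul_mem ((stabFamily D).mul_mem (h.refl_mem_stabFamily hc _)
          (h.refl_mem_stabFamily he' _)) ((stabFamily D).mul_mem (h.refl_mem_stabFamily he _)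
          (h.refl_mem_stabFamily hd _)), (E Q).mul_mem g1 g2⟩, ?_⟩
      show refl Q c hQc (refl Q e' hQe' (refl Q e hQe (refl Q d hQd x))) = _
      have k1 : refl Q e hQe (x - d) = x - d := by
        rw [map_sub, fe, refl_apply (v := e), h.orth i j hij e he d hd, mul_zero, zero_smul, sub_zero]
      have k2 : refl Q e' hQe' (x - d) = x - d := by
        rw [map_sub, fe', refl_apply (v := e'), hed, mul_zero, zero_smul, sub_zero]
      rw [refl_pair_apply h hd hQd hdx, k1, k2,
        refl_pair_apply h hc hQc (by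
          rw [map_sub, h.other i j hij d hd, sub_zero]; exact hcx)]
      abel
    · refine exists_short hq hG h hD' hMO hH hsq (i := j) (j := i) (k := k) hij.symm
        (Ne.symm hkS.2.1) (Ne.symm hkS.1) hpk (by rw [hpsj]; exact hQd)
        (by rw [hps, hpsj, hd1, neg_neg]) hw hwk (e := e') he' (by rw [hpsj]; exact hed)
        (by rw [hpsj]; exact hQe1') ?_
      rw [map_smul, polar_smul_right]
      exact mul_ne_zero hκ h2
  · refine exists_short hq hG h hD' hMO hH hsq (i := i) (j := j) (k := k) hij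
      (Ne.symm hkS.1) (Ne.symm hkS.2.1) hpk (by rw [hps]; exact hQc)
      (by rw [hps, hpsj, hd1]) hw hwk (e := e) he (by rw [hps]; exact hec)
      (by rw [hps]; exact hQe1) ?_
    rw [map_smul, polar_smul_right]
    exact mul_ne_zero hκ h1

/-- **Non-rigid overgroups contain `E Q`**, at least five members. -/
theorem E_le_of_not_rigid (hq : 7 ≤ Nat.card F) (hG : Good Q) (h : Dec Q D p)
    (hD : ∀ i, ∃ e f, HB Q (D i) e f)
    (hiso : ∀ i j, ∃ e : D i ≃ₗ[F] D j, ∀ z : D i, Q (e z : V) = Q (z : V))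
    (ht : 5 ≤ t) (hMO : M ≤ O Q) (hH : stabFamily D ⊓ E Q ≤ M) (hR : ¬ Rigid Q D M) : E Q ≤ M := by
  classical
  obtain ⟨x, hx, hxD⟩ : ∃ x, Linked Q D M x ∧ ∀ i, x ∉ D i := by
    unfold Rigid at hR
    push Not at hR
    obtain ⟨i, a, ha, hQa, x, hQx, hM, hx⟩ := hR
    exact ⟨x, ⟨hQx, i, a, ha, hQa, hM⟩, hx⟩
  by_cases hns : ∀ i, p i x ≠ 0 → Q (p i x) ≠ 0
  swap
  · push Not at hns
    obtain ⟨i, hi, hQi⟩ := hns
    exact E_le_of_sing_comp hq hG h hD hiso (by omega) hMO hH hx hi hQi
  obtain ⟨x', hx', i₁, i₂, i₃, h12, h13, h23, hc1, hc2, hc3⟩ :=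
    exists_three hq hG h hD hiso (by omega) hMO hH hx hxD hns
  by_cases hns' : ∀ i, p i x' ≠ 0 → Q (p i x') ≠ 0
  swap
  · push Not at hns'
    obtain ⟨i, hi, hQi⟩ := hns'
    exact E_le_of_sing_comp hq hG h hD hiso (by omega) hMO hH hx' hi hQi
  obtain ⟨s, w, hs0, hsw, S, hS, hpS, a, haS, haw⟩ :=
    exists_siegel2 hq hG h hD (by omega) hMO hH hx' hns' h12 h13 h23 hc1 hc2 hc3
  obtain ⟨b, hb⟩ := exists_notMem_finset (insert a S)
    (lt_of_le_of_lt (Finset.card_insert_le _ _) (by omega))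
  simp only [Finset.mem_insert, not_or] at hb
  have hA : ∀ w ∈ D a, Has Q M s w := fun w hw =>
    has_member hq hG h hD hMO hH (Ne.symm hb.1) (hpS a haS) (hpS b hb.2) hsw haw hw
  obtain ⟨e, f, hef⟩ := hD a
  have h1 := (hA e hef.he).swap hef.Qe
  refine E_le_of_has hq hG h hD hiso (by omega) hMO hH hef.he hef.e_ne h1 ?_
  intro c hc
  have h2 := congrArg (p a) hc
  rw [map_neg, hpS a haS, neg_zero, map_smul, h.self a e hef.he] at h2
  have h3 := (smul_eq_zero.1 h2.symm).resolve_right hef.e_ne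
  rw [h3, zero_smul, neg_eq_zero] at hc
  exact hs0 hc

end Planes

end Cfsg.Agent.H953.HypFive
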