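import Mathlib

/-!
# Good primes of the classical groups: automizers and Sylow subgroups (helper953, project S5734)

* `aut_le` : in a quotient of a linear group of degree `d` by a central subgroup of exponent two, a subgroup of odd
  prime order `u` (not the characteristic) has automizer of order at most `d`;
* `cyc_of_inj` : a cyclic `u`-subgroup of order at least `|T|_u`.
-/

set_option autoImplicit false

namespace Cfsg.Agent.H953.Dp

open Subgroup Polynomial

section eig

variable {K : Type*} [Field K] {ι : Type*} [Fintype ι] [DecidableEq ι]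

/-- a matrix of prime order has an eigenvalue of this order -/
theorem exists_eig [IsAlgClosed K] {u : ℕ} (hu : u.Prime) (hF : (u : K) ≠ 0) {M : Matrix ι ι K} (hM : M ^ u = 1)
    (h1 : M ≠ 1) : ∃ ζ : K, orderOf ζ = u ∧ ∃ v : ι → K, v ≠ 0 ∧ M.mulVec v = ζ • v := by
  have := Fact.mk hu
  have hd : minpoly K M ∣ X ^ u - 1 := minpoly.dvd K M (by simp [hM])
  have hsep : (X ^ u - 1 : K[X]).Separable := by
    rw [X_pow_sub_one_separable_iff]
    exact hF
  have hs : (minpoly K M).Separable := hsep.of_dvd hd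
  have hm : (minpoly K M).Monic := minpoly.monic (Matrix.isIntegral M)
  have hroot : ∃ ζ : K, (minpoly K M).IsRoot ζ ∧ ζ ≠ 1 := by
    by_contra hcon
    push Not at hcon
    apply h1
    have hle : (minpoly K M).roots ≤ {1} := by
      rw [Multiset.le_iff_subset (nodup_roots hs)]
      intro r hr
      rw [Multiset.mem_singleton]
      exact hcon r (isRoot_of_mem_roots hr)
    have hp : minpoly K M ∣ X - C 1 := by
      have h2 := (IsAlgClosed.splits (minpoly K M)).eq_prod_roots_of_monic hm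
      rw [h2]
      have h3 := Multiset.prod_dvd_prod_of_le (Multiset.map_le_map (f := fun a : K => X - C a) hle)
      rwa [Multiset.map_singleton, Multiset.prod_singleton] at h3
    have h4 : aeval M (X - C (1 : K)) = 0 := by
      obtain ⟨g, hg⟩ := hp
      rw [hg, map_mul, minpoly.aeval, zero_mul]
    rw [map_sub, aeval_X, aeval_C, map_one] at h4
    exact sub_eq_zero.1 h4
  obtain ⟨ζ, hζ, hζ1⟩ := hroot
  refine ⟨ζ, ?_, ?_⟩
  · have h5 : ζ ^ u = 1 := by
      have h6 : (X ^ u - 1 : K[X]).IsRoot ζ := hζ.dvd hd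
      simpa [IsRoot, sub_eq_zero] using h6
    exact orderOf_eq_prime_iff.2 ⟨h5, hζ1⟩
  · have h7 : (minpoly K (Matrix.toLin' M)).IsRoot ζ := by rwa [Matrix.minpoly_toLin']
    obtain ⟨v, hv⟩ := (Module.End.hasEigenvalue_of_isRoot h7).exists_hasEigenvector
    refine ⟨v, hv.2, ?_⟩
    have h8 := hv.apply_eq_smul
    rwa [Matrix.toLin'_apply] at h8

/-- the eigenvalues -/
def eigs (M : Matrix ι ι K) : Set K := {ζ | ∃ v : ι → K, v ≠ 0 ∧ M.mulVec v = ζ • v}

theorem eigs_sub (M : Matrix ι ι K) : eigs M ⊆ {ζ | ζ ∈ M.charpoly.roots} := by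
  rintro ζ ⟨v, hv, h⟩
  have h1 : Module.End.HasEigenvalue (Matrix.toLin' M) ζ :=
    Module.End.hasEigenvalue_of_hasEigenvector (x := v)
      ⟨Module.End.mem_eigenspace_iff.2 (by rwa [Matrix.toLin'_apply]), hv⟩
  rw [Module.End.hasEigenvalue_iff_isRoot_charpoly, Matrix.charpoly_toLin'] at h1
  exact (mem_roots (Matrix.charpoly_monic M).ne_zero).2 h1

theorem eigs_card [DecidableEq K] (M : Matrix ι ι K) : (eigs M).Finite ∧ Nat.card (eigs M) ≤ Fintype.card ι := by
  have h1 : (eigs M) ⊆ (M.charpoly.roots.toFinset : Set K) := by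
    intro ζ hζ
    rw [Finset.mem_coe, Multiset.mem_toFinset]
    exact eigs_sub M hζ
  have hfin : (eigs M).Finite := (Finset.finite_toSet _).subset h1
  refine ⟨hfin, ?_⟩
  have h2 := Nat.card_mono (Finset.finite_toSet M.charpoly.roots.toFinset) h1
  refine h2.trans ?_
  have h3 : Nat.card (M.charpoly.roots.toFinset : Set K) = M.charpoly.roots.toFinset.card := by
    rw [Nat.card_coe_set_eq, Set.ncard_coe_finset]
  rw [h3]
  refine (Multiset.toFinset_card_le _).trans ((card_roots' _).trans ?_)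
  rw [Matrix.charpoly_natDegree_eq_dim]

theorem pow_mulVec {M : Matrix ι ι K} {ζ : K} {v : ι → K} (h : M.mulVec v = ζ • v) (k : ℕ) :
    (M ^ k).mulVec v = ζ ^ k • v := by
  induction k with
  | zero => simp
  | succ k ih =>
    rw [pow_succ', ← Matrix.mulVec_mulVec, ih, Matrix.mulVec_smul, h, smul_smul, pow_succ]

/-- powers of eigenvalues of a matrix conjugate to a power -/
theorem eigs_conj {M : Matrix ι ι K} {ζ : K} (h : ζ ∈ eigs M) {k : ℕ} (g : Matrix.GeneralLinearGroup ι K)
    (hg : (g : Matrix ι ι K) * M = M ^ k * (g : Matrix ι ι K)) : ζ ^ k ∈ eigs M := by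
  obtain ⟨v, hv, h⟩ := h
  have hk := pow_mulVec h k
  have h2 : ((g⁻¹ : Matrix.GeneralLinearGroup ι K) : Matrix ι ι K) * (g : Matrix ι ι K) = 1 := by
    rw [← Units.val_mul, inv_mul_cancel, Units.val_one]
  have h3 : (g : Matrix ι ι K) * ((g⁻¹ : Matrix.GeneralLinearGroup ι K) : Matrix ι ι K) = 1 := by
    rw [← Units.val_mul, mul_inv_cancel, Units.val_one]
  refine ⟨((g⁻¹ : Matrix.GeneralLinearGroup ι K) : Matrix ι ι K).mulVec v, fun h0 => hv ?_, ?_⟩
  · have h4 := congrArg (fun w => (g : Matrix ι ι K).mulVec w) h0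
    simpa [Matrix.mulVec_mulVec, h3] using h4
  · have h5 : M * ((g⁻¹ : Matrix.GeneralLinearGroup ι K) : Matrix ι ι K) =
        ((g⁻¹ : Matrix.GeneralLinearGroup ι K) : Matrix ι ι K) * M ^ k := by
      calc M * ((g⁻¹ : Matrix.GeneralLinearGroup ι K) : Matrix ι ι K)
          = ((g⁻¹ : Matrix.GeneralLinearGroup ι K) : Matrix ι ι K) * ((g : Matrix ι ι K) * M) *
            ((g⁻¹ : Matrix.GeneralLinearGroup ι K) : Matrix ι ι K) := by
              rw [← mul_assoc, h2, one_mul]
        _ = ((g⁻¹ : Matrix.GeneralLinearGroup ι K) : Matrix ι ι K) * M ^ k := by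
              rw [hg, mul_assoc, mul_assoc, h3, mul_one]
    rw [Matrix.mulVec_mulVec, h5, ← Matrix.mulVec_mulVec, hk, Matrix.mulVec_smul]

end eig

section aut

variable {F : Type*} [Field F] {ι : Type*} [Fintype ι] [DecidableEq ι]

/-- **automizers** -/
theorem aut_le {L T : Type*} [Group L] [Group T] (π : L →* T) (hπ : Function.Surjective π)
    (hk : ∀ z, π z = 1 → z ∈ center L ∧ z * z = 1) (σ : L →* Matrix.GeneralLinearGroup ι F)
    (hσ : Function.Injective σ) {u : ℕ} (hu : u.Prime) (hu2 : u ≠ 2) (hF : (u : F) ≠ 0) (x : T)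
    (hx : orderOf x = u) :
    (centralizer ({x} : Set T)).relIndex (normalizer (zpowers x : Set T)) ≤ Fintype.card ι := by
  classical
  have := Fact.mk hu
  obtain ⟨hx1, hx2⟩ := orderOf_eq_prime_iff.1 hx
  -- the lift
  obtain ⟨y, hy, hyu⟩ : ∃ y, π y = x ∧ y ^ u = 1 := by
    obtain ⟨y, hy⟩ := hπ x
    obtain ⟨r, hr⟩ := hu.odd_of_ne_two hu2
    refine ⟨y ^ (u + 1), by rw [map_pow, hy, pow_succ, hx1, one_mul], ?_⟩
    have h1 : y ^ u * y ^ u = 1 := (hk (y ^ u) (by rw [map_pow, hy, hx1])).2
    rw [← pow_mul, mul_comm, pow_mul, show u + 1 = 2 * (r + 1) by omega, pow_mul, pow_two, h1, one_pow]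
  have hlift : ∀ n : L, ∀ k : ℕ, π n * x * (π n)⁻¹ = x ^ k → n * y * n⁻¹ = y ^ k := by
    intro n k h
    have h1 : π (n * y * n⁻¹ * (y ^ k)⁻¹) = 1 := by
      simp only [map_mul, map_inv, map_pow, hy, h, mul_inv_cancel]
    obtain ⟨h2, h3⟩ := hk _ h1
    set z := n * y * n⁻¹ * (y ^ k)⁻¹ with hz
    have h4 : n * y * n⁻¹ = z * y ^ k := by rw [hz]; group
    have h5 : Commute z (y ^ k) := (mem_center_iff.1 h2 (y ^ k)).symm
    have h6 : z ^ u = 1 := by
      have h7 := congrArg (· ^ u) h4
      simp only [h5.mul_pow] at h7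
      rw [← MulAut.conj_apply, ← map_pow, hyu, map_one, ← pow_mul, mul_comm k u, pow_mul, hyu, one_pow, mul_one] at h7
      exact h7.symm
    have h8 : z = 1 := by
      obtain ⟨r, hr⟩ := hu.odd_of_ne_two hu2
      rw [hr, pow_succ, pow_mul, pow_two, h3, one_pow, one_mul] at h6
      exact h6
    rw [h4, h8, one_mul]
  -- the matrix
  let K := AlgebraicClosure F
  let τ : L →* Matrix.GeneralLinearGroup ι K :=
    (Matrix.GeneralLinearGroup.map (algebraMap F K)).comp σ
  have hτ : Function.Injective τ := by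
    have hinj : Function.Injective (Matrix.GeneralLinearGroup.map (n := ι) (algebraMap F K)) := by
      intro a b hab
      apply Units.ext
      ext i j
      have h1 := congrArg (fun M : Matrix.GeneralLinearGroup ι K => (M : Matrix ι ι K) i j) hab
      simp only [Matrix.GeneralLinearGroup.map_apply] at h1
      exact (algebraMap F K).injective h1
    exact hinj.comp hσ
  set M : Matrix ι ι K := (τ y : Matrix ι ι K) with hMdef
  have hM : M ^ u = 1 := by
    rw [hMdef, ← Units.val_pow_eq_pow_val, ← map_pow, hyu, map_one, Units.val_one]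
  have hM1 : M ≠ 1 := by
    intro h
    apply hx2
    rw [← hy]
    have h1 : τ y = τ 1 := by
      rw [map_one]
      exact Units.ext h
    rw [hτ h1, map_one]
  have hFK : (u : K) ≠ 0 := by
    intro h
    apply hF
    apply (algebraMap F K).injective
    rw [map_natCast, h, map_zero]
  obtain ⟨ζ, hζu, hζ⟩ := exists_eig hu hFK hM hM1
  have hζe : ζ ∈ eigs M := hζ
  -- the exponents
  have hex : ∀ n : ↥(normalizer (zpowers x : Set T)), ∃ k : ℕ, (n : T) * x * (n : T)⁻¹ = x ^ k := by
    rintro ⟨n, hn⟩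
    have h1 : n * x * n⁻¹ ∈ zpowers x := (mem_normalizer_iff.1 hn x).1 (mem_zpowers x)
    have hfin : IsOfFinOrder x := by
      rw [← orderOf_pos_iff, hx]
      exact hu.pos
    obtain ⟨k, hk⟩ := (hfin.mem_powers_iff_mem_zpowers).2 h1
    exact ⟨k, hk.symm⟩
  choose κ hκ using hex
  have hmem : ∀ n, ζ ^ κ n ∈ eigs M := by
    intro n
    obtain ⟨m, hm⟩ := hπ (n : T)
    have h1 := hlift m (κ n) (by rw [hm]; exact hκ n)
    refine eigs_conj hζe (τ m) ?_
    rw [hMdef, ← Units.val_pow_eq_pow_val, ← Units.val_mul, ← Units.val_mul, ← map_pow, ← map_mul, ← map_mul]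
    congr 2
    rw [← h1]
    group
  obtain ⟨hfin, hcard⟩ := eigs_card M
  have hfin' : Finite (eigs M) := hfin
  let C := (centralizer ({x} : Set T)).subgroupOf (normalizer (zpowers x : Set T))
  let f : (↥(normalizer (zpowers x : Set T)) ⧸ C) → eigs M := fun q => ⟨ζ ^ κ q.out, hmem _⟩
  have hf : Function.Injective f := by
    intro a b hab
    have h1 : ζ ^ κ a.out = ζ ^ κ b.out := congrArg Subtype.val hab
    have h2 : x ^ κ a.out = x ^ κ b.out := by
      rw [← pow_mod_orderOf, ← pow_mod_orderOf ζ (κ b.out)] at h1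
      have h4 := pow_injOn_Iio_orderOf (Nat.mod_lt _ (by rw [hζu]; exact hu.pos))
        (Nat.mod_lt _ (by rw [hζu]; exact hu.pos)) h1
      rw [hζu] at h4
      rw [pow_eq_pow_iff_modEq, hx]
      exact h4
    have h3 := (hκ a.out).trans (h2.trans (hκ b.out).symm)
    rw [← QuotientGroup.out_eq' a, ← QuotientGroup.out_eq' b, QuotientGroup.eq, mem_subgroupOf,
      mem_centralizer_singleton_iff]
    change ((a.out : T)⁻¹ * (b.out : T)) * x = x * ((a.out : T)⁻¹ * (b.out : T))
    calc ((a.out : T)⁻¹ * (b.out : T)) * x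
        = (a.out : T)⁻¹ * ((b.out : T) * x * (b.out : T)⁻¹) * (b.out : T) := by group
      _ = (a.out : T)⁻¹ * ((a.out : T) * x * (a.out : T)⁻¹) * (b.out : T) := by rw [h3]
      _ = x * ((a.out : T)⁻¹ * (b.out : T)) := by group
  exact (Nat.card_le_card_of_injective f hf).trans hcard

end aut

section syl

/-- a cyclic `u`-subgroup of order at least `|T|_u` -/
theorem cyc_of_inj {S T : Type*} [Group S] [Group T] [Finite T] {u : ℕ} [hu : Fact u.Prime] (ψ : S →* T)
    (hψ : Function.Injective ψ) (hS : IsCyclic S) (hp : IsPGroup u S)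
    (hc : u ^ (Nat.card T).factorization u ≤ Nat.card S) (P : Sylow u T) : IsCyclic ↥(P : Subgroup T) := by
  have hrp : IsPGroup u ψ.range := hp.of_surjective ψ.rangeRestrict ψ.rangeRestrict_surjective
  obtain ⟨R, hR⟩ := hrp.exists_le_sylow
  have hcr : Nat.card ψ.range = Nat.card S := Nat.card_congr (ψ.ofInjective hψ).toEquiv.symm
  have hSr : (R : Subgroup T) = ψ.range := by
    symm
    apply Subgroup.eq_of_le_of_card_ge hR
    rw [hcr, R.card_eq_multiplicity]
    exact hc
  have hSc : IsCyclic R := by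
    rw [hSr]
    exact isCyclic_of_surjective ψ.rangeRestrict ψ.rangeRestrict_surjective
  exact isCyclic_of_surjective (R.equiv P).toMonoidHom (R.equiv P).surjective

end syl

end Cfsg.Agent.H953.Dp
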