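import Cfsg.Agent.H953.DpA
import Cfsg.Agent.H192.Dp.Res
import Cfsg.Agent.H948.OnCyc
import Cfsg.Agent.H376.WordEmb
import Cfsg.Agent.ClassicalGeometry.PSL2Basic

/-!
# Good primes of the classical groups: a general criterion (helper953, project S5734)
-/

set_option autoImplicit false

namespace Cfsg.Agent.H953.Dp

open Subgroup Cfsg.Agent.H192.Dp

section arith

variable {u q e : ℕ} [hu : Fact u.Prime]

theorem ne_two (he3 : 3 ≤ e) (he : orderOf ((q : ℕ) : ZMod u) = e) : u ≠ 2 := by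
  rintro rfl
  have h : ∀ a : ZMod 2, orderOf a ≤ 1 := by
    intro a
    fin_cases a
    · have : orderOf (0 : ZMod 2) = 0 := by
        rw [orderOf_eq_zero_iff, isOfFinOrder_iff_pow_eq_one]
        rintro ⟨n, hn, h⟩
        rw [zero_pow hn.ne'] at h
        exact zero_ne_one h
      exact this.le.trans zero_le_one
    · exact (orderOf_one (G := ZMod 2)).le
  have := h ((q : ℕ) : ZMod 2)
  omega

theorem not_dvd_q (he3 : 3 ≤ e) (he : orderOf ((q : ℕ) : ZMod u) = e) : ¬ u ∣ q := by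
  intro h
  rw [(ZMod.natCast_eq_zero_iff q u).2 h] at he
  have : orderOf (0 : ZMod u) = 0 := by
    rw [orderOf_eq_zero_iff, isOfFinOrder_iff_pow_eq_one]
    rintro ⟨n, hn, h⟩
    rw [zero_pow hn.ne'] at h
    exact zero_ne_one h
  omega

theorem pow_sub_ne (hq : 2 ≤ q) {i : ℕ} (hi : 1 ≤ i) : q ^ i - 1 ≠ 0 := by
  have := Nat.one_lt_pow (show i ≠ 0 by omega) (show 1 < q by omega)
  omega

/-- the product -/
theorem val_prod (hq : 2 ≤ q) {n j : ℕ} (hj : 1 ≤ j)
    (h : ∀ i, 1 ≤ i → i ≤ n → u ∣ q ^ (2 * i) - 1 → i = j) :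
    padicValNat u (∏ i ∈ Finset.range n, (q ^ (2 * (i + 1)) - 1)) =
      if j ≤ n then padicValNat u (q ^ (2 * j) - 1) else 0 := by
  induction n with
  | zero =>
    rw [Finset.range_zero, Finset.prod_empty, padicValNat_one_right, if_neg (by omega)]
  | succ n ih =>
    have h1 : ∏ i ∈ Finset.range n, (q ^ (2 * (i + 1)) - 1) ≠ 0 :=
      Finset.prod_ne_zero_iff.2 fun i _ => pow_sub_ne hq (by omega)
    rw [Finset.prod_range_succ, padicValNat.mul h1 (pow_sub_ne hq (by omega)),
      ih fun i h2 h3 => h i h2 (by omega)]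
    by_cases h2 : n + 1 = j
    · subst h2
      rw [if_neg (by omega), if_pos le_rfl, zero_add]
    · have h3 : padicValNat u (q ^ (2 * (n + 1)) - 1) = 0 :=
        padicValNat.eq_zero_of_not_dvd fun h4 => h2 (h (n + 1) (by omega) le_rfl h4)
      rw [h3, add_zero]
      by_cases h4 : j ≤ n
      · rw [if_pos h4, if_pos (by omega)]
      · rw [if_neg h4, if_neg (by omega)]

theorem val_double (hq : 2 ≤ q) (hu2 : u ≠ 2) {k : ℕ} (hk : 1 ≤ k) (h : u ∣ q ^ k - 1) :
    padicValNat u (q ^ (2 * k) - 1) = padicValNat u (q ^ k - 1) := by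
  have h1 : q ^ (2 * k) - 1 = (q ^ k - 1) * (q ^ k + 1) := by
    have h2 := Nat.sq_sub_sq (q ^ k) 1
    rw [one_pow, ← pow_mul, mul_comm k 2] at h2
    rw [h2, mul_comm]
  rw [h1, padicValNat.mul (pow_sub_ne hq hk) (by positivity)]
  have h3 : ¬ u ∣ q ^ k + 1 := by
    intro h4
    have h5 : u ∣ (q ^ k + 1) - (q ^ k - 1) := Nat.dvd_sub h4 h
    have h6 : 1 ≤ q ^ k := Nat.one_le_pow _ _ (by omega)
    have h7 : (q ^ k + 1) - (q ^ k - 1) = 2 := by omega
    rw [h7] at h5
    exact hu2 ((Nat.prime_dvd_prime_iff_eq hu.out Nat.prime_two).1 h5)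
  rw [padicValNat.eq_zero_of_not_dvd h3, add_zero]

/-- factors `k` and `n` -/
theorem val_of_eq {d c a x P : ℕ} (hd : ¬ u ∣ d) (hd0 : d ≠ 0) (hc : c ≠ 0) (hqu : ¬ u ∣ q) (hq : 2 ≤ q) (hx : x ≠ 0)
    (hP : P ≠ 0) (h : d * c = q ^ a * (x * P)) : c.factorization u = padicValNat u x + padicValNat u P := by
  have h1 := congrArg (padicValNat u) h
  rw [padicValNat.mul hd0 hc, padicValNat.mul (by positivity) (mul_ne_zero hx hP), padicValNat.mul hx hP,
    padicValNat.eq_zero_of_not_dvd hd, padicValNat.eq_zero_of_not_dvd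
      (fun h2 => hqu (hu.out.dvd_of_dvd_pow h2)), zero_add, zero_add] at h1
  rw [Nat.factorization_def _ hu.out, h1]

end arith

section crit

variable {F : Type*} [Field F] [Fintype F] {ι : Type*} [Fintype ι] [DecidableEq ι]

/-- `|SL_k(q)|_u` is at least `(q^e - 1)_u` -/
theorem val_SL {u e k : ℕ} [hu : Fact u.Prime] (h0 : 0 < e) (hek : e ≤ k) (hu1 : ¬ u ∣ Fintype.card F - 1) :
    padicValNat u (Fintype.card F ^ e - 1) ≤
      (Nat.card (Matrix.SpecialLinearGroup (Fin k) F)).factorization u := by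
  rw [Nat.factorization_def _ hu.out]
  refine (padicValNat_dvd_iff_le (p := u) Nat.card_pos.ne').1 ?_
  have : Nonempty (Fin k) := ⟨⟨0, by omega⟩⟩
  have h1 := Cfsg.Agent.ClassicalGeometry.PSL2Basic.card_SL_mul (n := Fin k) (F := F)
  have h2 : Nat.Coprime (u ^ padicValNat u (Fintype.card F ^ e - 1)) (Fintype.card F - 1) :=
    Nat.Coprime.pow_left _ ((Nat.Prime.coprime_iff_not_dvd hu.out).2 hu1)
  refine h2.dvd_of_dvd_mul_right ?_
  rw [h1, Matrix.card_GL_field]
  refine pow_padicValNat_dvd.trans ?_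
  refine dvd_trans ?_ (Finset.dvd_prod_of_mem _ (Finset.mem_univ (⟨k - e, by omega⟩ : Fin k)))
  have h3 : Fintype.card F ^ k - Fintype.card F ^ (k - e) =
      Fintype.card F ^ (k - e) * (Fintype.card F ^ e - 1) := by
    rw [Nat.mul_sub, mul_one, ← pow_add, Nat.sub_add_cancel hek]
  rw [h3]
  exact dvd_mul_left _ _

/-- **criterion** -/
theorem goodP_gen {L T : Type*} [Group L] [Group T] [Finite T] (π : L →* T) (hπ : Function.Surjective π)
    (hk : ∀ z, π z = 1 → z ∈ center L ∧ z * z = 1) (σ : L →* Matrix.GeneralLinearGroup ι F)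
    (hσ : Function.Injective σ) {u e : ℕ} (hu : u.Prime) (he3 : 3 ≤ e)
    (he : orderOf ((Fintype.card F : ℕ) : ZMod u) = e) (hdvd : u ∣ Nat.card T)
    (hc : Fintype.card ι < 2 * e ∨ ∃ k, e ≤ k ∧ k < 2 * e ∧
      (∃ φ : Matrix.SpecialLinearGroup (Fin k) F →* L, Function.Injective φ) ∧
      (Nat.card T).factorization u ≤ padicValNat u (Fintype.card F ^ e - 1)) : GoodP T u (Fintype.card ι) := by
  classical
  have := Fact.mk hu
  have hu2 := ne_two he3 he
  have huq := not_dvd_q he3 he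
  have hq : 2 ≤ Fintype.card F := Fintype.one_lt_card
  have hd := Cfsg.Agent.H948.OnPO.dvd_iff (p := u) (q := Fintype.card F) (by omega) he
  have hF : (u : F) ≠ 0 := by
    intro h
    apply huq
    obtain ⟨n, hp, hn⟩ := FiniteField.card F (ringChar F)
    have h1 : ringChar F ∣ u := (ringChar.spec F u).1 h
    have h2 : ringChar F = u := (Nat.prime_dvd_prime_iff_eq hp hu).1 h1
    rw [hn, h2]
    exact dvd_pow_self u n.pos.ne'
  have hfinL : Finite L := Finite.of_injective σ hσ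
  refine ⟨hu, fun P => ?_, hdvd, fun x hx => aut_le π hπ hk σ hσ hu hu2 hF x hx⟩
  rcases hc with hc | ⟨k, hek, hke, ⟨φ, hφ⟩, hv⟩
  · exact H124.LinCyc.isCyclic_sylow_of_gl hu2 (by omega) hd hc σ hσ π hπ P
  · obtain ⟨S⟩ : Nonempty (Sylow u (Matrix.SpecialLinearGroup (Fin k) F)) := inferInstance
    have hS : IsCyclic S := H124.LinCyc.isCyclic_of_gl (F := F) (ι := Fin k) (e := e) hu2 (by omega) hd
      (by rw [Fintype.card_fin]; omega) S.isPGroup'
      ((Matrix.SpecialLinearGroup.toGL).comp (S : Subgroup (Matrix.SpecialLinearGroup (Fin k) F)).subtype)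
      (Matrix.SpecialLinearGroup.toGL_injective.comp (Subgroup.subtype_injective _))
    have hodd : ∀ x : ↥(S : Subgroup (Matrix.SpecialLinearGroup (Fin k) F)), x * x = 1 → x = 1 := by
      intro x hx
      obtain ⟨r, hr⟩ := S.isPGroup' x
      obtain ⟨j, hj⟩ : Odd (u ^ r) := (hu.odd_of_ne_two hu2).pow
      rw [hj, pow_succ, pow_mul, pow_two, hx, one_pow, one_mul] at hr
      exact hr
    let ψ : ↥(S : Subgroup (Matrix.SpecialLinearGroup (Fin k) F)) →* T :=
      π.comp (φ.comp (S : Subgroup (Matrix.SpecialLinearGroup (Fin k) F)).subtype)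
    have hψ : Function.Injective ψ := by
      rw [injective_iff_map_eq_one]
      intro x hx
      apply hodd
      apply Subtype.val_injective
      apply hφ
      rw [Subgroup.coe_mul, map_mul, Subgroup.coe_one, map_one]
      exact (hk _ hx).2
    refine cyc_of_inj ψ hψ hS S.isPGroup' ?_ P
    rw [S.card_eq_multiplicity]
    refine Nat.pow_le_pow_right hu.pos (hv.trans (val_SL (by omega) hek ?_))
    intro h
    have h1 : u ∣ Fintype.card F ^ 1 - 1 := by rwa [pow_one]
    have h2 := Nat.le_of_dvd (by norm_num) ((hd 1).1 h1)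
    omega

end crit

end Cfsg.Agent.H953.Dp
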