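import Cfsg.Agent.H777.M5.Elim5Def
import Cfsg.Agent.H109.ROrthA
import Cfsg.Agent.H828.OrthTool
import Cfsg.Agent.LieClassical.OmegaCenter
import Cfsg.Agent.H376.WordEmb
import Cfsg.Agent.S0300

/-!
# Abelian 5-subgroups of orthogonal groups (helper953, task 2153, S5232)

`Cm r G` : the commutator subgroup of `G` contains an abelian subgroup of order `5 ^ r`.
-/

set_option autoImplicit false

namespace Cfsg.Agent.H953.Five

open Matrix Subgroup Cfsg.Agent.H423.PGOrth Cfsg.Agent.H777.Elim5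
open Cfsg (POmega Omega quadFormOdd quadFormPlus quadFormMinus isometryGroup)
open scoped commutatorElement

local notation "S2" => Matrix.SpecialLinearGroup (Fin 2)
local notation "P2" => Matrix.ProjectiveSpecialLinearGroup (Fin 2)

section abs

/-- an abelian subgroup of order `5 ^ r` of the commutator subgroup -/
def Cm (r : ℕ) (G : Type*) [Group G] : Prop :=
  ∃ A : Subgroup G, A ≤ commutator G ∧ (∀ x ∈ A, ∀ y ∈ A, x * y = y * x) ∧ Nat.card A = 5 ^ r

theorem Cm.zero (G : Type*) [Group G] : Cm 0 G := by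
  refine ⟨⊥, bot_le, ?_, by simp⟩
  intro x hx y hy
  rw [Subgroup.mem_bot] at hx hy
  rw [hx, hy]

theorem comm_map {G H : Type*} [Group G] [Group H] (f : G →* H) : (commutator G).map f ≤ commutator H := by
  rw [commutator_def, commutator_def, Subgroup.map_commutator]
  exact Subgroup.commutator_mono le_top le_top

theorem Cm.map {r : ℕ} {G H : Type*} [Group G] [Group H] (f : G →* H) (hf : Function.Injective f) (h : Cm r G) :
    Cm r H := by
  obtain ⟨A, hc, hA, hA'⟩ := h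
  refine ⟨A.map f, (Subgroup.map_mono hc).trans (comm_map f), ?_, ?_⟩
  · rintro _ ⟨x, hx, rfl⟩ _ ⟨y, hy, rfl⟩
    rw [← map_mul, ← map_mul, hA x hx y hy]
  · rw [← hA']
    exact (Nat.card_congr (A.equivMapOfInjective f hf).toEquiv).symm

theorem Cm.prod {r s : ℕ} {G H : Type*} [Group G] [Group H] (h1 : Cm r G) (h2 : Cm s H) : Cm (r + s) (G × H) := by
  obtain ⟨A, hA0, hA, hA'⟩ := h1
  obtain ⟨B, hB0, hB, hB'⟩ := h2
  refine ⟨A.prod B, ?_, ?_, ?_⟩
  · rintro ⟨x, y⟩ ⟨hx, hy⟩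
    have e : (x, y) = MonoidHom.inl G H x * MonoidHom.inr G H y := by simp
    rw [e]
    exact mul_mem (comm_map (MonoidHom.inl G H) ⟨x, hA0 hx, rfl⟩) (comm_map (MonoidHom.inr G H) ⟨y, hB0 hy, rfl⟩)
  · rintro x ⟨hx1, hx2⟩ y ⟨hy1, hy2⟩
    exact Prod.ext (hA _ hx1 _ hy1) (hB _ hx2 _ hy2)
  · rw [Nat.card_congr (A.prodEquiv B).toEquiv, Nat.card_prod, hA', hB', pow_add]

/-- an element of the commutator subgroup of order divisible by `5 ^ r` -/
theorem Cm.of_elt {r : ℕ} {G : Type*} [Group G] [Finite G] {x : G} (hx : x ∈ commutator G) (h : 5 ^ r ∣ orderOf x) :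
    Cm r G := by
  refine ⟨Subgroup.zpowers (x ^ (orderOf x / 5 ^ r)), ?_, ?_, ?_⟩
  · rw [Subgroup.zpowers_le]
    exact pow_mem hx _
  · intro a ha b hb
    obtain ⟨i, rfl⟩ := mem_zpowers_iff.1 ha
    obtain ⟨j, rfl⟩ := mem_zpowers_iff.1 hb
    rw [← _root_.zpow_add, ← _root_.zpow_add, add_comm]
  · rw [Nat.card_zpowers]
    exact orderOf_pow_orderOf_div (orderOf_pos x).ne' h

end abs

section SL

variable {F : Type*} [Field F]

/-- an element of order `p ^ a` of `PSL₂` -/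
theorem exists_ord_psl [Finite F] {p : ℕ} [Fact p.Prime] (hp2 : p ≠ 2) {a : ℕ} (hpq : ¬ p ∣ Nat.card F)
    (ha : p ^ a ∣ Nat.card F ^ 2 - 1) : ∃ g : P2 F, p ^ a ∣ orderOf g := by
  classical
  have := Fintype.ofFinite F
  have hpp : p.Prime := Fact.out
  obtain ⟨P⟩ : Nonempty (Sylow p (P2 F)) := inferInstance
  have hc := Cfsg.Agent.H109.EndPsl.isCyclic_sylow (F := F) (p := p) hp2 hpq P
  have h1 : p ^ a ∣ Nat.card (P2 F) := by
    have h2 := Cfsg.Agent.S0243.result (F := F) rfl 2 le_rfl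
    have h3' := Cfsg.Agent.S0242.result (F := F) rfl 2 (by norm_num)
    rw [← h3', ← Nat.card_eq_fintype_card] at h2
    have hq : 1 < Nat.card F := Finite.one_lt_card
    have h4 : Nat.gcd 2 (Nat.card F - 1) * Nat.card (P2 F) = Nat.card (S2 F) := by
      have : (Nat.card F - 1) * (Nat.gcd 2 (Nat.card F - 1) * Nat.card (P2 F)) = (Nat.card F - 1) * Nat.card (S2 F) := by
        rw [← h2]; ring
      exact Nat.eq_of_mul_eq_mul_left (by omega) this
    have h5 : p ^ a ∣ Nat.gcd 2 (Nat.card F - 1) * Nat.card (P2 F) := by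
      rw [h4, Cfsg.Agent.H109.EndPsl.card_sl2]
      exact Dvd.dvd.mul_left ha _
    refine Nat.Coprime.dvd_of_dvd_mul_left ?_ h5
    have h6 : Nat.gcd 2 (Nat.card F - 1) ∣ 2 := Nat.gcd_dvd_left _ _
    exact Nat.Coprime.coprime_dvd_right h6
      (Nat.Coprime.pow_left _ ((Nat.coprime_primes hpp Nat.prime_two).2 hp2))
  have h2 : p ^ a ∣ Nat.card P := P.pow_dvd_card_of_pow_dvd_card h1
  obtain ⟨x, hx⟩ := hc.exists_ofOrder_eq_natCard
  refine ⟨(x : P2 F), ?_⟩
  rw [Subgroup.orderOf_coe, hx]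
  exact h2

/-- an element of order `p ^ a` of `SL₂` -/
theorem exists_ord [Finite F] {p : ℕ} [Fact p.Prime] (hp2 : p ≠ 2) {a : ℕ} (hpq : ¬ p ∣ Nat.card F)
    (ha : p ^ a ∣ Nat.card F ^ 2 - 1) : ∃ g : S2 F, orderOf g = p ^ a := by
  obtain ⟨x, hx⟩ := exists_ord_psl hp2 hpq ha
  obtain ⟨g, hg⟩ := QuotientGroup.mk'_surjective (Subgroup.center (S2 F)) x
  have h4 : p ^ a ∣ orderOf g := by
    refine hx.trans ?_
    rw [← hg]
    exact orderOf_map_dvd _ g
  exact ⟨g ^ (orderOf g / p ^ a), orderOf_pow_orderOf_div (orderOf_pos g).ne' h4⟩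

end SL

section four

variable {F : Type*} [Field F]

/-- `O₄⁺(q)` -/
theorem cm_four [Finite F] {a : ℕ} (h4 : 4 ≤ Nat.card F) (h5 : ¬ 5 ∣ Nat.card F) (ha : 5 ^ a ∣ Nat.card F ^ 2 - 1) :
    Cm (2 * a) ↥(isometryGroup F (quadFormPlus 2 F)) := by
  have : Fact (Nat.Prime 5) := ⟨by norm_num⟩
  have := Fintype.ofFinite F
  obtain ⟨t, ht⟩ := exists_ord (F := F) (p := 5) (by norm_num) h5 ha
  have hodd : ∀ g ∈ zpowers t, g ^ 2 = 1 → g = 1 := by
    intro g hg h2
    have h4 : g ^ (5 ^ a) = 1 := by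
      rw [← ht]
      obtain ⟨k, rfl⟩ := mem_zpowers_iff.1 hg
      rw [← zpow_natCast, ← _root_.zpow_mul, mul_comm, _root_.zpow_mul, zpow_natCast, pow_orderOf_eq_one, _root_.one_zpow]
    have h5 : Nat.Coprime (5 ^ a) 2 := Nat.Coprime.pow_left _ (by norm_num)
    have h6 := (pow_gcd_eq_one (a := g)).2 ⟨h4, h2⟩
    rwa [h5, pow_one] at h6
  have hinj : ∀ x ∈ (zpowers t).prod (zpowers t), Cfsg.Agent.H109.ROrth.both x = 1 → x = 1 := by
    rintro ⟨g, h⟩ ⟨hg, hh⟩ e
    have h1 : g = 1 := hodd g hg (Cfsg.Agent.H109.ROrth.sq_eq_one_of_scalar (Cfsg.Agent.H109.ROrth.both_scalar e))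
    subst h1
    rw [Cfsg.Agent.H109.ROrth.both_apply, map_one, one_mul] at e
    have h2 : h = 1 := by
      have hl : Function.Injective (left (F := F)) :=
        (MulEquiv.injective (MulAut.conj refl)).comp (lev_injective 2)
      exact (injective_iff_map_eq_one _).1 hl _ e
    rw [h2]
    rfl
  have hperf : commutator (S2 F) = ⊤ := Cfsg.Agent.H376.WordEmb.sl_two_perfect F (by
    rwa [Nat.card_eq_fintype_card] at h4)
  refine ⟨((zpowers t).prod (zpowers t)).map Cfsg.Agent.H109.ROrth.both, ?_, ?_, ?_⟩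
  · rintro _ ⟨⟨g, h⟩, -, rfl⟩
    rw [Cfsg.Agent.H109.ROrth.both_apply]
    exact mul_mem (comm_map (lev 2) ⟨g, by rw [hperf]; trivial, rfl⟩)
      (comm_map left ⟨h, by rw [hperf]; trivial, rfl⟩)
  · rintro _ ⟨x, hx, rfl⟩ _ ⟨y, hy, rfl⟩
    rw [← map_mul, ← map_mul]
    congr 1
    refine Prod.ext ?_ ?_
    · obtain ⟨k, hk⟩ := mem_zpowers_iff.1 hx.1
      obtain ⟨l, hl⟩ := mem_zpowers_iff.1 hy.1
      show x.1 * y.1 = y.1 * x.1
      rw [← hk, ← hl, ← _root_.zpow_add, ← _root_.zpow_add, add_comm]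
    · obtain ⟨k, hk⟩ := mem_zpowers_iff.1 hx.2
      obtain ⟨l, hl⟩ := mem_zpowers_iff.1 hy.2
      show x.2 * y.2 = y.2 * x.2
      rw [← hk, ← hl, ← _root_.zpow_add, ← _root_.zpow_add, add_comm]
  · have h1 : Nat.card (((zpowers t).prod (zpowers t)).map Cfsg.Agent.H109.ROrth.both) =
        Nat.card ((zpowers t).prod (zpowers t)) := by
      have hi : Function.Injective (Cfsg.Agent.H109.ROrth.both.comp ((zpowers t).prod (zpowers t)).subtype) := by
        rw [injective_iff_map_eq_one]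
        intro x hx
        exact Subtype.ext (hinj x x.2 hx)
      have h2 := Nat.card_congr (MonoidHom.ofInjective hi).toEquiv
      rw [MonoidHom.range_comp, Subgroup.range_subtype] at h2
      exact h2.symm
    rw [h1, Nat.card_congr (Subgroup.prodEquiv _ _).toEquiv, Nat.card_prod, Nat.card_zpowers, ht, two_mul, pow_add]

/-- blocks -/
theorem cm_plus_of {k r : ℕ} (h : Cm r ↥(isometryGroup F (quadFormPlus k F))) (n l : ℕ) :
    Cm (n * r) ↥(isometryGroup F (quadFormPlus (k * n + l) F)) := by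
  induction n with
  | zero =>
    rw [zero_mul]
    exact Cm.zero _
  | succ n ih =>
    have h1 := h.prod ih
    have h2 := h1.map (isoBlk (Cfsg.Agent.H423.PGBlk.spE k (k * n + l)) (spl_plus (F := F) k (k * n + l)))
      (isoBlk_injective _ _)
    have e1 : r + n * r = (n + 1) * r := by ring
    have e2 : k + (k * n + l) = k * (n + 1) + l := by ring
    rwa [e1, e2] at h2

/-- from `O⁺` to the other forms -/
theorem cm_odd {m r : ℕ} (h : Cm r ↥(isometryGroup F (quadFormPlus m F))) :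
    Cm r ↥(isometryGroup F (quadFormOdd m F)) := by
  have := ((h.prod (Cm.zero _)).map (isoBlk _ (spl_odd (F := F) m)) (isoBlk_injective _ _))
  rwa [add_zero] at this

theorem cm_minus {m r : ℕ} (a b : F) (h : Cm r ↥(isometryGroup F (quadFormPlus m F))) :
    Cm r ↥(isometryGroup F (quadFormMinus m F a b)) := by
  have := ((h.prod (Cm.zero _)).map (isoBlk _ (spl_minus (F := F) m a b)) (isoBlk_injective _ _))
  rwa [add_zero] at this

end four

section big

variable {F : Type*} [Field F] [Fintype F]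

theorem big_of_cm {ι : Type} [Fintype ι] [DecidableEq ι] (Q : QuadraticForm F (ι → F))
    (hQ : (QuadraticMap.polarBilin Q).Nondegenerate) (hn : 3 ≤ Fintype.card ι) (hs : ∃ u : ι → F, u ≠ 0 ∧ Q u = 0)
    {r : ℕ} (hr : 5 ≤ r) (h : Cm r ↥(isometryGroup F ⇑Q)) : Big5 (POmega F ⇑Q) := by
  have : Fact (Nat.Prime 5) := ⟨by norm_num⟩
  obtain ⟨A, hle, hA, hc⟩ := h
  have hpow : ∀ x ∈ A, x ^ (5 ^ r) = 1 := by
    intro x hx
    have h1 : (⟨x, hx⟩ : A) ^ Nat.card A = 1 := pow_card_eq_one'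
    rw [hc] at h1
    exact congrArg Subtype.val h1
  refine Big5.of_hom (A := A.subgroupOf (Omega F ⇑Q))
    (QuotientGroup.mk' (Subgroup.center (Omega F ⇑Q))) ?_ ?_ ?_ ?_
  · rw [IsPGroup.iff_card]
    refine ⟨r, ?_⟩
    rw [← hc]
    exact Nat.card_congr (Subgroup.subgroupOfEquivOfLe hle).toEquiv
  · intro x hx y hy
    exact Subtype.ext (hA _ hx _ hy)
  · rw [Nat.card_congr (Subgroup.subgroupOfEquivOfLe hle).toEquiv, hc]
    exact Nat.pow_le_pow_right (by norm_num) hr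
  · intro x hx h1
    have h2 : x ∈ Subgroup.center (Omega F ⇑Q) := (QuotientGroup.eq_one_iff x).1 h1
    have h4 := (Cfsg.Agent.LieClassical.OmegaCenter.mem_center_omega_iff Q hQ hn hs x).1 h2
    have h5 : x ^ 2 = 1 := by
      apply Cfsg.Agent.LieClassical.OmegaCenter.omega_ext
      show Cfsg.Agent.LieClassical.OmegaCenter.omegaMat x ^ 2 = 1
      rcases h4 with h4 | h4 <;> rw [h4] <;> simp
    have h6 : x ^ (5 ^ r) = 1 := Subtype.ext (hpow _ hx)
    have h7 : Nat.Coprime (5 ^ r) 2 := Nat.Coprime.pow_left _ (by norm_num)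
    have h8 := (pow_gcd_eq_one (a := x)).2 ⟨h6, h5⟩
    rwa [h7, pow_one] at h8

end big

end Cfsg.Agent.H953.Five
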