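import Cfsg.Agent.H953.FiveA

set_option autoImplicit false

namespace Cfsg.Agent.H953.Five

open Matrix Subgroup Cfsg.Agent.H423.PGOrth Cfsg.Agent.H828.OrthTool
open Cfsg (POmega Omega quadFormOdd quadFormPlus quadFormMinus isometryGroup)
open scoped commutatorElement

section scal

variable {F K : Type*} [Field F] [Field K] [Algebra F K]

variable {ι κ : Type} [Fintype ι] [Fintype κ] [DecidableEq ι] [DecidableEq κ]

/-- restriction of scalars of matrices along `Φ` -/
noncomputable def res (Φ : (ι → K) ≃ₗ[F] (κ → F)) : Matrix ι ι K →* Matrix κ κ F where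
  toFun A := LinearMap.toMatrix' (Φ.toLinearMap ∘ₗ (A.mulVecLin.restrictScalars F) ∘ₗ Φ.symm.toLinearMap)
  map_one' := by
    have : Φ.toLinearMap ∘ₗ ((1 : Matrix ι ι K).mulVecLin.restrictScalars F) ∘ₗ Φ.symm.toLinearMap =
        LinearMap.id := by
      apply LinearMap.ext
      intro x
      simp
    rw [this, LinearMap.toMatrix'_id]
  map_mul' A B := by
    rw [← LinearMap.toMatrix'_mul]
    congr 1
    apply LinearMap.ext
    intro x
    rw [Matrix.mulVecLin_mul]
    simp

theorem res_mulVec (Φ : (ι → K) ≃ₗ[F] (κ → F)) (A : Matrix ι ι K) (v : κ → F) :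
    res Φ A *ᵥ v = Φ (A *ᵥ Φ.symm v) := by
  change LinearMap.toMatrix' _ *ᵥ v = _
  rw [LinearMap.toMatrix'_mulVec]
  rfl

/-- restriction of scalars of isometry groups -/
noncomputable def resI (Φ : (ι → K) ≃ₗ[F] (κ → F)) {QK : (ι → K) → K} {QF : (κ → F) → F} (T : K → F)
    (h : ∀ u, QF (Φ u) = T (QK u)) : ↥(isometryGroup K QK) →* ↥(isometryGroup F QF) :=
  ((Units.map (res Φ)).comp (isometryGroup K QK).subtype).codRestrict _ (by
    intro g
    rw [mem_iso]
    intro v
    change QF (res Φ g.1.1 *ᵥ v) = QF v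
    rw [res_mulVec, h, (mem_iso QK g.1).1 g.2, ← h, LinearEquiv.apply_symm_apply])

theorem resI_injective (Φ : (ι → K) ≃ₗ[F] (κ → F)) {QK : (ι → K) → K} {QF : (κ → F) → F} (T : K → F)
    (h : ∀ u, QF (Φ u) = T (QK u)) : Function.Injective (resI Φ T h) := by
  intro g g' hg
  apply Subtype.ext
  apply Units.ext
  have h1 : res Φ g.1.1 = res Φ g'.1.1 := congrArg (fun x : ↥(isometryGroup F QF) => ((x : GL κ F) : Matrix κ κ F)) hg
  apply Matrix.mulVec_injective
  funext u
  have h2 := congrArg (fun A : Matrix κ κ F => Φ.symm (A *ᵥ Φ u)) h1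
  simp only [res_mulVec, LinearEquiv.symm_apply_apply] at h2
  exact h2

/-- coordinates for `O⁺` -/
noncomputable def phi (m : ℕ) {k : ℕ} (b b' : Module.Basis (Fin k) F K) :
    (Fin m ⊕ Fin m → K) ≃ₗ[F] (Fin (m * k) ⊕ Fin (m * k) → F) where
  toFun u := Sum.elim (fun s => b.repr (u (Sum.inl (finProdFinEquiv.symm s).1)) (finProdFinEquiv.symm s).2)
    (fun s => b'.repr (u (Sum.inr (finProdFinEquiv.symm s).1)) (finProdFinEquiv.symm s).2)
  map_add' u v := by
    ext (s | s) <;> simp
  map_smul' c u := by
    ext (s | s) <;> simp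
  invFun v := Sum.elim (fun i => ∑ j, v (Sum.inl (finProdFinEquiv (i, j))) • b j)
    (fun i => ∑ j, v (Sum.inr (finProdFinEquiv (i, j))) • b' j)
  left_inv u := by
    ext (i | i)
    · simp only [Sum.elim_inl, Equiv.symm_apply_apply]
      exact b.sum_repr _
    · simp only [Sum.elim_inr, Equiv.symm_apply_apply]
      exact b'.sum_repr _
  right_inv v := by
    ext (s | s)
    · simp only [Sum.elim_inl]
      rw [b.repr_sum_self]
      exact congrArg (fun x => v (Sum.inl x)) (finProdFinEquiv.apply_symm_apply s)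
    · simp only [Sum.elim_inr]
      rw [b'.repr_sum_self]
      exact congrArg (fun x => v (Sum.inr x)) (finProdFinEquiv.apply_symm_apply s)

theorem phi_form (m : ℕ) {k : ℕ} (b b' : Module.Basis (Fin k) F K)
    (hbb : ∀ i j, Algebra.trace F K (b i * b' j) = if i = j then 1 else 0) (u : Fin m ⊕ Fin m → K) :
    quadFormPlus (m * k) F (phi m b b' u) = Algebra.trace F K (quadFormPlus m K u) := by
  unfold quadFormPlus
  rw [map_sum, ← finProdFinEquiv.sum_comp, Fintype.sum_prod_type]
  refine Finset.sum_congr rfl fun i _ => ?_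
  change ∑ j, b.repr (u (Sum.inl (finProdFinEquiv.symm (finProdFinEquiv (i, j))).1)) (finProdFinEquiv.symm (finProdFinEquiv (i, j))).2 *
    b'.repr (u (Sum.inr (finProdFinEquiv.symm (finProdFinEquiv (i, j))).1)) (finProdFinEquiv.symm (finProdFinEquiv (i, j))).2 = _
  simp only [Equiv.symm_apply_apply]
  conv_rhs => rw [← b.sum_repr (u (Sum.inl i)), ← b'.sum_repr (u (Sum.inr i)), Finset.sum_mul_sum]
  rw [map_sum]
  refine Finset.sum_congr rfl fun j _ => ?_
  rw [map_sum, Finset.sum_eq_single j]
  · rw [smul_mul_smul_comm, map_smul, hbb, if_pos rfl, smul_eq_mul, mul_one]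
  · intro l _ hl
    rw [smul_mul_smul_comm, map_smul, hbb, if_neg (Ne.symm hl), smul_zero]
  · intro h
    exact absurd (Finset.mem_univ _) h

end scal

/-- `O⁺_{2m}(q²) ≤ O⁺_{4m}(q)` -/
theorem cm_scal {F K : Type*} [Field F] [Field K] [Algebra F K] [FiniteDimensional F K] [Algebra.IsSeparable F K]
    (h2 : Module.finrank F K = 2) {m r : ℕ}
    (h : Cm r ↥(isometryGroup K (quadFormPlus m K))) : Cm r ↥(isometryGroup F (quadFormPlus (m * 2) F)) := by
  let b := Module.finBasisOfFinrankEq F K h2
  have hB := traceForm_nondegenerate F K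
  exact h.map (resI (phi m b ((Algebra.traceForm F K).dualBasis hB b)) (Algebra.trace F K)
    (phi_form m b _ fun i j => LinearMap.BilinForm.apply_dualBasis_right hB (Algebra.traceForm_isSymm F) b i j))
    (resI_injective _ _ _)

/-- **`O₈⁺(q)`, `5 ∣ q² + 1`.** -/
theorem cm_eight {F : Type*} [Field F] [Finite F] {a : ℕ} (h5 : ¬ 5 ∣ Nat.card F) (ha : 5 ^ a ∣ Nat.card F ^ 4 - 1) :
    Cm (2 * a) ↥(isometryGroup F (quadFormPlus 4 F)) := by
  obtain ⟨p, hp⟩ := CharP.exists F
  have : Fact p.Prime := ⟨CharP.char_is_prime F p⟩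
  have hc := FiniteField.natCard_extension F p 2
  have hF : 1 < Nat.card F := Finite.one_lt_card
  have h := cm_scal (F := F) (K := FiniteField.Extension F p 2) (FiniteField.finrank_extension F p 2) (m := 2)
    (r := 2 * a) (cm_four (by rw [hc]; nlinarith) (by
      rw [hc]
      exact fun h => h5 ((by norm_num : Nat.Prime 5).dvd_of_dvd_pow h)) (by
      rw [hc, ← pow_mul]
      exact ha))
  exact h


section minus

variable {F : Type*} [Field F] [Finite F]

/-- **`O₄⁻(q)`** -/
theorem cm_minus_one {a b : F} (hab : ∀ z₁ z₂ : F, z₁ ^ 2 + a * z₁ * z₂ + b * z₂ ^ 2 = 0 → z₁ = 0 ∧ z₂ = 0) {r : ℕ}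
    (h5 : ¬ 5 ∣ Nat.card F) (ha : 5 ^ r ∣ Nat.card F ^ 4 - 1) :
    Cm r ↥(isometryGroup F (quadFormMinus 1 F a b)) := by
  have := Fintype.ofFinite F
  obtain ⟨p, hp⟩ := CharP.exists F
  have : Fact p.Prime := ⟨CharP.char_is_prime F p⟩
  have : Fact (Nat.Prime 5) := ⟨by norm_num⟩
  have hc := FiniteField.natCard_extension F p 2
  have := Fintype.ofFinite (FiniteField.Extension F p 2)
  obtain ⟨e⟩ := Cfsg.Agent.S0300.result (F := F) (K := FiniteField.Extension F p 2) rfl (by
    rw [← Nat.card_eq_fintype_card, ← Nat.card_eq_fintype_card, hc]) a b hab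
  obtain ⟨x, hx⟩ := exists_ord_psl (F := FiniteField.Extension F p 2) (p := 5) (a := r) (by norm_num) (by
      rw [hc]
      exact fun h => h5 ((by norm_num : Nat.Prime 5).dvd_of_dvd_pow h)) (by
      rw [hc, ← pow_mul]
      exact ha)
  obtain ⟨g, hg⟩ := QuotientGroup.mk'_surjective
    (Subgroup.center (Omega F (quadFormMinus 1 F a b))) (e.symm x)
  refine Cm.of_elt (x := (g : ↥(isometryGroup F (quadFormMinus 1 F a b)))) g.2 ?_
  rw [Subgroup.orderOf_coe]
  refine hx.trans ?_
  have h1 : orderOf (e.symm x) = orderOf x := MulEquiv.orderOf_eq e.symm x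
  rw [← h1, ← hg]
  exact orderOf_map_dvd _ g

end minus

section dec

variable {F : Type*} [Field F]

/-- `O₈⁻ = O₄⁻ ⊥ O₄⁺` -/
def minusThree (a b : F) : LSum (quadFormMinus 3 F a b) (quadFormMinus 1 F a b) (quadFormPlus 2 F) where
  E := { toFun := fun w => Sum.elim (Sum.elim ![w (.inl (.inl 0)), 0, 0] ![w (.inl (.inr 0)), 0, 0])
            ![w (.inr 0), w (.inr 1)]
         map_add' := by
           intro x y
           ext ((i | i) | i) <;> fin_cases i <;> simp
         map_smul' := by
           intro c x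
           ext ((i | i) | i) <;> fin_cases i <;> simp }
  E' := { toFun := fun v => Sum.elim (Sum.elim ![v (.inl (.inl 0))] ![v (.inl (.inr 0))]) ![v (.inr 0), v (.inr 1)]
          map_add' := by
            intro x y
            ext ((i | i) | i) <;> fin_cases i <;> simp
          map_smul' := by
            intro c x
            ext ((i | i) | i) <;> fin_cases i <;> simp }
  G := { toFun := fun w => Sum.elim (Sum.elim ![0, w (.inl 0), w (.inl 1)] ![0, w (.inr 0), w (.inr 1)]) ![0, 0]
         map_add' := by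
           intro x y
           ext ((i | i) | i) <;> fin_cases i <;> simp
         map_smul' := by
           intro c x
           ext ((i | i) | i) <;> fin_cases i <;> simp }
  G' := { toFun := fun v => Sum.elim ![v (.inl (.inl 1)), v (.inl (.inl 2))] ![v (.inl (.inr 1)), v (.inl (.inr 2))]
          map_add' := by
            intro x y
            ext (i | i) <;> fin_cases i <;> simp
          map_smul' := by
            intro c x
            ext (i | i) <;> fin_cases i <;> simp }
  ee w := by ext ((i | i) | i) <;> fin_cases i <;> simp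
  gg w := by ext (i | i) <;> fin_cases i <;> simp
  eg w := by ext ((i | i) | i) <;> fin_cases i <;> simp
  ge w := by ext (i | i) <;> fin_cases i <;> simp
  sum v := by
    simp [quadFormMinus, quadFormPlus, Fin.sum_univ_three]
    ring

/-- `O₇ = O₄⁻ ⊥ O₃` -/
def oddThree (c : F) (h2 : (2 : F) ≠ 0) (hc : c ≠ 0) :
    LSum (quadFormOdd 3 F) (quadFormMinus 1 F 0 c) (fun w : Fin 3 → F => -c * w 0 ^ 2 + w 1 * w 2) where
  E := { toFun := fun w => Sum.elim (fun _ => w (.inr 0)) (Sum.elim ![w (.inl (.inl 0)), w (.inr 1), 0]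
            ![w (.inl (.inr 0)), c * w (.inr 1), 0])
         map_add' := by
           intro x y
           ext (i | i | i)
           · simp
           · fin_cases i <;> simp
           · fin_cases i <;> simp
             ring
         map_smul' := by
           intro c x
           ext (i | i | i)
           · simp
           · fin_cases i <;> simp
           · fin_cases i <;> simp
             ring }
  E' := { toFun := fun v => Sum.elim (Sum.elim ![v (.inr (.inl 0))] ![v (.inr (.inr 0))])
            ![v (.inl ()), (v (.inr (.inl 1)) + c⁻¹ * v (.inr (.inr 1))) / 2]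
          map_add' := by
            intro x y
            ext ((i | i) | i) <;> fin_cases i <;> simp <;> ring
          map_smul' := by
            intro c x
            ext ((i | i) | i) <;> fin_cases i <;> simp <;> ring }
  G := { toFun := fun w => Sum.elim (fun _ => 0) (Sum.elim ![0, w 0, w 1] ![0, -(c * w 0), w 2])
         map_add' := by
           intro x y
           ext (i | i | i)
           · simp
           · fin_cases i <;> simp
           · fin_cases i <;> simp
             ring
         map_smul' := by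
           intro c x
           ext (i | i | i)
           · simp
           · fin_cases i <;> simp
           · fin_cases i <;> simp
             ring }
  G' := { toFun := fun v => ![(v (.inr (.inl 1)) - c⁻¹ * v (.inr (.inr 1))) / 2, v (.inr (.inl 2)), v (.inr (.inr 2))]
          map_add' := by
            intro x y
            ext i
            fin_cases i <;> simp
            ring
          map_smul' := by
            intro c x
            ext i
            fin_cases i <;> simp
            ring }
  ee w := by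
    ext ((i | i) | i) <;> fin_cases i <;> simp
    field_simp
    ring
  gg w := by
    ext i
    fin_cases i <;> simp
    field_simp
    ring
  eg w := by
    ext ((i | i) | i) <;> fin_cases i <;> simp
    field_simp
    simp
  ge w := by
    ext i
    fin_cases i <;> simp
    field_simp
    simp
  sum v := by
    simp [quadFormOdd, quadFormMinus, Fin.sum_univ_three]
    field_simp
    ring

end dec


section siegel

variable {F : Type*} [Field F]

/-- index set of the odd form in dimension 7 -/
abbrev I7 := Unit ⊕ (Fin 3 ⊕ Fin 3)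

/-- Siegel transformation -/
def sg (u : Fin 5 → F) : (I7 → F) →ₗ[F] (I7 → F) where
  toFun v := Sum.elim (fun _ => v (.inl ()) + v (.inr (.inr 0)) * u 0)
    (Sum.elim ![v (.inr (.inl 0)) - (2 * u 0 * v (.inl ()) + u 1 * v (.inr (.inr 1)) + v (.inr (.inl 1)) * u 3 +
        u 2 * v (.inr (.inr 2)) + v (.inr (.inl 2)) * u 4) - (u 0 ^ 2 + u 1 * u 3 + u 2 * u 4) * v (.inr (.inr 0)),
        v (.inr (.inl 1)) + v (.inr (.inr 0)) * u 1, v (.inr (.inl 2)) + v (.inr (.inr 0)) * u 2]
      ![v (.inr (.inr 0)), v (.inr (.inr 1)) + v (.inr (.inr 0)) * u 3, v (.inr (.inr 2)) + v (.inr (.inr 0)) * u 4])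
  map_add' v w := by
    ext (i | i | i)
    · simp; ring
    · fin_cases i <;> simp <;> ring
    · fin_cases i <;> simp <;> ring
  map_smul' c v := by
    ext (i | i | i)
    · simp; ring
    · fin_cases i <;> simp <;> ring
    · fin_cases i <;> simp <;> ring

theorem sg_zero : sg (0 : Fin 5 → F) = LinearMap.id := by
  apply LinearMap.ext
  intro v
  ext (i | i | i)
  · simp [sg]
  · fin_cases i <;> simp [sg]
  · fin_cases i <;> simp [sg]

theorem sg_add (u u' : Fin 5 → F) : sg (u + u') = sg u ∘ₗ sg u' := by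
  apply LinearMap.ext
  intro v
  ext (i | i | i)
  · simp [sg]; ring
  · fin_cases i <;> simp [sg] <;> ring
  · fin_cases i <;> simp [sg] <;> ring

theorem sg_form (u : Fin 5 → F) (v : I7 → F) : quadFormOdd 3 F (sg u v) = quadFormOdd 3 F v := by
  simp [quadFormOdd, sg, Fin.sum_univ_three]
  ring

/-- the Siegel transformations as matrices -/
noncomputable def sgM : Multiplicative (Fin 5 → F) →* Matrix I7 I7 F where
  toFun u := LinearMap.toMatrix' (sg (Multiplicative.toAdd u))
  map_one' := by
    rw [toAdd_one, sg_zero, LinearMap.toMatrix'_id]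
  map_mul' u u' := by
    rw [toAdd_mul, sg_add, LinearMap.toMatrix'_comp]

noncomputable def sgI : Multiplicative (Fin 5 → F) →* ↥(isometryGroup F (quadFormOdd 3 F)) :=
  (MonoidHom.toHomUnits sgM).codRestrict _ (by
    intro u
    rw [mem_iso]
    intro v
    change quadFormOdd 3 F (LinearMap.toMatrix' (sg (Multiplicative.toAdd u)) *ᵥ v) = _
    rw [LinearMap.toMatrix'_mulVec, sg_form])

theorem sgI_injective : Function.Injective (sgI (F := F)) := by
  intro u u' h
  have h1 : LinearMap.toMatrix' (sg (Multiplicative.toAdd u)) = LinearMap.toMatrix' (sg (Multiplicative.toAdd u')) :=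
    congrArg (fun x : ↥(isometryGroup F (quadFormOdd 3 F)) => ((x : GL I7 F) : Matrix I7 I7 F)) h
  have h2 := LinearMap.toMatrix'.injective h1
  have h3 := LinearMap.congr_fun h2 (Pi.single (.inr (.inr 0)) 1)
  apply Multiplicative.toAdd.injective
  have a0 := congrFun h3 (.inl ())
  have a1 := congrFun h3 (.inr (.inl 1))
  have a2 := congrFun h3 (.inr (.inl 2))
  have a3 := congrFun h3 (.inr (.inr 1))
  have a4 := congrFun h3 (.inr (.inr 2))
  simp [sg] at a0 a1 a2 a3 a4
  ext i
  fin_cases i
  · exact a0
  · exact a1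
  · exact a2
  · exact a3
  · exact a4

/-- `(x₀, y₀) ↦ (-x₀, -y₀)` -/
def sgH : (I7 → F) →ₗ[F] (I7 → F) where
  toFun v := Sum.elim (fun _ => v (.inl ()))
    (Sum.elim ![-v (.inr (.inl 0)), v (.inr (.inl 1)), v (.inr (.inl 2))]
      ![-v (.inr (.inr 0)), v (.inr (.inr 1)), v (.inr (.inr 2))])
  map_add' v w := by
    ext (i | i | i)
    · simp
    · fin_cases i <;> simp
      ring
    · fin_cases i <;> simp
      ring
  map_smul' c v := by
    ext (i | i | i)
    · simp
    · fin_cases i <;> simp
    · fin_cases i <;> simp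

theorem sgH_sq : sgH ∘ₗ sgH = (LinearMap.id : (I7 → F) →ₗ[F] (I7 → F)) := by
  apply LinearMap.ext
  intro v
  ext (i | i | i)
  · simp [sgH]
  · fin_cases i <;> simp [sgH]
  · fin_cases i <;> simp [sgH]

theorem sgH_sg (u : Fin 5 → F) : sgH ∘ₗ sg u = sg (-u) ∘ₗ sgH := by
  apply LinearMap.ext
  intro v
  ext (i | i | i)
  · simp [sg, sgH]
  · fin_cases i <;> simp [sg, sgH]
    ring
  · fin_cases i <;> simp [sg, sgH]

theorem sgH_mul : LinearMap.toMatrix' (sgH (F := F)) * LinearMap.toMatrix' (sgH (F := F)) = 1 := by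
  rw [← LinearMap.toMatrix'_comp, sgH_sq, LinearMap.toMatrix'_id]

noncomputable def sgh : ↥(isometryGroup F (quadFormOdd 3 F)) :=
  ⟨⟨LinearMap.toMatrix' (sgH (F := F)), LinearMap.toMatrix' (sgH (F := F)), sgH_mul, sgH_mul⟩, by
    rw [mem_iso]
    intro v
    change quadFormOdd 3 F (LinearMap.toMatrix' (sgH (F := F)) *ᵥ v) = _
    rw [LinearMap.toMatrix'_mulVec]
    simp [quadFormOdd, sgH, Fin.sum_univ_three]⟩

theorem sgh_conj (u : Multiplicative (Fin 5 → F)) : sgh * sgI u = (sgI u)⁻¹ * sgh := by
  rw [← map_inv]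
  apply Subtype.ext
  apply Units.ext
  change LinearMap.toMatrix' (sgH (F := F)) * LinearMap.toMatrix' (sg (Multiplicative.toAdd u)) =
    LinearMap.toMatrix' (sg (Multiplicative.toAdd u⁻¹)) * LinearMap.toMatrix' (sgH (F := F))
  rw [← LinearMap.toMatrix'_comp, ← LinearMap.toMatrix'_comp, toAdd_inv, sgH_sg]

/-- **`Ω₇(5)`** -/
theorem cm_seven [Finite F] (hF : Nat.card F = 5) : Cm 5 ↥(isometryGroup F (quadFormOdd 3 F)) := by
  have := Fintype.ofFinite F
  have h2 : (2 : F) ≠ 0 := by
    intro h2
    have h5 : (5 : F) = 0 := by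
      have := FiniteField.cast_card_eq_zero F
      rw [← Nat.card_eq_fintype_card, hF] at this
      exact_mod_cast this
    have : (1 : F) = 0 := by linear_combination h5 - 2 * h2
    exact one_ne_zero this
  refine ⟨(sgI (F := F)).range, ?_, ?_, ?_⟩
  · rintro _ ⟨u, rfl⟩
    have e : sgI u = ⁅sgh (F := F), sgI (Multiplicative.ofAdd (-((2 : F)⁻¹ • Multiplicative.toAdd u)))⁆ := by
      rw [commutatorElement_def, sgh_conj]
      rw [mul_assoc (_ * _) _ _, mul_assoc _ sgh, ← mul_assoc sgh, mul_inv_cancel, one_mul, ← map_inv, ← map_mul]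
      congr 1
      apply Multiplicative.toAdd.injective
      rw [toAdd_mul, toAdd_inv, toAdd_ofAdd, neg_neg]
      ext i
      simp
      field_simp
      ring
    rw [e]
    exact Subgroup.commutator_mem_commutator (Subgroup.mem_top _) (Subgroup.mem_top _)
  · rintro _ ⟨u, rfl⟩ _ ⟨u', rfl⟩
    rw [← map_mul, ← map_mul, mul_comm]
  · have h := Nat.card_congr (MonoidHom.ofInjective (sgI_injective (F := F))).toEquiv
    rw [← h, Nat.card_congr Multiplicative.toAdd, Nat.card_pi, Finset.prod_const, hF]
    rfl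

end siegel

end Cfsg.Agent.H953.Five
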