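/-
Multiplicities for functions given by `Fin.cons`.
-/
import Mathlib
import Cfsg.Agent.H953.Diag

set_option autoImplicit false

namespace Cfsg.Agent.H953

open Polynomial

universe u

variable {F : Type u}

open Classical in
theorem mult_eq_sum {ι : Type*} [Fintype ι] (a : ι → F) (β : F) : mult a β = ∑ i, if a i = β then 1 else 0 := by
  unfold mult
  rw [Finset.card_filter]

open Classical in
theorem mult_cons {m : ℕ} (α : F) (a : Fin m → F) (β : F) :
    mult (Fin.cons α a : Fin (m + 1) → F) β = (if α = β then 1 else 0) + mult a β := by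
  rw [mult_eq_sum, mult_eq_sum, Fin.sum_univ_succ]
  simp

open Classical in
theorem mult_const {m : ℕ} (δ β : F) : mult (fun _ : Fin m => δ) β = if δ = β then m else 0 := by
  rw [mult_eq_sum]
  split_ifs with h <;> simp [h]

theorem prod_cons {m : ℕ} [CommMonoid F] (α : F) (a : Fin m → F) :
    ∏ i, (Fin.cons α a : Fin (m + 1) → F) i = α * ∏ i, a i := by
  rw [Fin.prod_univ_succ]
  simp

end Cfsg.Agent.H953
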