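import Cfsg.Agent.H953.SevenRows
import Cfsg.Agent.H984.ThreeExc
import Cfsg.Agent.H631.TwF4Nine

/-!
# Exceptional rows of `H775.Elim7.Row7` (helper953, task 1311, S5231)
-/

set_option autoImplicit false

namespace Cfsg.Agent.H953.SevenExc

open Subgroup Cfsg Cfsg.Lie
open Cfsg.Agent.H777.Elim (Vn)
open Cfsg.Agent.H775.Elim7 (Big7 Row7)
open Cfsg.Agent.H984.ThreeExc
open Cfsg.Agent.H356.SLTorus (exists_order)

section Groups

open Cfsg.Agent.ChevalleyStructure Cfsg.Agent.ChevalleyStructure.Elts Cfsg.Agent.H92.ExcSL2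

variable {F : Type*} [Field F] [Fintype F]

/-- an element of order 9 of a root `SL₂` -/
theorem big7_chev {D : ChevalleyDatum} (hD : InList D) (h3 : (3 : F) ≠ 0) (hm : 3 ^ 2 ∣ Nat.card F ^ 2 - 1)
    {r : ℕ} (hr : r < D.nroots) : Big7 ↥(D.group F) := by
  obtain ⟨y, hy⟩ := exists_order h3 hm
  refine Or.inr ⟨ph hD hr y, ?_⟩
  apply Nat.dvd_antisymm
  · have := orderOf_map_dvd (ph hD hr) y
    rwa [hy] at this
  · have h1 : ph hD hr (y ^ orderOf (ph hD hr y)) = 1 := by rw [map_pow, pow_orderOf_eq_one]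
    have h2 : (y ^ orderOf (ph hD hr y)) ^ 2 = 1 := by
      rcases ph_eq_one hD hr h1 with h | h
      · rw [h, one_pow]
      · rw [h, neg_one_sq]
    rw [← pow_mul] at h2
    have h4 := orderOf_dvd_of_pow_eq_one h2
    rw [hy] at h4
    have h5 : Nat.Coprime (3 ^ 2) 2 := by norm_num
    exact h5.dvd_of_dvd_mul_right h4

theorem row7_G2 (h3 : (3 : F) ≠ 0) : Row7 ↥(chevG2.group F) := by
  intro hV
  have hv := val_of_Vn hV
  have hq : 1 < Fintype.card F := Fintype.one_lt_card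
  have hd := not_dvd_card h3
  rw [Cfsg.Agent.S1059.result (F := F) rfl] at hv
  have h := ((hv_pow hq hd 6).mul (hv_even hq hd 1 2 0 one_ne_zero rfl val_1)).mul
    (hv_even hq hd 3 6 1 (by norm_num) rfl val_3)
  have h2 := h.2
  refine big7_chev (by simp) h3 ?_ (r := 0) (by decide +kernel)
  rw [Nat.card_eq_fintype_card]
  exact dvd_of_val hq (by omega)

theorem row7_F4 (h3 : (3 : F) ≠ 0) : Row7 ↥(chevF4.group F) := by
  intro hV
  exfalso
  have hv := val_of_Vn hV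
  have hq : 1 < Fintype.card F := Fintype.one_lt_card
  have hd := not_dvd_card h3
  rw [Cfsg.Agent.S1062.result (F := F) rfl] at hv
  have h := ((((hv_pow hq hd 24).mul (hv_even hq hd 1 2 0 one_ne_zero rfl val_1)).mul
    (hv_even hq hd 3 6 1 (by norm_num) rfl val_3)).mul (hv_even hq hd 4 8 0 (by norm_num) rfl val_4)).mul
    (hv_even hq hd 6 12 1 (by norm_num) rfl val_6)
  have h2 := h.2
  omega

theorem row7_E6 (h3 : (3 : F) ≠ 0) : Row7 ↥(chevE6.group F) := by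
  intro hV
  exfalso
  have hv := val_of_Vn hV
  have hq : 1 < Fintype.card F := Fintype.one_lt_card
  have hd := not_dvd_card h3
  have hN : HV (Nat.card ↥(chevE6.group F)) 7 := ⟨Nat.card_pos.ne', hv⟩
  have hc := Cfsg.Agent.S1063.result (F := F) rfl
  have hm : Fintype.card F % 3 = 1 ∨ Fintype.card F % 3 = 2 := by omega
  rcases hm with hm | hm
  · rw [gcd_three, if_pos (by omega)] at hc
    have h1 : HV (3 * Nat.card ↥(chevE6.group F)) (1 + 7) := HV.mul ⟨by norm_num, val_3⟩ hN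
    have h := ((((((hv_pow hq hd 36).mul (hv_even hq hd 1 2 0 one_ne_zero rfl val_1)).mul
      (⟨ne_zero hq (by norm_num), by rw [val_one hq hm (by norm_num), val_5]⟩ :
        HV (Fintype.card F ^ 5 - 1) (padicValNat 3 (Fintype.card F ^ 2 - 1) + 0))).mul
      (hv_even hq hd 3 6 1 (by norm_num) rfl val_3)).mul (hv_even hq hd 4 8 0 (by norm_num) rfl val_4)).mul
      (⟨ne_zero hq (by norm_num), by rw [val_one hq hm (by norm_num), val_9]⟩ :
        HV (Fintype.card F ^ 9 - 1) (padicValNat 3 (Fintype.card F ^ 2 - 1) + 2))).mul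
      (hv_even hq hd 6 12 1 (by norm_num) rfl val_6)
    rw [hc] at h1
    have h2 := h.2
    have h3 := h1.2
    omega
  · rw [gcd_three, if_neg (by omega), one_mul] at hc
    have h1 := hN
    have h := ((((((hv_pow hq hd 36).mul (hv_even hq hd 1 2 0 one_ne_zero rfl val_1)).mul
      (⟨ne_zero hq (by norm_num), val_sub_zero hm (by decide)⟩ : HV (Fintype.card F ^ 5 - 1) 0)).mul
      (hv_even hq hd 3 6 1 (by norm_num) rfl val_3)).mul (hv_even hq hd 4 8 0 (by norm_num) rfl val_4)).mul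
      (⟨ne_zero hq (by norm_num), val_sub_zero hm (by decide)⟩ : HV (Fintype.card F ^ 9 - 1) 0)).mul
      (hv_even hq hd 6 12 1 (by norm_num) rfl val_6)
    rw [hc] at h1
    have h2 := h.2
    have h3' := h1.2
    omega

theorem row7_E7 (h3 : (3 : F) ≠ 0) : Row7 ↥(chevE7.group F) := by
  intro hV
  exfalso
  have hv := val_of_Vn hV
  have hq : 1 < Fintype.card F := Fintype.one_lt_card
  have hd := not_dvd_card h3
  have hN : HV (Nat.card ↥(chevE7.group F)) 7 := ⟨Nat.card_pos.ne', hv⟩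
  have hc := Cfsg.Agent.S1064.result (F := F) rfl
  have hg0 : HV (Nat.gcd 2 (Fintype.card F - 1)) 0 := by
    have h2 : Nat.gcd 2 (Fintype.card F - 1) = 1 ∨ Nat.gcd 2 (Fintype.card F - 1) = 2 :=
      (Nat.dvd_prime Nat.prime_two).1 (Nat.gcd_dvd_left _ _)
    rcases h2 with h2 | h2
    · rw [h2]; exact ⟨one_ne_zero, val_1⟩
    · rw [h2]; exact ⟨two_ne_zero, val_2⟩
  have h := (((((((hv_pow hq hd 63).mul (hv_even hq hd 1 2 0 one_ne_zero rfl val_1)).mul
    (hv_even hq hd 3 6 1 (by norm_num) rfl val_3)).mul (hv_even hq hd 4 8 0 (by norm_num) rfl val_4)).mul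
    (hv_even hq hd 5 10 0 (by norm_num) rfl val_5)).mul (hv_even hq hd 6 12 1 (by norm_num) rfl val_6)).mul
    (hv_even hq hd 7 14 0 (by norm_num) rfl val_7)).mul (hv_even hq hd 9 18 2 (by norm_num) rfl val_9)
  have h1 := hg0.mul hN
  rw [hc] at h1
  have h2 := h.2
  have h3 := h1.2
  have h4 := one_le_val hq hd
  omega

theorem row7_E8 (h3 : (3 : F) ≠ 0) : Row7 ↥(chevE8.group F) := by
  intro hV
  exfalso
  have hv := val_of_Vn hV
  have hq : 1 < Fintype.card F := Fintype.one_lt_card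
  have hd := not_dvd_card h3
  rw [Cfsg.Agent.S1065.result (F := F) rfl] at hv
  have h := ((((((((hv_pow hq hd 120).mul (hv_even hq hd 1 2 0 one_ne_zero rfl val_1)).mul
    (hv_even hq hd 4 8 0 (by norm_num) rfl val_4)).mul (hv_even hq hd 6 12 1 (by norm_num) rfl val_6)).mul
    (hv_even hq hd 7 14 0 (by norm_num) rfl val_7)).mul (hv_even hq hd 9 18 2 (by norm_num) rfl val_9)).mul
    (hv_even hq hd 10 20 0 (by norm_num) rfl val_10)).mul (hv_even hq hd 12 24 1 (by norm_num) rfl val_12)).mul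
    (hv_even hq hd 15 30 1 (by norm_num) rfl val_15)
  have h2 := h.2
  have h4 := one_le_val hq hd
  omega

end Groups

theorem row7_twE6 {K : Type*} [Field K] [Fintype K] {q : ℕ} (hq : IsPrimePow q) (hK : Fintype.card K = q ^ 2)
    (h3 : (3 : K) ≠ 0) : Row7 ↥(twistedE6 K q) := by
  intro hV
  exfalso
  have hv := val_of_Vn hV
  have hq1 : 1 < q := hq.one_lt
  have hd := not_dvd_of_card hK two_ne_zero h3
  have hN : HV (Nat.card ↥(twistedE6 K q)) 7 := ⟨Nat.card_pos.ne', hv⟩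
  have hc := Cfsg.Agent.S1066.result hq hK
  have hm : q % 3 = 1 ∨ q % 3 = 2 := by omega
  rcases hm with hm | hm
  · rw [gcd_three, if_neg (by omega), one_mul] at hc
    have h1 := hN
    have h := ((((((hv_pow hq1 hd 36).mul (hv_even hq1 hd 1 2 0 one_ne_zero rfl val_1)).mul
      (⟨by omega, val_add_zero hm _⟩ : HV (q ^ 5 + 1) 0)).mul
      (hv_even hq1 hd 3 6 1 (by norm_num) rfl val_3)).mul (hv_even hq1 hd 4 8 0 (by norm_num) rfl val_4)).mul
      (⟨by omega, val_add_zero hm _⟩ : HV (q ^ 9 + 1) 0)).mul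
      (hv_even hq1 hd 6 12 1 (by norm_num) rfl val_6)
    rw [hc] at h1
    have h2 := h.2
    have h3' := h1.2
    omega
  · rw [gcd_three, if_pos (by omega)] at hc
    have h1 : HV (3 * Nat.card ↥(twistedE6 K q)) (1 + 7) := HV.mul ⟨by norm_num, val_3⟩ hN
    have h := ((((((hv_pow hq1 hd 36).mul (hv_even hq1 hd 1 2 0 one_ne_zero rfl val_1)).mul
      (⟨by omega, by rw [val_two hq1 hm (by decide), val_5]⟩ : HV (q ^ 5 + 1) (padicValNat 3 (q ^ 2 - 1) + 0))).mul
      (hv_even hq1 hd 3 6 1 (by norm_num) rfl val_3)).mul (hv_even hq1 hd 4 8 0 (by norm_num) rfl val_4)).mul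
      (⟨by omega, by rw [val_two hq1 hm (by decide), val_9]⟩ : HV (q ^ 9 + 1) (padicValNat 3 (q ^ 2 - 1) + 2))).mul
      (hv_even hq1 hd 6 12 1 (by norm_num) rfl val_6)
    rw [hc] at h1
    have h2 := h.2
    have h3' := h1.2
    omega

theorem row7_twD4 {K : Type*} [Field K] [Fintype K] {q : ℕ} (hq : IsPrimePow q) (hK : Fintype.card K = q ^ 3)
    (h3 : (3 : K) ≠ 0) : Row7 ↥(twistedD4 K q) := by
  intro hV
  exfalso
  have hv := val_of_Vn hV
  have hq1 : 1 < q := hq.one_lt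
  have hd := not_dvd_of_card hK three_ne_zero h3
  obtain ⟨k, hk⟩ := three_dvd hd
  have h8 : HV (q ^ 8 + q ^ 4 + 1) 1 := by
    have e2 : q ^ 2 = 3 * k + 1 := by
      have := Nat.one_lt_pow two_ne_zero hq1
      omega
    have e8 : q ^ 8 + q ^ 4 + 1 = 3 * (3 * (9 * k ^ 4 + 12 * k ^ 3 + 7 * k ^ 2 + 2 * k) + 1) := by
      have h1 : q ^ 8 + q ^ 4 + 1 = (3 * k + 1) ^ 4 + (3 * k + 1) ^ 2 + 1 := by rw [← e2]; ring
      rw [h1]; ring
    rw [e8]
    exact HV.mul (k := 1) (l := 0) ⟨by norm_num, val_3⟩ ⟨by omega, padicValNat.eq_zero_of_not_dvd (by omega)⟩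
  have h := (((hv_pow hq1 hd 12).mul (hv_even hq1 hd 1 2 0 one_ne_zero rfl val_1)).mul
    (hv_even hq1 hd 3 6 1 (by norm_num) rfl val_3)).mul h8
  rw [Cfsg.Agent.S1067.result hq hK] at hv
  have h2 := h.2
  omega

theorem row7_twF4 {F : Type*} [Field F] [Fintype F] {m : ℕ} (hK : Fintype.card F = 2 ^ (2 * m + 1)) :
    Row7 ↥(twistedF4 F (2 ^ m)) := by
  intro hV
  have hv := val_of_Vn hV
  obtain ⟨j, hj⟩ := Cfsg.Agent.H680.CritExc.two_pow_odd m
  rw [Cfsg.Agent.S1068.result hK] at hv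
  have hq1 : 1 < 2 ^ (2 * m + 1) := Nat.one_lt_pow (by omega) (by norm_num)
  have h9 : 9 ∣ 2 ^ (2 * m + 1) + 1 := by
    generalize 2 ^ (2 * m + 1) = q at *
    have hd : ¬ 3 ∣ q := by omega
    have hm : q % 3 = 2 := by omega
    have h := ((((hv_pow hq1 hd 12).mul (⟨by omega, padicValNat.eq_zero_of_not_dvd (by omega)⟩ : HV (q - 1) 0)).mul
      (⟨by omega, by rw [val_two hq1 hm (by decide), val_3]⟩ : HV (q ^ 3 + 1) (padicValNat 3 (q ^ 2 - 1) + 1))).mul
      (hv_even hq1 hd 2 4 0 (by norm_num) rfl val_2)).mul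
      (⟨by omega, by
        apply padicValNat.eq_zero_of_not_dvd
        have : q ^ 6 % 3 = 1 := by
          rw [Nat.pow_mod, hm]
        omega⟩ : HV (q ^ 6 + 1) 0)
    have h2 := h.2
    have h4 : 3 ^ 2 ∣ (q + 1) * (q - 1) := by
      rw [← Cfsg.Agent.H953.SevenRows.sq_eq]
      exact dvd_of_val hq1 (by omega)
    refine Nat.Coprime.dvd_of_dvd_mul_right (k := 9) (m := q + 1) (n := q - 1) ?_ h4
    exact (Nat.Prime.coprime_iff_not_dvd Nat.prime_three).2 (by omega) |>.pow_left 2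
  obtain ⟨g, hg, hg3⟩ := Cfsg.Agent.H631.TwF4Nine.exists_nine_of_card hK h9
  refine Or.inr ⟨g, ?_⟩
  exact orderOf_eq_prime_pow (p := 3) (n := 1) (by simpa using hg3) (by simpa using hg)

/-- The exceptional rows. -/
structure Exc : Prop where
  g2 : ∀ {F : Type} [Field F] [Fintype F], (3 : F) ≠ 0 → Row7 ↥(Lie.chevG2.group F)
  f4 : ∀ {F : Type} [Field F] [Fintype F], (3 : F) ≠ 0 → Row7 ↥(Lie.chevF4.group F)
  e6 : ∀ {F : Type} [Field F] [Fintype F], (3 : F) ≠ 0 → Row7 ↥(Lie.chevE6.group F)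
  e7 : ∀ {F : Type} [Field F] [Fintype F], (3 : F) ≠ 0 → Row7 ↥(Lie.chevE7.group F)
  e8 : ∀ {F : Type} [Field F] [Fintype F], (3 : F) ≠ 0 → Row7 ↥(Lie.chevE8.group F)
  te6 : ∀ {F : Type} [Field F] [Fintype F] {q : ℕ}, IsPrimePow q → Fintype.card F = q ^ 2 → (3 : F) ≠ 0 →
    Row7 ↥(Lie.twistedE6 F q)
  td4 : ∀ {F : Type} [Field F] [Fintype F] {q : ℕ}, IsPrimePow q → Fintype.card F = q ^ 3 → (3 : F) ≠ 0 →
    Row7 ↥(Lie.twistedD4 F q)
  tf4 : ∀ {F : Type} [Field F] [Fintype F] {m : ℕ}, 1 ≤ m → Fintype.card F = 2 ^ (2 * m + 1) →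
    Row7 ↥(Lie.twistedF4 F (2 ^ m))

theorem row7_exc : Exc where
  g2 := row7_G2
  f4 := row7_F4
  e6 := row7_E6
  e7 := row7_E7
  e8 := row7_E8
  te6 := row7_twE6
  td4 := row7_twD4
  tf4 := fun _ => row7_twF4

end Cfsg.Agent.H953.SevenExc
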