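import Cfsg.Agent.H953.SevenRows
import Cfsg.Agent.S0292
import Cfsg.Agent.S0293
import Cfsg.Agent.S0294

/-!
# Orthogonal rows of `H775.Elim7.Row7` (helper953, task 1310, S5231)
-/

set_option autoImplicit false

namespace Cfsg.Agent.H953.SevenOrth

open Cfsg Cfsg.Agent.H775.Elim7 Cfsg.Agent.H777.Elim Cfsg.Agent.H953.SevenRows

/-- a subgroup `SL₂(q)` of the isometry group, `q ≥ 8`, gives an element of order 9 -/
theorem big7_iso {F : Type*} [Field F] [Fintype F] (h3 : (3 : F) ≠ 0) (h9 : 9 ∣ Nat.card F ^ 2 - 1)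
    {H : Type*} [Group H] (f : Matrix.SpecialLinearGroup (Fin 2) F →* H) (hf : Function.Injective f) :
    Big7 (commutator H ⧸ Subgroup.center (commutator H)) := by
  have h4 : 4 ≤ Fintype.card F := by
    by_contra hlt
    have h1 : 1 < Nat.card F := Finite.one_lt_card
    rw [Nat.card_eq_fintype_card] at h1 h9
    have h5 : Fintype.card F = 2 ∨ Fintype.card F = 3 := by omega
    rcases h5 with h5 | h5 <;> rw [h5] at h9 <;> revert h9 <;> decide
  have h1 : ∀ x, f x ∈ commutator H := by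
    intro x
    have hx : f x ∈ (commutator (Matrix.SpecialLinearGroup (Fin 2) F)).map f :=
      ⟨x, by rw [Cfsg.Agent.H376.WordEmb.sl_two_perfect F h4]; trivial, rfl⟩
    rw [commutator_def, Subgroup.map_commutator] at hx
    rw [commutator_def]
    exact Subgroup.commutator_mono le_top le_top hx
  exact big7_sl h3 h9 (f.codRestrict _ h1) fun a b hab => hf (congrArg Subtype.val hab)

/-! ### arithmetic -/

section Num

theorem half {x : ℕ} (hx : 2 ≤ x) :
    ((x - 1).factorization 3 = 0 ∨ (x - 1).factorization 3 = (x ^ 2 - 1).factorization 3) ∧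
      ((x + 1).factorization 3 = 0 ∨ (x + 1).factorization 3 = (x ^ 2 - 1).factorization 3) := by
  have h1 : (x ^ 2 - 1).factorization 3 = (x + 1).factorization 3 + (x - 1).factorization 3 := by
    rw [sq_eq, Nat.factorization_mul (by omega) (by omega), Finsupp.add_apply]
  by_cases h : 3 ∣ x - 1
  · have h2 : (x + 1).factorization 3 = 0 := Nat.factorization_eq_zero_of_not_dvd (by omega)
    exact ⟨Or.inr (by omega), Or.inl h2⟩
  · have h2 : (x - 1).factorization 3 = 0 := Nat.factorization_eq_zero_of_not_dvd h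
    exact ⟨Or.inl h2, Or.inr (by omega)⟩

/-- the product -/
def pr (q m : ℕ) : ℕ := ∏ i ∈ Finset.range m, (q ^ (2 * (i + 1)) - 1)

variable {q : ℕ}

theorem pr_ne (hq : 1 < q) (m : ℕ) : pr q m ≠ 0 := by
  unfold pr
  rw [Finset.prod_ne_zero_iff]
  intro i _
  have : 1 < q ^ (2 * (i + 1)) := one_lt_pow₀ hq (by omega)
  omega

theorem three_sq (hq3 : ¬ 3 ∣ q) : 3 ∣ q ^ 2 - 1 := by
  rw [sq_eq]
  rcases (show q % 3 = 1 ∨ q % 3 = 2 by omega) with h | h
  · exact Dvd.dvd.mul_left (by omega) _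
  · exact Dvd.dvd.mul_right (by omega) _

theorem fac_pr (hq : 1 < q) (hq3 : ¬ 3 ∣ q) (h9 : ¬ 9 ∣ q ^ 2 - 1) (m : ℕ) :
    (pr q m).factorization 3 = m + m.factorial.factorization 3 := by
  unfold pr
  rw [Cfsg.Agent.H978.ThreeTor.fact_prod hq (fun h => hq3 (by exact_mod_cast h)), fac_one (three_sq hq3) h9, mul_one]

theorem pr_succ (m : ℕ) : (pr q (m + 1)) = pr q m * ((q ^ (m + 1)) ^ 2 - 1) := by
  unfold pr
  rw [Finset.prod_range_succ, ← pow_mul, mul_comm (m + 1) 2]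

/-- no order with 3-part `3 ^ 7` -/
theorem no_order (hq : 1 < q) (hq3 : ¬ 3 ∣ q) (h9 : ¬ 9 ∣ q ^ 2 - 1) {m d N n y : ℕ} (hm : 1 ≤ m)
    (hy : y = q ^ m - 1 ∨ y = q ^ m + 1) (hd : ¬ 3 ∣ d)
    (h : d * N = q ^ n * y * pr q (m - 1)) (hN : N.factorization 3 = 7) : False := by
  obtain ⟨k, rfl⟩ : ∃ k, m = k + 1 := ⟨m - 1, by omega⟩
  rw [Nat.add_sub_cancel] at h
  have hq1 : 2 ≤ q ^ (k + 1) := by
    have := Nat.one_lt_pow (n := k + 1) (by omega) hq
    omega
  have hy0 : y ≠ 0 := by omega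
  have h1 : y.factorization 3 = 0 ∨ y.factorization 3 = ((q ^ (k + 1)) ^ 2 - 1).factorization 3 := by
    rcases hy with rfl | rfl
    · exact (half hq1).1
    · exact (half hq1).2
  have hN0 : N ≠ 0 := by
    rintro rfl
    simp at hN
  have hd0 : d ≠ 0 := by rintro rfl; exact hd (dvd_zero _)
  have h2 := congrArg (fun k : ℕ => k.factorization 3) h
  rw [Nat.factorization_mul hd0 hN0, Nat.factorization_mul (mul_ne_zero (pow_ne_zero _ (by omega)) hy0) (pr_ne hq k),
    Nat.factorization_mul (pow_ne_zero _ (by omega)) hy0, Nat.factorization_pow] at h2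
  simp only [Finsupp.add_apply, Finsupp.smul_apply, smul_eq_mul, Nat.factorization_eq_zero_of_not_dvd hq3,
    Nat.factorization_eq_zero_of_not_dvd hd, mul_zero, zero_add] at h2
  have h3 := fac_pr hq hq3 h9 k
  have h4 := fac_pr hq hq3 h9 (k + 1)
  have h5 : ((q ^ (k + 1)) ^ 2 - 1) ≠ 0 := by
    have : 1 < (q ^ (k + 1)) ^ 2 := Nat.one_lt_pow (by norm_num) (by omega)
    omega
  rw [pr_succ, Nat.factorization_mul (pr_ne hq k) h5, Finsupp.add_apply] at h4
  have h6 := no7 k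
  have h7 := no7 (k + 1)
  rcases h1 with h1 | h1 <;> omega

end Num

section rows

variable {F : Type} [Field F] [Fintype F]

theorem not_three (h3 : (3 : F) ≠ 0) : ¬ 3 ∣ Fintype.card F := fun h =>
  Cfsg.Agent.H978.ThreeTor.three_not_dvd h3 (by exact_mod_cast h)

theorem fac7 {K : Type*} [Group K] (hV : Vn 7 K) : (Nat.card K).factorization 3 = 7 :=
  Cfsg.Agent.H325.RowPSU.fac_eq hV.1 hV.2

/-- **`Ω_{2m+1}(q)`** -/
theorem row7_oodd {m : ℕ} (hm : 3 ≤ m) (ho : Odd (Fintype.card F)) (h3 : (3 : F) ≠ 0) :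
    Row7 (POmega F (quadFormOdd m F)) := by
  intro hV
  by_cases h9 : 9 ∣ Nat.card F ^ 2 - 1
  · obtain ⟨f, hf⟩ := Cfsg.Agent.H376.WordEmb.sl_two_sl (F := F) m (by omega)
    obtain ⟨g, hg⟩ := Cfsg.Agent.H376.WordEmb.sl_odd (F := F) m
    exact big7_iso h3 h9 (g.comp f) (hg.comp hf)
  exfalso
  have hq : 1 < Fintype.card F := Fintype.one_lt_card
  have hq3 := not_three h3
  rw [Nat.card_eq_fintype_card] at h9
  have h1 := Cfsg.Agent.S0292.result (F := F) rfl ho m hm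
  have h2 := congrArg (fun k : ℕ => k.factorization 3) h1
  have hN := fac7 hV
  have hN0 : Nat.card (POmega F (quadFormOdd m F)) ≠ 0 := by
    intro h
    rw [h] at hN
    simp at hN
  change (2 * Nat.card (POmega F (quadFormOdd m F))).factorization 3 =
    (Fintype.card F ^ (m ^ 2) * pr (Fintype.card F) m).factorization 3 at h2
  rw [Nat.factorization_mul (by norm_num) hN0, Nat.factorization_mul (pow_ne_zero _ (by omega)) (pr_ne hq m),
    Nat.factorization_pow] at h2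
  simp only [Finsupp.add_apply, Finsupp.smul_apply, smul_eq_mul, Nat.factorization_eq_zero_of_not_dvd hq3,
    Nat.factorization_eq_zero_of_not_dvd (show ¬ 3 ∣ 2 by norm_num), mul_zero, zero_add] at h2
  rw [fac_pr hq hq3 h9, hN] at h2
  exact no7 m h2.symm

/-- **`PΩ⁺_{2m}(q)`** -/
theorem row7_oplus {m : ℕ} (hm : 4 ≤ m) (h3 : (3 : F) ≠ 0) : Row7 (POmega F (quadFormPlus m F)) := by
  intro hV
  by_cases h9 : 9 ∣ Nat.card F ^ 2 - 1
  · obtain ⟨f, hf⟩ := Cfsg.Agent.H376.WordEmb.sl_two_sl (F := F) m (by omega)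
    obtain ⟨g, hg⟩ := Cfsg.Agent.H376.WordEmb.sl_plus (F := F) m
    exact big7_iso h3 h9 (g.comp f) (hg.comp hf)
  exfalso
  rw [Nat.card_eq_fintype_card] at h9
  refine no_order Fintype.one_lt_card (not_three h3) h9 (m := m) (by omega) (Or.inl rfl) (fun h => ?_)
    (Cfsg.Agent.S0293.result (F := F) rfl m hm) (fac7 hV)
  have h5 := h.trans (Nat.gcd_dvd_left 4 _)
  omega

/-- **`PΩ⁻_{2m}(q)`** -/
theorem row7_ominus {m : ℕ} (hm : 4 ≤ m) {a b : F}
    (hab : ∀ z₁ z₂ : F, z₁ ^ 2 + a * z₁ * z₂ + b * z₂ ^ 2 = 0 → z₁ = 0 ∧ z₂ = 0) (h3 : (3 : F) ≠ 0) :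
    Row7 (POmega F (quadFormMinus (m - 1) F a b)) := by
  intro hV
  by_cases h9 : 9 ∣ Nat.card F ^ 2 - 1
  · obtain ⟨f, hf⟩ := Cfsg.Agent.H376.WordEmb.sl_two_sl (F := F) (m - 1) (by omega)
    obtain ⟨g, hg⟩ := Cfsg.Agent.H376.WordEmb.sl_minus (F := F) (m - 1) a b
    exact big7_iso h3 h9 (g.comp f) (hg.comp hf)
  exfalso
  rw [Nat.card_eq_fintype_card] at h9
  refine no_order Fintype.one_lt_card (not_three h3) h9 (m := m) (by omega) (Or.inr rfl) (fun h => ?_)
    (Cfsg.Agent.S0294.result (F := F) rfl m hm a b hab) (fac7 hV)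
  have h5 := h.trans (Nat.gcd_dvd_left 4 _)
  omega

end rows

end Cfsg.Agent.H953.SevenOrth
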