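import Cfsg.Agent.H775.Elim7
import Cfsg.Agent.H376.WordEmb
import Cfsg.Agent.H356.SLTorus
import Cfsg.Agent.H458.Ab3
import Cfsg.Agent.H325.RowPSU
import Cfsg.Agent.H978.ThreeTor

/-!
# Linear, unitary and symplectic rows of `H775.Elim7.Row7` (helper953, tasks 1307-1309, S5231)

If `9 ∣ q ^ 2 - 1` there is an element of order 9 in a subgroup `SL₂(q)`; otherwise the 3-part of the order is not
`3 ^ 7`.
-/

set_option autoImplicit false

namespace Cfsg.Agent.H953.SevenRows

open Cfsg.Agent.H775.Elim7 Cfsg.Agent.H777.Elim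

/-- an element of order 9 from a subgroup `SL₂(q)` -/
theorem big7_sl {F : Type*} [Field F] [Finite F] (h3 : (3 : F) ≠ 0) (h9 : 9 ∣ Nat.card F ^ 2 - 1)
    {H : Type*} [Group H] (f : Matrix.SpecialLinearGroup (Fin 2) F →* H) (hf : Function.Injective f) :
    Big7 (H ⧸ Subgroup.center H) := by
  obtain ⟨A, -, -, a, -, ha⟩ := Cfsg.Agent.H356.SLTorus.exists_one (n := 2) h3 (by simpa using h9)
    (QuotientGroup.mk' (Subgroup.center H)) (by rw [QuotientGroup.ker_mk']) f hf
  exact Or.inr ⟨a, by simpa using ha⟩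

/-! ### arithmetic -/

section Num

theorem fac_mono {a b : ℕ} (h : a ≤ b) : a.factorial.factorization 3 ≤ b.factorial.factorization 3 :=
  (Nat.factorization_le_iff_dvd (Nat.factorial_ne_zero _) (Nat.factorial_ne_zero _)).2
    (Nat.factorial_dvd_factorial h) 3

theorem fac_five : (Nat.factorial 5).factorization 3 = 1 := Cfsg.Agent.H325.RowPSU.fac_eq (by decide) (by decide)

theorem fac_six : (Nat.factorial 6).factorization 3 = 2 := Cfsg.Agent.H325.RowPSU.fac_eq (by decide) (by decide)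

theorem no7 (k : ℕ) : k + k.factorial.factorization 3 ≠ 7 := by
  intro h
  rcases le_or_gt k 5 with h5 | h5
  · have := fac_mono h5
    rw [fac_five] at this
    omega
  · have := fac_mono (show 6 ≤ k by omega)
    rw [fac_six] at this
    omega

theorem no7' {n g : ℕ} (hg : g ≤ 1) (hg' : n ≤ 5 ∨ n = 7 → g ≤ n.factorization 3)
    (h6 : n = 6 → g = 1) : n + n.factorial.factorization 3 ≠ 1 + (7 + g) := by
  intro h
  rcases le_or_gt n 5 with h5 | h5
  · have := fac_mono h5
    rw [fac_five] at this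
    omega
  · have := fac_mono (show 6 ≤ n by omega)
    rw [fac_six] at this
    have h7 : n = 7 ∨ n = 6 := by omega
    rcases h7 with rfl | rfl
    · have h8 := hg' (Or.inr rfl)
      have : (7 : ℕ).factorization 3 = 0 := Nat.factorization_eq_zero_of_not_dvd (by norm_num)
      omega
    · have := h6 rfl
      rw [fac_six] at h
      omega

/-- the 3-part is `3` -/
theorem fac_one {x : ℕ} (h3 : 3 ∣ x) (h9 : ¬ 9 ∣ x) : x.factorization 3 = 1 :=
  Cfsg.Agent.H325.RowPSU.fac_eq (by simpa using h3) (by simpa using h9)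

theorem sq_eq (q : ℕ) : q ^ 2 - 1 = (q + 1) * (q - 1) := by
  have := Nat.sq_sub_sq q 1
  rwa [one_pow] at this

theorem fac_gcd {n x : ℕ} (h3 : 3 ∣ x) (h9 : ¬ 9 ∣ x) (hn : 0 < n) :
    (Nat.gcd n x).factorization 3 = min (n.factorization 3) 1 := by
  have hx : x ≠ 0 := by rintro rfl; exact h9 (dvd_zero _)
  rw [Nat.factorization_gcd (by omega) hx, Finsupp.inf_apply, fac_one h3 h9]

theorem no7'' {n : ℕ} : n + n.factorial.factorization 3 ≠ 1 + (7 + min (n.factorization 3) 1) :=
  no7' (by omega) (by omega) (by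
    rintro rfl
    have : (6 : ℕ).factorization 3 = 1 := Cfsg.Agent.H325.RowPSU.fac_eq (by decide) (by decide)
    omega)

end Num

/-! ### the linear groups -/

/-- **the row of `PSL_n(q)`** -/
theorem row7_psl {n : ℕ} (hn : 2 ≤ n) {F : Type} [Field F] [Fintype F] (h3 : (3 : F) ≠ 0) :
    Row7 (Matrix.ProjectiveSpecialLinearGroup (Fin n) F) := by
  intro hV
  by_cases h9 : 9 ∣ Nat.card F ^ 2 - 1
  · obtain ⟨f, hf⟩ := Cfsg.Agent.H376.WordEmb.sl_two_sl (F := F) n hn
    exact big7_sl h3 h9 f hf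
  exfalso
  have hq1 : 1 < Nat.card F := Finite.one_lt_card
  have hZ : Nat.card (Subgroup.center (Matrix.SpecialLinearGroup (Fin n) F)) = Nat.gcd n (Nat.card F - 1) := by
    have : Nonempty (Fin n) := ⟨⟨0, by omega⟩⟩
    rw [Nat.card_congr (Matrix.SpecialLinearGroup.center_equiv_rootsOfUnity'
      (n := Fin n) (R := F) ⟨0, by omega⟩).toEquiv, rootsOfUnity_eq_ker,
      IsCyclic.card_powMonoidHom_ker, Nat.card_units, Fintype.card_fin, Nat.gcd_comm]
  have hK := Cfsg.Agent.H458.Ab3.v_quot (Subgroup.center (Matrix.SpecialLinearGroup (Fin n) F))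
  have hV' : (Nat.card (Matrix.SpecialLinearGroup (Fin n) F ⧸ Subgroup.center (Matrix.SpecialLinearGroup (Fin n) F))).factorization 3 = 7 :=
    Cfsg.Agent.H458.Ab3.vn_iff.1 hV
  rcases Cfsg.Agent.H458.Ab3.order_cases h3 with ⟨he, h31⟩ | ⟨he, h31⟩
  · have hS := Cfsg.Agent.H458.Ab3.vSL he one_ne_zero (n := n) (by omega)
    have h91 : ¬ 9 ∣ Nat.card F - 1 := fun h => h9 (by rw [sq_eq]; exact h.mul_left _)
    rw [Nat.div_one, pow_one, Nat.card_units, fac_one h31 h91] at hS
    rw [hZ, fac_gcd h31 h91 (by omega), hV'] at hK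
    have := no7'' (n := n)
    omega
  · have hS := Cfsg.Agent.H458.Ab3.vSL he two_ne_zero (n := n) (by omega)
    have hpq1 : ¬ 3 ∣ Nat.card F - 1 := by omega
    have hu : (Nat.card Fˣ).factorization 3 = 0 := by
      rw [Nat.card_units]
      exact Nat.factorization_eq_zero_of_not_dvd hpq1
    have hz : (Nat.card (Subgroup.center (Matrix.SpecialLinearGroup (Fin n) F))).factorization 3 = 0 := by
      rw [hZ]
      exact Nat.factorization_eq_zero_of_not_dvd fun h => hpq1 (h.trans (Nat.gcd_dvd_right _ _))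
    rw [fac_one (by rw [sq_eq]; exact h31.mul_right _) h9] at hS
    have := no7 (n / 2)
    omega

/-! ### the unitary groups -/

open Cfsg Cfsg.Agent.H494.PSURow Cfsg.Agent.LieClassical.SUBasic Cfsg.Agent.LieClassical.HermBasic in
theorem order_eq7 {F : Type*} [Field F] [Fintype F] {q : ℕ} (hF : Fintype.card F = q ^ 2) (h3 : ¬ 3 ∣ q) {n : ℕ}
    (hn : 3 ≤ n) (hV : Vn 7 (PSU n F q)) :
    (Nat.gcd n (q + 1)).factorization 3 + ((q + 1).factorization 3 + 7) =
      (Cfsg.Agent.H325.RowPSU.pr n q).factorization 3 := by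
  have h := Cfsg.Agent.S0280.result hF n (by omega)
  have hN := Cfsg.Agent.H325.RowPSU.fac_eq hV.1 hV.2
  have hN0 : Nat.card (PSU n F q) ≠ 0 := by
    intro h0
    apply hV.2
    rw [h0]
    exact dvd_zero _
  have hg0 : Nat.gcd n (q + 1) ≠ 0 := Nat.gcd_ne_zero_right (by omega)
  have hq0 : 2 ≤ q := two_le hF
  have hp0 : Cfsg.Agent.H325.RowPSU.pr n q ≠ 0 := by
    unfold Cfsg.Agent.H325.RowPSU.pr
    refine Finset.prod_ne_zero_iff.2 fun i _ => ?_
    split_ifs
    · omega
    · have := Nat.one_lt_pow (n := i + 1) (by omega) (show 1 < q by omega)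
      omega
  have h2 := congrArg (fun k : ℕ => k.factorization 3) h
  change (Nat.gcd n (q + 1) * ((q + 1) * Nat.card (PSU n F q))).factorization 3 =
    (q ^ (n * (n - 1) / 2) * Cfsg.Agent.H325.RowPSU.pr n q).factorization 3 at h2
  rw [Nat.factorization_mul hg0 (mul_ne_zero (by omega) hN0), Nat.factorization_mul (by omega) hN0,
    Nat.factorization_mul (pow_ne_zero _ (by omega)) hp0, Nat.factorization_pow] at h2
  simp only [Finsupp.add_apply, Finsupp.smul_apply, smul_eq_mul, Nat.factorization_eq_zero_of_not_dvd h3, mul_zero,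
    zero_add] at h2
  rw [hN] at h2
  exact h2

open Cfsg Cfsg.Agent.H494.PSURow Cfsg.Agent.LieClassical.SUBasic Cfsg.Agent.LieClassical.HermBasic in
/-- **the row of `PSU_n(q)`** -/
theorem row7_psu {n q : ℕ} (hn : 3 ≤ n) {F : Type} [Field F] [Fintype F] (hq : Fintype.card F = q ^ 2)
    (h3 : (3 : F) ≠ 0) : Row7 (Cfsg.PSU n F q) := by
  intro hV
  have hq2 : 2 ≤ q := two_le hq
  have hq3 : ¬ 3 ∣ q := by
    intro h
    apply h3
    obtain ⟨ℓ, k, hℓp, hℓ, hk, -⟩ := exists_prime_pow hq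
    rw [hk] at h
    have h4 := (Nat.prime_dvd_prime_iff_eq Nat.prime_three hℓp).1 (Nat.prime_three.dvd_of_dvd_pow h)
    have h5 := CharP.cast_eq_zero F ℓ
    rw [← h4] at h5
    exact_mod_cast h5
  by_cases h9 : 9 ∣ q ^ 2 - 1
  · obtain ⟨K, _, _, hK⟩ := Cfsg.Agent.S0280.exists_field hq
    obtain ⟨e⟩ := Cfsg.Agent.S0281.result hq hK
    obtain ⟨m, rfl⟩ := Nat.exists_eq_add_of_le (show 2 ≤ n by omega)
    have h3K : (3 : K) ≠ 0 := by
      intro h
      have hc : CharP K 3 := by
        obtain ⟨p, hp⟩ := CharP.exists K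
        have hpp : p.Prime := CharP.char_is_prime K p
        have h1 : p ∣ 3 := (CharP.cast_eq_zero_iff K p 3).1 (by exact_mod_cast h)
        have h2 : p = 3 := (Nat.prime_dvd_prime_iff_eq hpp Nat.prime_three).1 h1
        rwa [h2] at hp
      obtain ⟨k, -, hk⟩ := FiniteField.card K 3
      apply hq3
      rw [← hK, hk]
      exact dvd_pow_self 3 k.ne_zero
    refine big7_sl (F := K) h3K (by rw [Nat.card_eq_fintype_card, hK]; exact h9)
      (((blk 2 m F q).comp (MonoidHom.inl _ _)).comp e.symm.toMonoidHom) ?_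
    intro a b hab
    have h1 := blk_injective 2 m q hab
    exact e.symm.injective (congrArg Prod.fst h1)
  exfalso
  have heq := order_eq7 hq hq3 hn hV
  by_cases hp : 3 ∣ q + 1
  · have h91 : ¬ 9 ∣ q + 1 := fun h => h9 (by rw [sq_eq]; exact h.mul_right _)
    rw [Cfsg.Agent.H325.RowPSU.v_plus hq2 hp, fac_gcd hp h91 (by omega), fac_one hp h91] at heq
    have := no7'' (n := n)
    omega
  · have hm : 3 ∣ q - 1 := by omega
    have h91 : ¬ 9 ∣ q - 1 := fun h => h9 (by rw [sq_eq]; exact h.mul_left _)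
    rw [Cfsg.Agent.H325.RowPSU.v_minus hq2 hm, Nat.factorization_eq_zero_of_not_dvd hp,
      Nat.factorization_eq_zero_of_not_dvd (fun h => hp (h.trans (Nat.gcd_dvd_right _ _))), fac_one hm h91] at heq
    have := no7 (n / 2)
    omega

/-! ### the symplectic groups -/

/-- **the row of `PSp_{2m}(q)`** -/
theorem row7_psp {m : ℕ} (hm : 1 ≤ m) {F : Type} [Field F] [Fintype F] (h3 : (3 : F) ≠ 0) :
    Row7 (Cfsg.PSp m F) := by
  intro hV
  by_cases h9 : 9 ∣ Nat.card F ^ 2 - 1
  · refine big7_sl h3 h9 ((Cfsg.Agent.H978.ThreeTor.blk m F).comp (MonoidHom.pi fun _ => MonoidHom.id _)) ?_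
    intro a b hab
    have h1 := Cfsg.Agent.H978.ThreeTor.blk_injective hab
    exact congrFun h1 ⟨0, by omega⟩
  exfalso
  have hq : 1 < Fintype.card F := Fintype.one_lt_card
  have hq3 := Cfsg.Agent.H978.ThreeTor.three_not_dvd h3
  have hq3' : ¬ 3 ∣ Fintype.card F := fun h => hq3 (by exact_mod_cast h)
  have hK := Cfsg.Agent.H458.Ab3.v_quot (Subgroup.center (Matrix.symplecticGroup (Fin m) F))
  have hV' : (Nat.card (Matrix.symplecticGroup (Fin m) F ⧸ Subgroup.center (Matrix.symplecticGroup (Fin m) F))).factorization 3 = 7 :=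
    Cfsg.Agent.H458.Ab3.vn_iff.1 hV
  have hz : (Nat.card (Subgroup.center (Matrix.symplecticGroup (Fin m) F))).factorization 3 = 0 := by
    rw [S0246.result (F := F) rfl m hm]
    refine Nat.factorization_eq_zero_of_not_dvd fun h => ?_
    have := Nat.le_of_dvd (by norm_num) (h.trans (Nat.gcd_dvd_left _ _))
    omega
  have hne : ∏ i ∈ Finset.range m, (Fintype.card F ^ (2 * (i + 1)) - 1) ≠ 0 := by
    rw [Finset.prod_ne_zero_iff]
    intro i _
    have : 1 < Fintype.card F ^ (2 * (i + 1)) := one_lt_pow₀ hq (by omega)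
    omega
  have h31 : 3 ∣ Fintype.card F ^ 2 - 1 := by
    rw [sq_eq]
    rcases (show Fintype.card F % 3 = 1 ∨ Fintype.card F % 3 = 2 by omega) with h | h
    · exact Dvd.dvd.mul_left (by omega) _
    · exact Dvd.dvd.mul_right (by omega) _
  rw [Nat.card_eq_fintype_card] at h9
  rw [hV', hz, S0245.result (F := F) rfl m, Nat.factorization_mul (pow_ne_zero _ (by omega)) hne, Finsupp.add_apply,
    Nat.factorization_pow, Finsupp.smul_apply, Nat.factorization_eq_zero_of_not_dvd hq3', smul_zero, zero_add,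
    Cfsg.Agent.H978.ThreeTor.fact_prod hq hq3, fac_one h31 h9, mul_one] at hK
  exact no7 m (by omega)

end Cfsg.Agent.H953.SevenRows
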