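import Cfsg.Agent.OrdDiv.Main
import Cfsg.Agent.S0279
import Cfsg.Agent.H846.Elim.PSLe
import Cfsg.Agent.H953.SevenRows
import Cfsg.Agent.H953.SevenOrth
import Cfsg.Agent.H953.SevenExc
import Cfsg.Agent.H953.SevenSpor
import Cfsg.Agent.LieClassical.OmegaReindex
import Mathlib.LinearAlgebra.Matrix.SpecialLinearGroup

/-!
# The simple groups with Sylow 3-subgroup of order `3 ^ 7`: assembly (helper953, task 1312, S5231)

`elim_known`: a known simple group whose order has 3-part `3 ^ 7` has an abelian 3-subgroup of order at least `3 ^ 6` or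
an element of order 9. (Adapted from `H352/Th/Rest`.)
-/

set_option autoImplicit false

namespace Cfsg.Agent.H953.SevenElim

open Cfsg Cfsg.Agent.OrdDiv Cfsg.Agent.H777.Elim Cfsg.Agent.H775.Elim7

universe u

/-! ### characteristic three -/

theorem three_ne {F : Type*} [Field F] [Fintype F] (h : ¬ 3 ∣ Fintype.card F) : (3 : F) ≠ 0 := by
  intro h3
  apply h
  obtain ⟨p, hp⟩ := CharP.exists F
  have hpp : p.Prime := (CharP.char_is_prime_or_zero F p).resolve_right (by
    intro h0
    subst h0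
    have := CharP.charP_to_charZero F
    exact not_finite F)
  obtain ⟨n, hn⟩ := FiniteField.card F p
  have h1 : p ∣ 3 := (CharP.cast_eq_zero_iff F p 3).1 (by exact_mod_cast h3)
  have h2 : p = 3 := (Nat.prime_dvd_prime_iff_eq hpp Nat.prime_three).1 h1
  rw [hn.2, h2]
  exact dvd_pow_self 3 n.ne_zero

theorem three_ne_of_pow {F : Type*} [Field F] [Fintype F] {q k : ℕ} (hF : Fintype.card F = q ^ k) (h : ¬ 3 ∣ q) :
    (3 : F) ≠ 0 := three_ne (by rw [hF]; exact fun h1 => h (Nat.prime_three.dvd_of_dvd_pow h1))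

theorem charP_three {F : Type*} [Field F] [Fintype F] (h : 3 ∣ Fintype.card F) : CharP F 3 := by
  obtain ⟨p, hp⟩ := CharP.exists F
  have hpp : p.Prime := (CharP.char_is_prime_or_zero F p).resolve_right (by
    intro h0
    subst h0
    have := CharP.charP_to_charZero F
    exact not_finite F)
  obtain ⟨n, hn⟩ := FiniteField.card F p
  rw [hn.2] at h
  have h1 : p = 3 := ((Nat.prime_dvd_prime_iff_eq Nat.prime_three hpp).1 (Nat.prime_three.dvd_of_dvd_pow h)).symm
  rwa [h1] at hp

/-- the 3-part of a group of Lie type in characteristic three is at least `q ^ e` -/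
theorem le_seven {q e d N u : ℕ} (hq : IsPrimePow q) (h3 : 3 ∣ q) (hd : d.Coprime q) (h : d * N = q ^ e * u)
    (hV : ¬ 3 ^ 8 ∣ N) : ∃ f, 1 ≤ f ∧ q = 3 ^ f ∧ f * e ≤ 7 := by
  obtain ⟨p, f, hp, hf, rfl⟩ := (isPrimePow_nat_iff q).1 hq
  have hp3 : p = 3 := ((Nat.prime_dvd_prime_iff_eq Nat.prime_three hp).1 (Nat.prime_three.dvd_of_dvd_pow h3)).symm
  subst hp3
  refine ⟨f, hf, rfl, ?_⟩
  by_contra hlt
  push Not at hlt
  have h1 : (3 ^ f) ^ e ∣ N :=
    Nat.Coprime.dvd_of_dvd_mul_left (Nat.Coprime.pow_left _ hd.symm) (Dvd.intro _ h.symm)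
  rw [← pow_mul] at h1
  exact hV ((pow_dvd_pow 3 (by omega)).trans h1)

theorem eq_seven {q e d N u : ℕ} (hq : IsPrimePow q) (h3 : 3 ∣ q) (hd : d.Coprime q) (hu : u.Coprime q)
    (h : d * N = q ^ e * u) (hV : 3 ^ 7 ∣ N ∧ ¬ 3 ^ 8 ∣ N) : ∃ f, 1 ≤ f ∧ q = 3 ^ f ∧ f * e = 7 := by
  obtain ⟨f, hf, rfl, hle⟩ := le_seven hq h3 hd h hV.2
  refine ⟨f, hf, rfl, le_antisymm hle ?_⟩
  have h1 : 3 ^ 7 ∣ (3 ^ f) ^ e * u := by rw [← h]; exact hV.1.mul_left d
  have h2 : (3 ^ 7).Coprime u := (Nat.Coprime.coprime_dvd_right h3 hu).symm.pow_left 7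
  have h4 := h2.dvd_of_dvd_mul_right h1
  rw [← pow_mul] at h4
  exact (Nat.pow_dvd_pow_iff_le_right (by norm_num)).1 h4

/-- `q ≥ 3 ^ 6` is large enough for `PSL_n(q)` -/
theorem big7_root {n : ℕ} (hn : 2 ≤ n) {F : Type*} [Field F] [Fintype F] (h3 : 3 ∣ Fintype.card F)
    (hq : 3 ^ 6 ≤ Fintype.card F) : Big7 (Matrix.ProjectiveSpecialLinearGroup (Fin n) F) := by
  have := charP_three h3
  have h3F := Fact.mk Nat.prime_three
  apply Big7.of_big
  obtain ⟨e, he⟩ : ∃ e : Fin n → F, e = Pi.single ⟨0, by omega⟩ 1 := ⟨_, rfl⟩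
  obtain ⟨φ, hφ⟩ : ∃ φ : Fin n → F, φ = Pi.single ⟨1, by omega⟩ 1 := ⟨_, rfl⟩
  have h : φ ⬝ᵥ e = 0 := by
    rw [he, hφ, single_dotProduct, Pi.single_apply, if_neg (by simp), mul_zero]
  have he0 : e ≠ 0 := by
    rw [he]
    intro h
    have := congrFun h ⟨0, by omega⟩
    simp at this
  have hφ0 : φ ≠ 0 := by
    rw [hφ]
    intro h
    have := congrFun h ⟨1, by omega⟩
    simp at this
  have hcube : ∀ x : Multiplicative F, x ^ 3 ^ 1 = 1 := by
    intro x
    rw [pow_one]
    apply Multiplicative.toAdd.injective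
    rw [toAdd_pow, toAdd_one, nsmul_eq_mul]
    have := CharP.cast_eq_zero F 3
    rw [this, zero_mul]
  refine Big.of_hom (A := (⊤ : Subgroup (Multiplicative F)))
    ((QuotientGroup.mk' (Subgroup.center (Matrix.SpecialLinearGroup (Fin n) F))).comp
      (Cfsg.Agent.H846.Elim.tvm e φ h)) ?_ ?_ ?_ ?_
  · rintro ⟨x, hx⟩
    exact ⟨1, Subtype.ext (hcube x)⟩
  · intro x _ y _
    exact mul_comm x y
  · rw [Subgroup.card_top, Nat.card_congr (Multiplicative.toAdd (α := F)), Nat.card_eq_fintype_card]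
    exact hq
  · intro x _ hx
    have h1 := Cfsg.Agent.H846.Elim.sl_ker hn (Cfsg.Agent.H846.Elim.tvm e φ h x) hx 1 (by
      rw [← map_pow, hcube, map_one])
    exact Cfsg.Agent.H846.Elim.tvm_injective h he0 hφ0 (by rw [h1, map_one])

/-! ### the classical families -/

theorem glN_eq {q : ℕ} (hq : 1 ≤ q) (n : ℕ) :
    glN n q = q ^ (n * (n - 1) / 2) * ∏ i ∈ Finset.range n, (q ^ (i + 1) - 1) := by
  unfold glN
  rw [prod_list, ← Finset.sum_range_id, ← Finset.prod_pow_eq_pow_sum,
    ← Finset.prod_range_reflect (fun i => q ^ (i + 1) - 1) n, ← Finset.prod_mul_distrib]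
  refine Finset.prod_congr rfl fun i hi => ?_
  have hi' := Finset.mem_range.1 hi
  rw [Nat.mul_sub, mul_one, ← pow_add]
  congr 2
  omega

section

variable {X : Type*} [Group X]

theorem psl_case {F : Type} [Field F] [Fintype F] {n : ℕ} (hn : 2 ≤ n)
    (hV : Vn 7 X) (hB : ¬ Big7 X)
    (e : X ≃* Matrix.ProjectiveSpecialLinearGroup (Fin n) F) : False := by
  by_cases ho : 3 ∣ Fintype.card F
  swap
  · exact hB ((SevenRows.row7_psl hn (three_ne ho)).congr e.symm hV)
  have hq1 : 1 < Fintype.card F := Fintype.one_lt_card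
  have h1 := cop_sub (q := Fintype.card F) (k := 1) (by omega) le_rfl
  rw [pow_one] at h1
  have hc := S0243.result (F := F) rfl n hn
  rw [Fin.prod_univ_eq_prod_range (fun i => Fintype.card F ^ n - Fintype.card F ^ i) n, ← prod_list] at hc
  have hc' : Nat.gcd n (Fintype.card F - 1) * (Fintype.card F - 1) *
      Nat.card (Matrix.ProjectiveSpecialLinearGroup (Fin n) F) = glN n (Fintype.card F) := by
    rw [mul_assoc]; exact hc
  rw [glN_eq (by omega)] at hc'
  obtain ⟨f, hf, hqf, hle⟩ := eq_seven Fintype.isPrimePow_card_of_field ho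
    (Nat.Coprime.mul_left (Nat.Coprime.coprime_dvd_left (Nat.gcd_dvd_right _ _) h1) h1)
    (Nat.Coprime.prod_left fun i _ => cop_sub (by omega) (by omega)) hc'
    (by rw [← Nat.card_congr e.toEquiv]; exact hV)
  have hn5 : n ≤ 5 := by
    by_contra hlt
    push Not at hlt
    have h2 : 6 * 5 ≤ n * (n - 1) := Nat.mul_le_mul (by omega) (by omega)
    have h3 : 15 ≤ n * (n - 1) / 2 := by omega
    have : 1 * 15 ≤ f * (n * (n - 1) / 2) := Nat.mul_le_mul hf h3
    omega
  have hf7 : 6 ≤ f := by interval_cases n <;> omega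
  exact hB ((big7_root hn ho (by rw [hqf]; exact Nat.pow_le_pow_right (by norm_num) hf7)).congr e.symm)

theorem psp_case {F : Type} [Field F] [Fintype F] {m : ℕ} (hm : 2 ≤ m)
    (hV : Vn 7 X) (hB : ¬ Big7 X)
    (e : X ≃* PSp m F) : False := by
  by_cases ho : 3 ∣ Fintype.card F
  swap
  · exact hB ((SevenRows.row7_psp (by omega) (three_ne ho)).congr e.symm hV)
  have hq : 1 < Fintype.card F := Fintype.one_lt_card
  have h1 := cop_sub (q := Fintype.card F) (k := 1) (by omega) le_rfl
  rw [pow_one] at h1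
  have hd : (Nat.gcd 2 (Fintype.card F - 1)).Coprime (Fintype.card F) :=
    Nat.Coprime.coprime_dvd_left (Nat.gcd_dvd_right _ _) h1
  have hc : Nat.gcd 2 (Fintype.card F - 1) * Nat.card (PSp m F) =
      Fintype.card F ^ (m ^ 2) * ∏ i ∈ Finset.range m, (Fintype.card F ^ (2 * (i + 1)) - 1) := by
    have h1 := S0245.result (F := F) rfl m
    have h2 := S0246.result (F := F) rfl m (by omega)
    have h3 := Subgroup.card_eq_card_quotient_mul_card_subgroup
      (Subgroup.center (Matrix.symplecticGroup (Fin m) F))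
    rw [h1, h2] at h3
    rw [mul_comm]
    exact h3.symm
  obtain ⟨f, hf, -, hle⟩ := eq_seven Fintype.isPrimePow_card_of_field ho hd
    (Nat.Coprime.prod_left fun i _ => cop_sub Fintype.card_pos (by omega)) hc
    (by rw [← Nat.card_congr e.toEquiv]; exact hV)
  have hm3 : m = 2 := by
    by_contra hlt
    have h2 : 3 * 3 ≤ m * m := Nat.mul_le_mul (by omega) (by omega)
    rw [← sq m] at h2
    have : 1 * 9 ≤ f * m ^ 2 := Nat.mul_le_mul hf h2
    omega
  subst hm3
  omega

theorem psu_case {F : Type} [Field F] [Fintype F] {n q : ℕ} (hF : Fintype.card F = q ^ 2) (hn : 3 ≤ n)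
    (hV : Vn 7 X) (hB : ¬ Big7 X) (e : X ≃* PSU n F q) : False := by
  have hq2 : IsPrimePow (q ^ 2) := hF ▸ Fintype.isPrimePow_card_of_field
  have hqp : IsPrimePow q := (isPrimePow_pow_iff (by norm_num)).1 hq2
  by_cases ho : 3 ∣ q
  swap
  · exact hB ((SevenRows.row7_psu hn hF (three_ne_of_pow hF ho)).congr e.symm hV)
  have h1 := cop_add (q := q) (k := 1) le_rfl
  rw [pow_one] at h1
  have hc := S0280.result hF n (by omega)
  rw [← mul_assoc] at hc
  obtain ⟨f, hf, -, hle⟩ := eq_seven hqp ho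
    (Nat.Coprime.mul_left (Nat.Coprime.coprime_dvd_left (Nat.gcd_dvd_right _ _) h1) h1)
    (Nat.Coprime.prod_left fun i _ => by
      split_ifs
      · exact cop_add (by omega)
      · exact cop_sub hqp.pos (by omega)) hc
    (by rw [← Nat.card_congr e.toEquiv]; exact hV)
  have hn5 : n ≤ 4 := by
    by_contra hlt
    push Not at hlt
    have h2 : 5 * 4 ≤ n * (n - 1) := Nat.mul_le_mul (by omega) (by omega)
    have h3 : 10 ≤ n * (n - 1) / 2 := by omega
    have : 1 * 10 ≤ f * (n * (n - 1) / 2) := Nat.mul_le_mul hf h3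
    omega
  interval_cases n <;> omega

theorem oodd_case {F : Type} [Field F] [Fintype F] {m : ℕ} (hm : 3 ≤ m) (ho2 : Odd (Fintype.card F))
    (hV : Vn 7 X) (hB : ¬ Big7 X) (e : X ≃* POmega F (quadFormOdd m F)) : False := by
  by_cases ho : 3 ∣ Fintype.card F
  swap
  · exact hB ((SevenOrth.row7_oodd hm ho2 (three_ne ho)).congr e.symm hV)
  have hc := S0292.result (F := F) rfl ho2 m hm
  obtain ⟨f, hf, -, he⟩ := le_seven Fintype.isPrimePow_card_of_field ho
    (by rw [Nat.coprime_two_left]; exact ho2) hc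
    (by rw [← Nat.card_congr e.toEquiv]; exact hV.2)
  have h2 : 3 * 3 ≤ m * m := Nat.mul_le_mul (by omega) (by omega)
  rw [← sq m] at h2
  have : 1 * 9 ≤ f * m ^ 2 := Nat.mul_le_mul hf h2
  omega

theorem oplus_case {F : Type} [Field F] [Fintype F] {m : ℕ} (hm : 4 ≤ m)
    (hV : Vn 7 X) (hB : ¬ Big7 X) (e : X ≃* POmega F (quadFormPlus m F)) : False := by
  by_cases ho : 3 ∣ Fintype.card F
  swap
  · exact hB ((SevenOrth.row7_oplus hm (three_ne ho)).congr e.symm hV)
  have hc := S0293.result (F := F) rfl m hm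
  rw [mul_assoc (Fintype.card F ^ (m * (m - 1)))] at hc
  obtain ⟨f, hf, -, he⟩ := le_seven Fintype.isPrimePow_card_of_field ho
    (Nat.Coprime.coprime_dvd_left (Nat.gcd_dvd_right _ _) (cop_sub Fintype.card_pos (by omega))) hc
    (by rw [← Nat.card_congr e.toEquiv]; exact hV.2)
  have h2 : 4 * 3 ≤ m * (m - 1) := Nat.mul_le_mul (by omega) (by omega)
  have : 1 * 12 ≤ f * (m * (m - 1)) := Nat.mul_le_mul hf h2
  omega

theorem ominus_case {F : Type} [Field F] [Fintype F] {m : ℕ} (hm : 4 ≤ m) {a b : F}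
    (hab : ∀ z₁ z₂ : F, z₁ ^ 2 + a * z₁ * z₂ + b * z₂ ^ 2 = 0 → z₁ = 0 ∧ z₂ = 0)
    (hV : Vn 7 X) (hB : ¬ Big7 X) (e : X ≃* POmega F (quadFormMinus (m - 1) F a b)) : False := by
  by_cases ho : 3 ∣ Fintype.card F
  swap
  · exact hB ((SevenOrth.row7_ominus hm hab (three_ne ho)).congr e.symm hV)
  have hc := S0294.result (F := F) rfl m hm a b hab
  rw [mul_assoc (Fintype.card F ^ (m * (m - 1)))] at hc
  obtain ⟨f, hf, -, he⟩ := le_seven Fintype.isPrimePow_card_of_field ho
    (Nat.Coprime.coprime_dvd_left (Nat.gcd_dvd_right _ _) (cop_add (by omega))) hc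
    (by rw [← Nat.card_congr e.toEquiv]; exact hV.2)
  have h2 : 4 * 3 ≤ m * (m - 1) := Nat.mul_le_mul (by omega) (by omega)
  have : 1 * 12 ≤ f * (m * (m - 1)) := Nat.mul_le_mul hf h2
  omega

end

/-! ### alternating groups -/

theorem alt_case {X : Type*} [Group X] {n : ℕ} (hV : Vn 7 X)
    (e : X ≃* ↥(alternatingGroup (Fin n))) (hn : 2 ≤ n) : False := by
  have hc : n.factorial = 2 * Nat.card X := by
    have : Nontrivial (Fin n) := Fin.nontrivial_iff_two_le.2 hn
    rw [Nat.card_congr e.toEquiv]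
    have h := two_mul_nat_card_alternatingGroup (α := Fin n)
    rw [h, Nat.card_perm, Nat.card_fin]
  by_cases h18 : 18 ≤ n
  · have h1 : 3 ^ 8 ∣ 2 * Nat.card X := by
      rw [← hc]
      exact (show 3 ^ 8 ∣ (18).factorial by decide).trans (Nat.factorial_dvd_factorial h18)
    exact hV.2 ((Nat.Coprime.dvd_of_dvd_mul_left (by norm_num) h1))
  · have h1 : 3 ^ 7 ∣ n.factorial := by
      rw [hc]
      exact hV.1.mul_left 2
    have h2 : 3 ^ 7 ∣ (17).factorial := h1.trans (Nat.factorial_dvd_factorial (by omega))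
    revert h2; decide

/-! ### the assembly -/

/-- the condition on the order -/
def P (c : ℕ) : Bool := (c % 3 ^ 7 == 0) && (c % 3 ^ 8 != 0)

theorem P_of {N : ℕ} (h : 3 ^ 7 ∣ N ∧ ¬ 3 ^ 8 ∣ N) : P N = true := by
  unfold P
  rw [Bool.and_eq_true]
  refine ⟨by simpa using Nat.mod_eq_zero_of_dvd h.1, ?_⟩
  have := h.2
  norm_num at this
  simpa [Nat.dvd_iff_mod_eq_zero] using this

theorem big_contra {q e d N u : ℕ} (hq : IsPrimePow q) (h3 : 3 ∣ q) (hd : d.Coprime q) (h : d * N = q ^ e * u)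
    (hV : ¬ 3 ^ 8 ∣ N) (he : 8 ≤ e) : False := by
  obtain ⟨f, hf, -, hle⟩ := le_seven hq h3 hd h hV
  have : 1 * 8 ≤ f * e := Nat.mul_le_mul hf he
  omega

/-- **Elimination** for the known simple groups. -/
theorem elim_known (T : OrderTable.{u}) {K : Type u} [Group K] [Finite K] (h : IsKnownSimple' K)
    (hV : Vn 7 K) : Big7 K := by
  have R := SevenExc.row7_exc
  by_contra hB
  have key : ∀ (g : Grp), g ∈ spor.map (fun x => x.1) → (g ≠ .suz ∧ g ≠ .co3 ∧ g ≠ .ly) → Real g K → False :=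
    fun g hg hne hr => by
    obtain ⟨x, hx, rfl⟩ := List.mem_map.1 hg
    have h1 := P_of hV
    rw [T.spor K x hx hr] at h1
    have h2 : ∀ x ∈ spor, (x.1 ≠ .suz ∧ x.1 ≠ .co3 ∧ x.1 ≠ .ly) → P x.2 = false := by decide +kernel
    rw [h2 x hx hne] at h1
    exact absurd h1 (by decide)
  have hV' : ∀ {Y : Type} [Group Y] (e : K ≃* Y), 3 ^ 7 ∣ Nat.card Y ∧ ¬ 3 ^ 8 ∣ Nat.card Y := by
    intro Y _ e
    rw [← Nat.card_congr e.toEquiv]
    exact hV
  rcases h with h | h | h | h | h | h | h | h | h | h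
  · have h3 := (Nat.prime_dvd_prime_iff_eq Nat.prime_three h).1 ((dvd_pow_self 3 (by norm_num)).trans hV.1)
    have h4 := hV.1
    rw [← h3] at h4
    revert h4; decide
  · obtain ⟨n, hn, ⟨e⟩⟩ := h
    exact alt_case hV e (by omega)
  · obtain ⟨F, _, _, n, hn, hn2, ⟨e⟩⟩ := h
    exact psl_case hn hV hB e
  · obtain ⟨F, _, _, n, hn, hn2, ⟨e⟩⟩ := h
    exact psp_case hn hV hB e
  · obtain ⟨F, _, _, n, q, hF, hn, hn2, ⟨e⟩⟩ := h
    exact psu_case hF hn hV hB e
  · obtain ⟨F, _, _, n, hn, ho, ⟨e⟩⟩ := h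
    exact oodd_case hn ho hV hB e
  · obtain ⟨F, _, _, n, hn, ⟨e⟩⟩ := h
    exact oplus_case hn hV hB e
  · obtain ⟨F, _, _, n, a, b, hn, hab, ⟨e⟩⟩ := h
    exact ominus_case hn hab hV hB e
  · rcases h with h | h | h | h | h | h | h | h | h | h | h
    · -- `G₂`
      obtain ⟨F, _, _, hq, ⟨e⟩⟩ := h
      by_cases ho : 3 ∣ Fintype.card F
      · obtain ⟨f, hf, -, he⟩ := eq_seven (e := 6) (d := 1) (N := Nat.card ↥(Lie.chevG2.group F))
          (u := (Fintype.card F ^ 2 - 1) * (Fintype.card F ^ 6 - 1)) Fintype.isPrimePow_card_of_field ho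
          (Nat.coprime_one_left _)
          (Nat.Coprime.mul_left (cop_sub Fintype.card_pos (by norm_num)) (cop_sub Fintype.card_pos (by norm_num)))
          (by rw [T.g2 F]; ring) (hV' e)
        omega
      · exact hB ((R.g2 (three_ne ho)).congr e.symm hV)
    · -- `F₄`
      obtain ⟨F, _, _, ⟨e⟩⟩ := h
      by_cases ho : 3 ∣ Fintype.card F
      · have h1 := T.f4 F _ rfl
        simp only [mul_assoc] at h1
        rw [← one_mul (Nat.card _)] at h1
        exact big_contra (e := 24) Fintype.isPrimePow_card_of_field ho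
          (Nat.coprime_one_left _) h1 (hV' e).2 (by norm_num)
      · exact hB ((R.f4 (three_ne ho)).congr e.symm hV)
    · -- `E₆`
      obtain ⟨F, _, _, ⟨e⟩⟩ := h
      by_cases ho : 3 ∣ Fintype.card F
      · have h0 := cop_sub (q := Fintype.card F) (k := 1) Fintype.card_pos le_rfl
        rw [pow_one] at h0
        have h1 := T.e6 F _ rfl
        simp only [mul_assoc] at h1
        exact big_contra (e := 36) Fintype.isPrimePow_card_of_field ho
          (Nat.Coprime.coprime_dvd_left (Nat.gcd_dvd_right 3 _) h0) h1 (hV' e).2 (by norm_num)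
      · exact hB ((R.e6 (three_ne ho)).congr e.symm hV)
    · -- `E₇`
      obtain ⟨F, _, _, ⟨e⟩⟩ := h
      by_cases ho : 3 ∣ Fintype.card F
      · have h0 := cop_sub (q := Fintype.card F) (k := 1) Fintype.card_pos le_rfl
        rw [pow_one] at h0
        have h1 := T.e7 F _ rfl
        simp only [mul_assoc] at h1
        exact big_contra (e := 63) Fintype.isPrimePow_card_of_field ho
          (Nat.Coprime.coprime_dvd_left (Nat.gcd_dvd_right 2 _) h0) h1 (hV' e).2 (by norm_num)
      · exact hB ((R.e7 (three_ne ho)).congr e.symm hV)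
    · -- `E₈`
      obtain ⟨F, _, _, ⟨e⟩⟩ := h
      by_cases ho : 3 ∣ Fintype.card F
      · have h1 := T.e8 F _ rfl
        simp only [mul_assoc] at h1
        rw [← one_mul (Nat.card _)] at h1
        exact big_contra (e := 120) Fintype.isPrimePow_card_of_field ho
          (Nat.coprime_one_left _) h1 (hV' e).2 (by norm_num)
      · exact hB ((R.e8 (three_ne ho)).congr e.symm hV)
    · -- `²E₆`
      obtain ⟨F, _, _, q, hq, hF, ⟨e⟩⟩ := h
      by_cases ho : 3 ∣ q
      · have h0 := cop_add (q := q) (k := 1) le_rfl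
        rw [pow_one] at h0
        have h1 := T.te6 F q hq hF
        simp only [mul_assoc] at h1
        exact big_contra (e := 36) hq ho
          (Nat.Coprime.coprime_dvd_left (Nat.gcd_dvd_right 3 _) h0) h1 (hV' e).2 (by norm_num)
      · exact hB ((R.te6 hq hF (three_ne_of_pow hF ho)).congr e.symm hV)
    · -- `³D₄`
      obtain ⟨F, _, _, q, hq, hF, ⟨e⟩⟩ := h
      by_cases ho : 3 ∣ q
      · have h1 := T.td4 F q hq hF
        simp only [mul_assoc] at h1
        rw [← one_mul (Nat.card _)] at h1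
        exact big_contra (e := 12) hq ho
          (Nat.coprime_one_left _) h1 (hV' e).2 (by norm_num)
      · exact hB ((R.td4 hq hF (three_ne_of_pow hF ho)).congr e.symm hV)
    · -- Suzuki
      obtain ⟨F, _, _, m, hm, hF, ⟨e⟩⟩ := h
      have hd : 3 ∣ Nat.card K := (dvd_pow_self 3 (by norm_num)).trans hV.1
      rw [Nat.card_congr e.toEquiv, T.sz F m hm hF] at hd
      obtain ⟨k, rfl⟩ : ∃ k, m = k + 1 := ⟨m - 1, by omega⟩
      obtain ⟨h1, -, h2⟩ := odd_pow_mod k
      rw [show 2 * (k + 1) + 1 = 2 * k + 3 by ring] at hd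
      generalize 2 ^ (2 * k + 3) = q at hd h1 h2
      rcases (Nat.Prime.dvd_mul Nat.prime_three).1 hd with hd | hd
      · rcases (Nat.Prime.dvd_mul Nat.prime_three).1 hd with hd | hd
        · have := Nat.prime_three.dvd_of_dvd_pow hd
          omega
        · omega
      · have : q ^ 2 % 3 = 1 := by rw [Nat.pow_mod, h2]
        omega
    · -- Ree
      obtain ⟨F, _, _, m, hm, hF, ⟨e⟩⟩ := h
      have h1 := T.ree F m hm hF
      rw [mul_assoc, ← one_mul (Nat.card _)] at h1
      have hpp : IsPrimePow (3 ^ (2 * m + 1)) :=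
        (isPrimePow_nat_iff _).2 ⟨3, 2 * m + 1, Nat.prime_three, by omega, rfl⟩
      have h2 := cop_sub (q := 3 ^ (2 * m + 1)) (k := 1) (Nat.pos_of_ne_zero (by positivity)) le_rfl
      rw [pow_one] at h2
      obtain ⟨f, hf, -, he⟩ := eq_seven hpp (dvd_pow_self 3 (by omega)) (Nat.coprime_one_left _)
        (Nat.Coprime.mul_left h2 (cop_add (by norm_num))) h1 (hV' e)
      omega
    · -- `²F₄`
      obtain ⟨F, _, _, m, hm, hF, ⟨e⟩⟩ := h
      exact hB ((R.tf4 hm hF).congr e.symm hV)
    · exact key .tits (by decide) (by decide) h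
  · rcases h with h | h | h | h | h | h | h | h | h | h | h | h | h | h | h | h | h | h | h | h | h | h | h | h | h | h
    · exact key .m11 (by decide) (by decide) h
    · exact key .m12 (by decide) (by decide) h
    · exact key .m22 (by decide) (by decide) h
    · exact key .m23 (by decide) (by decide) h
    · exact key .m24 (by decide) (by decide) h
    · exact key .j1 (by decide) (by decide) h
    · exact key .j2 (by decide) (by decide) h
    · exact key .j3 (by decide) (by decide) h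
    · exact key .j4 (by decide) (by decide) h
    · exact key .co1 (by decide) (by decide) h
    · exact key .co2 (by decide) (by decide) h
    · exact hB (SevenSpor.big7_co3 h)
    · exact key .mcl (by decide) (by decide) h
    · exact key .hs (by decide) (by decide) h
    · exact hB (SevenSpor.big7_suz h)
    · exact key .he (by decide) (by decide) h
    · exact key .ru (by decide) (by decide) h
    · exact key .on (by decide) (by decide) h
    · exact hB (SevenSpor.big7_ly h)
    · exact key .fi22 (by decide) (by decide) h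
    · exact key .fi23 (by decide) (by decide) h
    · exact key .fi24 (by decide) (by decide) h
    · exact key .hn (by decide) (by decide) h
    · exact key .th (by decide) (by decide) h
    · exact key .b (by decide) (by decide) h
    · exact key .m (by decide) (by decide) h

end Cfsg.Agent.H953.SevenElim
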