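import Cfsg.Agent.H953.SevenElim
import Cfsg.Agent.OrdDiv.Table
import Cfsg.Agent.S0000

/-!
# The simple groups with Sylow 3-subgroup of order `3 ^ 7` (helper953, task 1312, S5231)
-/

set_option autoImplicit false

namespace Cfsg.Agent.H953.SevenFinal

open Cfsg Cfsg.Agent.H777.Elim Cfsg.Agent.H775.Elim7

universe u

/-- a simple group whose order has 3-part `3 ^ 7` has an abelian 3-subgroup of order at least `3 ^ 6` or an element of
order 9 -/
theorem elim7' {K : Type u} [Group K] [Finite K] [IsSimpleGroup K] (hV : Vn 7 K) : Big7 K :=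
  Cfsg.Agent.H953.SevenElim.elim_known Cfsg.Agent.OrdDiv.table Cfsg.Agent.S0000.result hV

theorem elim7 {K : Type u} [Group K] [Finite K] [IsSimpleGroup K] (_hK : ¬ IsMulCommutative K) (hV : Vn 7 K) :
    Big7 K := elim7' hV

end Cfsg.Agent.H953.SevenFinal
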