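import Cfsg.Agent.BiChar.TwDFour
import Cfsg.Agent.ETable.ExcTorus

/-!
# `³D₄(3^f)` and `G₂(3^f)` do not contain `L₃(3) × Q₈` (helper953, for S3140, lead helper974)

Borel–Tits in a group of Lie rank two in characteristic `p` odd whose rank one groups have only one involution:
`no_pair` : if `a, b, c, d` normalise a nontrivial `p`-subgroup and `⁅a, b⁆`, `⁅c, d⁆` are commuting involutions then
they are equal.
-/

set_option autoImplicit false
set_option linter.unusedSectionVars false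

namespace Cfsg.Agent.H953.TwDNo

open CoxeterSystem Cfsg.Agent.ChevalleyStructure.CoxeterGeom Cfsg.Agent.Tits.Roots Cfsg.Agent.Tits.Core
  Cfsg.Agent.Tits.RootComb Cfsg.Agent.Tits.Exchange Cfsg.Agent.Nodes.Reps Cfsg.Agent.Nodes.BNOf
  Cfsg.Agent.Nodes.StabComb Cfsg.Agent.Nodes.Bruhat Cfsg.Agent.Nodes.OppDec Cfsg.Agent.Nodes.LeviDec
  Cfsg.Agent.KFacts.RgdBorelTits Cfsg.Agent.KFacts.RgdFilt Cfsg.Agent.Nodes.RGDTwGen Cfsg.Agent.BiChar.RankPar
open scoped commutatorElement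
open Cfsg.Agent.ChevalleyStructure.SL2Hom (up lo mem_closure_SL2)

variable {W Y : Type*} [Group W] [Group Y] {M : CoxeterMatrix (Fin 2)}
  {cs : CoxeterSystem M W} {A : Fin 2 → Fin 2 → ℤ} {h : IsCartan M A} {p : ℕ} {T : Subgroup Y} {n : Fin 2 → Y}
  {X : (Fin 2 → ℤ) → Subgroup Y}

/-- commutators of elements of the parabolic subgroup -/
theorem comm_mem [Finite W] (R : RGD cs h p T n X) (hT : ∀ x ∈ T, ∀ y ∈ T, x * y = y * x) {i : Fin 2} {a b : Y}
    (ha : a ∈ PJ cs h T X {i}) (hb : b ∈ PJ cs h T X {i}) :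
    ∃ s ∈ X (sr i) ⊔ X (-sr i), ∃ v ∈ VJ cs h X ({i} : Set (Fin 2)), ⁅a, b⁆ = s * v := by
  set P := PJ cs h T X ({i} : Set (Fin 2)) with hPdef
  set V := VJ cs h X ({i} : Set (Fin 2)) with hVdef
  set S := X (sr i) ⊔ X (-sr i) with hSdef
  have hVP : V ≤ P := VJ_le_PJ
  have hri : sr i ∈ RootsJ cs h ({i} : Set (Fin 2)) :=
    ⟨isRoot_sr cs h i, fun k hk => sr_ne (fun h1 => hk (by rw [h1]; rfl))⟩
  have hri' : -sr i ∈ RootsJ cs h ({i} : Set (Fin 2)) :=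
    ⟨(isRoot_sr cs h i).neg, fun k hk => by
      rw [Pi.neg_apply, sr_ne (fun h1 => hk (by rw [h1]; rfl)), neg_zero]⟩
  have hSP : S ≤ P := sup_le ((X_le_LJ hri).trans LJ_le_PJ) ((X_le_LJ hri').trans LJ_le_PJ)
  have hTP : T ≤ P := T_le_LJ.trans LJ_le_PJ
  have hPle : P ≤ T ⊔ (S ⊔ V) := by
    refine sup_le ((LJ_single i).trans (sup_le le_sup_left ?_)) ?_
    · exact le_sup_left.trans le_sup_right
    · exact le_sup_right.trans le_sup_right
  have hnV : P ≤ Subgroup.normalizer (V : Set Y) := PJ_le_normalizer_VJ R _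
  have hTS : T ≤ Subgroup.normalizer (S : Set Y) := by
    intro t ht
    rw [mem_normalizer_iff_cj, hSdef]
    have h1 := R.tor _ (isRoot_sr cs h i) t ht
    have h2 := R.tor _ (isRoot_sr cs h i).neg t ht
    unfold cj at h1 h2 ⊢
    rw [Subgroup.map_sup, h1, h2]
  have hTn : T ≤ Subgroup.normalizer ((S ⊔ V : Subgroup Y) : Set Y) := by
    intro c hc
    have h1 := mem_normalizer_iff_cj.1 (hnV (hTP hc))
    have h2 := mem_normalizer_iff_cj.1 (hTS hc)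
    rw [mem_normalizer_iff_cj]
    unfold cj at h1 h2 ⊢
    rw [Subgroup.map_sup, h1, h2]
  have hnSV : P ≤ Subgroup.normalizer ((S ⊔ V : Subgroup Y) : Set Y) :=
    hPle.trans (sup_le hTn Subgroup.le_normalizer)
  have hNn : ((S ⊔ V).subgroupOf P).Normal :=
    Subgroup.normal_subgroupOf_iff_le_normalizer (sup_le hSP hVP) |>.2 hnSV
  -- the quotient is abelian
  have key : ∀ x y : P, ((x : Y) ∈ T) → ((y : Y) ∈ T) →
      (QuotientGroup.mk' ((S ⊔ V).subgroupOf P)) x * (QuotientGroup.mk' ((S ⊔ V).subgroupOf P)) y =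
      (QuotientGroup.mk' ((S ⊔ V).subgroupOf P)) y * (QuotientGroup.mk' ((S ⊔ V).subgroupOf P)) x := by
    intro x y hx hy
    rw [← map_mul, ← map_mul]
    congr 1
    exact Subtype.ext (hT _ hx _ hy)
  have dec : ∀ x : P, ∃ t : P, (t : Y) ∈ T ∧
      (QuotientGroup.mk' ((S ⊔ V).subgroupOf P)) x = (QuotientGroup.mk' ((S ⊔ V).subgroupOf P)) t := by
    intro x
    have h1 : (x : Y) ∈ ((T ⊔ (S ⊔ V) : Subgroup Y) : Set Y) := hPle x.2
    rw [Subgroup.coe_mul_of_left_le_normalizer_right _ _ hTn, Set.mem_mul] at h1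
    obtain ⟨t, ht, w, hw, e⟩ := h1
    refine ⟨⟨t, hTP ht⟩, ht, ?_⟩
    rw [QuotientGroup.mk'_eq_mk']
    refine ⟨⟨w⁻¹, inv_mem (sup_le hSP hVP hw)⟩, ?_, ?_⟩
    · rw [Subgroup.mem_subgroupOf]
      exact inv_mem hw
    · apply Subtype.ext
      change (x : Y) * w⁻¹ = t
      rw [← e]; group
  have h3 : ⁅a, b⁆ ∈ S ⊔ V := by
    obtain ⟨t, ht, e⟩ := dec ⟨a, ha⟩
    obtain ⟨t', ht', e'⟩ := dec ⟨b, hb⟩
    have h4 : (QuotientGroup.mk' ((S ⊔ V).subgroupOf P)) ⁅(⟨a, ha⟩ : P), ⟨b, hb⟩⁆ = 1 := by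
      rw [map_commutatorElement, commutatorElement_eq_one_iff_mul_comm, e, e']
      exact key t t' ht ht'
    rw [QuotientGroup.mk'_apply, QuotientGroup.eq_one_iff, Subgroup.mem_subgroupOf] at h4
    exact h4
  have h5 : ⁅a, b⁆ ∈ ((S ⊔ V : Subgroup Y) : Set Y) := h3
  rw [Subgroup.coe_mul_of_left_le_normalizer_right _ _ (hSP.trans hnV), Set.mem_mul] at h5
  obtain ⟨s, hs, v, hv, e⟩ := h5
  exact ⟨s, hs, v, hv, e.symm⟩

/-- **Two commuting involutions which are commutators of elements normalising a `p`-subgroup are equal.** -/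
theorem no_pair [Finite W] [Finite Y] [hp : Fact p.Prime] (hp2 : p ≠ 2) {R : RGD cs h p T n X}
    {Φ : (Fin 2 → ℤ) → ℝ → Subgroup Y} (hF : Filt R Φ) (hG : Nodes.RGDLib.G1 cs h X = ⊤)
    (hT : ∀ x ∈ T, ∀ y ∈ T, x * y = y * x)
    (hinv : ∀ i : Fin 2, ∀ z ∈ X (sr i) ⊔ X (-sr i), ∀ w ∈ X (sr i) ⊔ X (-sr i), z * z = 1 → z ≠ 1 → w * w = 1 →
      w ≠ 1 → z = w)
    {E : Subgroup Y} (hE : IsPGroup p E) (hE1 : E ≠ ⊥) {a b c d : Y} (ha : a ∈ Subgroup.normalizer (E : Set Y))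
    (hb : b ∈ Subgroup.normalizer (E : Set Y)) (hc : c ∈ Subgroup.normalizer (E : Set Y))
    (hd : d ∈ Subgroup.normalizer (E : Set Y)) (hz : ⁅a, b⁆ * ⁅a, b⁆ = 1) (hz1 : ⁅a, b⁆ ≠ 1)
    (hw : ⁅c, d⁆ * ⁅c, d⁆ = 1) (hw1 : ⁅c, d⁆ ≠ 1) (hzw : ⁅a, b⁆ * ⁅c, d⁆ = ⁅c, d⁆ * ⁅a, b⁆) : ⁅a, b⁆ = ⁅c, d⁆ := by
  obtain ⟨g, J, hJ, -, hle⟩ := borel_tits_of_filt hF hG hE hE1
  obtain ⟨i, hi⟩ : ∃ i : Fin 2, J ⊆ {i} := by
    obtain ⟨k, hk⟩ : ∃ k, k ∉ J := by
      by_contra h4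
      push Not at h4
      exact hJ (Set.eq_univ_iff_forall.2 h4)
    refine ⟨1 - k, fun j hj => ?_⟩
    rw [Set.mem_singleton_iff]
    have hjk : j ≠ k := fun h5 => hk (h5 ▸ hj)
    revert hjk
    clear hj hk hle
    revert j k
    decide
  have hle' := hle.trans (cj_mono g (PJ_mono (cs := cs) (h := h) (T := T) (X := X) hi))
  have hmem : ∀ x ∈ Subgroup.normalizer (E : Set Y), g⁻¹ * x * g ∈ PJ cs h T X ({i} : Set (Fin 2)) := by
    intro x hx
    have h2 := hle' hx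
    rwa [mem_cj] at h2
  have hcomm : ∀ x y : Y, g⁻¹ * ⁅x, y⁆ * g = ⁅g⁻¹ * x * g, g⁻¹ * y * g⁆ := by
    intro x y
    simp only [commutatorElement_def]
    group
  obtain ⟨s, hs, v, hv, e⟩ := comm_mem R hT (hmem a ha) (hmem b hb)
  obtain ⟨s', hs', v', hv', e'⟩ := comm_mem R hT (hmem c hc) (hmem d hd)
  rw [← hcomm] at e e'
  have hSL : X (sr i) ⊔ X (-sr i) ≤ LJ cs h T X ({i} : Set (Fin 2)) :=
    sup_le (X_le_LJ ⟨isRoot_sr cs h i, fun k hk => sr_ne (fun h1 => hk (by rw [h1]; rfl))⟩)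
      (X_le_LJ ⟨(isRoot_sr cs h i).neg, fun k hk => by
        rw [Pi.neg_apply, sr_ne (fun h1 => hk (by rw [h1]; rfl)), neg_zero]⟩)
  have hodd : ∀ x ∈ VJ cs h X ({i} : Set (Fin 2)), x * x = 1 → x = 1 := by
    intro x hx h2
    obtain ⟨k, hk⟩ := ((RGD.isPGroup_Upos R).to_le (VJ_le_U ({i} : Set (Fin 2)))) ⟨x, hx⟩
    have hk' : x ^ (p ^ k) = 1 := congrArg Subtype.val hk
    have h3 : orderOf x ∣ 2 := orderOf_dvd_of_pow_eq_one (by rw [pow_two, h2])
    have hcop : Nat.Coprime (p ^ k) 2 :=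
      Nat.Coprime.pow_left _ ((Nat.coprime_primes hp.out Nat.prime_two).2 hp2)
    have h4 : orderOf x ∣ 1 := by
      have := Nat.dvd_gcd (orderOf_dvd_of_pow_eq_one hk') h3
      rwa [hcop] at this
    exact orderOf_eq_one_iff.1 (Nat.dvd_one.1 h4)
  -- squares
  have sq : ∀ {z s v : Y}, s ∈ X (sr i) ⊔ X (-sr i) → v ∈ VJ cs h X ({i} : Set (Fin 2)) → g⁻¹ * z * g = s * v →
      z * z = 1 → z ≠ 1 → s * s = 1 ∧ s ≠ 1 := by
    intro z s v hs hv e hz hz1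
    have h1 : (s * v) * (s * v) = 1 := by
      rw [← e]
      calc g⁻¹ * z * g * (g⁻¹ * z * g) = g⁻¹ * (z * z) * g := by group
        _ = 1 := by rw [hz]; group
    have h2 : s⁻¹ * v * s ∈ VJ cs h X ({i} : Set (Fin 2)) := by
      have := (Subgroup.mem_normalizer_iff.1 (LJ_le_normalizer_VJ R _ (inv_mem (hSL hs))) v).1 hv
      rwa [inv_inv] at this
    have h3 : s * s = (s⁻¹ * v * s * v)⁻¹ := by
      rw [eq_inv_iff_mul_eq_one, ← h1]; group
    have h4 : s * s = 1 := eq_one_of_mem_LJ_of_mem_VJ R (mul_mem (hSL hs) (hSL hs))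
      (by rw [h3]; exact inv_mem (mul_mem h2 hv))
    refine ⟨h4, fun h5 => hz1 ?_⟩
    rw [h5, one_mul] at e
    have h6 : v = 1 := by
      refine hodd v hv ?_
      rw [h5, one_mul] at h1
      exact h1
    have h7 : z = g * (g⁻¹ * z * g) * g⁻¹ := by group
    rw [h7, e, h6]; group
  obtain ⟨q1, q2⟩ := sq hs hv e hz hz1
  obtain ⟨q3, q4⟩ := sq hs' hv' e' hw hw1
  have hss : s = s' := hinv i s hs s' hs' q1 q2 q3 q4
  subst hss
  -- `z w⁻¹` is conjugate to an element of `V`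
  have h1 : g⁻¹ * (⁅a, b⁆ * ⁅c, d⁆⁻¹) * g = s * (v * v'⁻¹) * s⁻¹ := by
    have h2 : g⁻¹ * ⁅c, d⁆⁻¹ * g = (s * v')⁻¹ := by rw [← e']; group
    calc g⁻¹ * (⁅a, b⁆ * ⁅c, d⁆⁻¹) * g = (g⁻¹ * ⁅a, b⁆ * g) * (g⁻¹ * ⁅c, d⁆⁻¹ * g) := by group
      _ = (s * v) * (s * v')⁻¹ := by rw [e, h2]
      _ = _ := by group
  have h2 : s * (v * v'⁻¹) * s⁻¹ ∈ VJ cs h X ({i} : Set (Fin 2)) :=
    (Subgroup.mem_normalizer_iff.1 (LJ_le_normalizer_VJ R _ (hSL hs)) _).1 (mul_mem hv (inv_mem hv'))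
  have h3 : (⁅a, b⁆ * ⁅c, d⁆⁻¹) * (⁅a, b⁆ * ⁅c, d⁆⁻¹) = 1 := by
    have h4 : Commute ⁅a, b⁆ ⁅c, d⁆⁻¹ := Commute.inv_right hzw
    have h5 : (⁅a, b⁆ * ⁅c, d⁆⁻¹) * (⁅a, b⁆ * ⁅c, d⁆⁻¹) = (⁅a, b⁆ * ⁅a, b⁆) * (⁅c, d⁆ * ⁅c, d⁆)⁻¹ := by
      rw [mul_inv_rev]
      calc (⁅a, b⁆ * ⁅c, d⁆⁻¹) * (⁅a, b⁆ * ⁅c, d⁆⁻¹) = ⁅a, b⁆ * (⁅c, d⁆⁻¹ * ⁅a, b⁆) * ⁅c, d⁆⁻¹ := by
            simp only [mul_assoc]
        _ = ⁅a, b⁆ * (⁅a, b⁆ * ⁅c, d⁆⁻¹) * ⁅c, d⁆⁻¹ := by rw [h4.eq]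
        _ = _ := by simp only [mul_assoc]
    rw [h5, hz, hw]; group
  have h4 : g⁻¹ * (⁅a, b⁆ * ⁅c, d⁆⁻¹) * g = 1 := by
    refine hodd _ (by rw [h1]; exact h2) ?_
    calc g⁻¹ * (⁅a, b⁆ * ⁅c, d⁆⁻¹) * g * (g⁻¹ * (⁅a, b⁆ * ⁅c, d⁆⁻¹) * g) =
        g⁻¹ * ((⁅a, b⁆ * ⁅c, d⁆⁻¹) * (⁅a, b⁆ * ⁅c, d⁆⁻¹)) * g := by group
      _ = 1 := by rw [h3]; group
  have h5 : ⁅a, b⁆ * ⁅c, d⁆⁻¹ = 1 := by
    have : ⁅a, b⁆ * ⁅c, d⁆⁻¹ = g * (g⁻¹ * (⁅a, b⁆ * ⁅c, d⁆⁻¹) * g) * g⁻¹ := by group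
    rw [this, h4]; group
  exact mul_inv_eq_one.1 h5


/-! ### `SL₂(F)` has one involution -/

theorem up_zero {F : Type*} [Field F] : (up 0 : Matrix.SpecialLinearGroup (Fin 2) F) = 1 :=
  Subtype.ext Matrix.one_fin_two.symm

theorem hom_inj {F Y : Type*} [Field F] [Group Y] (h2 : (2 : F) ≠ 0) (φ : Matrix.SpecialLinearGroup (Fin 2) F →* Y)
    (hup : ∀ s t, φ (up s) = φ (up t) → s = t) (hlo : ∀ s t, φ (lo s) = φ (up t) → t = 0) (h1 : φ (-1) ≠ 1)
    {g : Matrix.SpecialLinearGroup (Fin 2) F} (hg : φ g = 1) : g = 1 := by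
  obtain ⟨a, b, c, d, hm, e⟩ : ∃ a b c d : F, a * d - b * c = 1 ∧ g.1 = !![a, b; c, d] := by
    refine ⟨g.1 0 0, g.1 0 1, g.1 1 0, g.1 1 1, ?_, Matrix.eta_fin_two _⟩
    rw [← Matrix.det_fin_two]
    exact g.2
  have hc : c = 0 := by
    by_contra hc
    have e1 : (up (-(a / c)) * g * up (a / c)).1 = !![0, -c⁻¹; c, a + d] := by
      change !![1, -(a / c); 0, 1] * g.1 * !![1, a / c; 0, 1] = _
      rw [e]
      ext i j
      fin_cases i <;> fin_cases j <;> simp <;> field_simp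
      · ring
      · linear_combination -hm
    have e2 : up (-(a / c)) * g * up (a / c) * up 1 = lo (-c ^ 2) * (up (-(a / c)) * g * up (a / c)) := by
      apply Subtype.ext
      change (up (-(a / c)) * g * up (a / c)).1 * !![1, 1; 0, 1] =
        !![1, 0; -c ^ 2, 1] * (up (-(a / c)) * g * up (a / c)).1
      rw [e1]
      ext i j
      fin_cases i <;> fin_cases j <;> simp <;> field_simp
    have e3 := congrArg φ e2
    simp only [map_mul, hg, mul_one] at e3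
    have e4 : φ (up (-(a / c))) * φ (up (a / c)) = 1 := by
      rw [← map_mul]
      have : up (-(a / c)) * up (a / c) = 1 := by
        apply Subtype.ext
        change !![1, -(a / c); 0, 1] * !![1, a / c; 0, 1] = 1
        ext i j
        fin_cases i <;> fin_cases j <;> simp
      rw [this, map_one]
    rw [e4, one_mul, mul_one] at e3
    exact one_ne_zero (hlo _ _ e3.symm)
  subst hc
  rw [mul_zero, sub_zero] at hm
  have ha0 : a ≠ 0 := left_ne_zero_of_mul_eq_one hm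
  have hd : d = a⁻¹ := eq_inv_of_mul_eq_one_right hm
  have ha : a = 1 ∨ a = -1 := by
    have e2 : g * up 1 = up (a ^ 2) * g := by
      apply Subtype.ext
      change g.1 * !![1, 1; 0, 1] = !![1, a ^ 2; 0, 1] * g.1
      rw [e]
      ext i j
      fin_cases i <;> fin_cases j <;> simp [hd]
      field_simp
      ring
    have e3 := congrArg φ e2
    rw [map_mul, map_mul, hg, one_mul, mul_one] at e3
    exact mul_self_eq_one_iff.1 (by rw [← pow_two]; exact (hup _ _ e3).symm)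
  rcases ha with rfl | rfl
  · have hg1 : g = up b := by
      apply Subtype.ext
      rw [e, hd, inv_one]
      rfl
    rw [hg1] at hg ⊢
    have := hup b 0 (by rw [hg, up_zero, map_one])
    rw [this, up_zero]
  · exfalso
    have hg1 : g = -1 * up (-b) := by
      apply Subtype.ext
      rw [e, hd]
      change _ = (-1 : Matrix (Fin 2) (Fin 2) F) * !![1, -b; 0, 1]
      ext i j
      fin_cases i <;> fin_cases j <;> simp [inv_neg]
    have h3 : φ (-1) * φ (-1) = 1 := by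
      rw [← map_mul]
      have : (-1 : Matrix.SpecialLinearGroup (Fin 2) F) * -1 = 1 := by
        rw [neg_mul_neg, one_mul]
      rw [this, map_one]
    have h4 : φ (up (-b)) = φ (-1) := by
      rw [hg1, map_mul] at hg
      calc φ (up (-b)) = (φ (-1) * φ (-1)) * φ (up (-b)) := by rw [h3, one_mul]
        _ = φ (-1) * (φ (-1) * φ (up (-b))) := mul_assoc _ _ _
        _ = φ (-1) := by rw [hg, mul_one]
    have h5 : φ (up (-b + -b)) = φ (up 0) := by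
      have h6 : up (-b + -b) = up (-b) * up (-b) := by
        apply Subtype.ext
        change !![1, -b + -b; 0, 1] = !![1, -b; 0, 1] * !![1, -b; 0, 1]
        ext i j
        fin_cases i <;> fin_cases j <;> simp
      rw [h6, map_mul, h4, h3, up_zero, map_one]
    have h6 := hup _ _ h5
    have h7 : b = 0 := by
      have : (2 : F) * b = 0 := by linear_combination -h6
      exact (mul_eq_zero.1 this).resolve_left h2
    rw [h7, neg_zero, up_zero, map_one] at h4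
    exact h1 h4.symm

theorem eq_neg_one {F : Type*} [Field F] (h2 : (2 : F) ≠ 0) {g : Matrix.SpecialLinearGroup (Fin 2) F}
    (hg : g * g = 1) (h1 : g ≠ 1) : g = -1 := by
  obtain ⟨a, b, c, d, hm, e⟩ : ∃ a b c d : F, a * d - b * c = 1 ∧ g.1 = !![a, b; c, d] := by
    refine ⟨g.1 0 0, g.1 0 1, g.1 1 0, g.1 1 1, ?_, Matrix.eta_fin_two _⟩
    rw [← Matrix.det_fin_two]
    exact g.2
  have h3 : g.1 * g.1 = 1 := congrArg Subtype.val hg
  rw [e, Matrix.mul_fin_two, Matrix.one_fin_two] at h3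
  have q1 := congrFun (congrFun h3 0) 0
  have q2 := congrFun (congrFun h3 0) 1
  have q3 := congrFun (congrFun h3 1) 0
  have q4 := congrFun (congrFun h3 1) 1
  simp at q1 q2 q3 q4
  have hs : a + d ≠ 0 := by
    intro h0
    have : (2 : F) = 0 := by
      have : d = -a := by linear_combination h0
      subst this
      linear_combination (-1 : F) * hm - q1
    exact h2 this
  have hb : b = 0 := by
    have : (a + d) * b = 0 := by linear_combination q2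
    exact (mul_eq_zero.1 this).resolve_left hs
  have hc : c = 0 := by
    have : (a + d) * c = 0 := by linear_combination q3
    exact (mul_eq_zero.1 this).resolve_left hs
  subst hb hc
  have ha2 : a ^ 2 = 1 := by linear_combination q1
  have hda : d = a := by linear_combination a * hm - d * q1
  rcases mul_self_eq_one_iff.1 (by rw [← pow_two]; exact ha2 : a * a = 1) with rfl | rfl
  · exfalso
    apply h1
    apply Subtype.ext
    rw [e, hda]
    exact Matrix.one_fin_two.symm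
  · apply Subtype.ext
    rw [e, hda]
    change _ = (-1 : Matrix (Fin 2) (Fin 2) F)
    ext i j
    fin_cases i <;> fin_cases j <;> simp

theorem inv_unique {F Y : Type*} [Field F] [Group Y] (h2 : (2 : F) ≠ 0)
    (φ : Matrix.SpecialLinearGroup (Fin 2) F →* Y)
    (hup : ∀ s t, φ (up s) = φ (up t) → s = t) (hlo : ∀ s t, φ (lo s) = φ (up t) → t = 0) (h1 : φ (-1) ≠ 1)
    {z w : Y} (hz : z ∈ φ.range) (hw : w ∈ φ.range) (hz2 : z * z = 1) (hz1 : z ≠ 1) (hw2 : w * w = 1) (hw1 : w ≠ 1) :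
    z = w := by
  have key : ∀ x ∈ φ.range, x * x = 1 → x ≠ 1 → x = φ (-1) := by
    rintro _ ⟨g, rfl⟩ h3 h4
    rw [← map_mul] at h3
    rw [eq_neg_one h2 (hom_inj h2 φ hup hlo h1 h3) (fun h5 => h4 (by rw [h5, map_one]))]
  rw [key z hz hz2 hz1, key w hw hw2 hw1]

/-! ### `L₃(3) × Q₈` -/

/-- the elements of `SL₃(F)` -/
def uu {F : Type*} [Field F] (a b : F) : Matrix.SpecialLinearGroup (Fin 3) F :=
  ⟨!![1, 0, a; 0, 1, b; 0, 0, 1], by simp [Matrix.det_fin_three]⟩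

def ii {F : Type*} [Field F] : Matrix.SpecialLinearGroup (Fin 3) F :=
  ⟨!![0, -1, 0; 1, 0, 0; 0, 0, 1], by simp [Matrix.det_fin_three]⟩

def jj {F : Type*} [Field F] (h3 : (3 : F) = 0) : Matrix.SpecialLinearGroup (Fin 3) F :=
  ⟨!![1, 1, 0; 1, -1, 0; 0, 0, 1], by simp [Matrix.det_fin_three]; linear_combination -h3⟩

def zz {F : Type*} [Field F] : Matrix.SpecialLinearGroup (Fin 3) F :=
  ⟨!![-1, 0, 0; 0, -1, 0; 0, 0, 1], by simp [Matrix.det_fin_three]⟩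

theorem uu_mul {F : Type*} [Field F] (a b c d : F) : uu a b * uu c d = uu (a + c) (b + d) := by
  apply Subtype.ext
  change !![1, 0, a; 0, 1, b; 0, 0, 1] * !![1, 0, c; 0, 1, d; 0, 0, 1] = !![1, 0, a + c; 0, 1, b + d; 0, 0, 1]
  ext i j
  fin_cases i <;> fin_cases j <;> simp [Matrix.mul_apply, Fin.sum_univ_three, add_comm]

theorem uu_zero {F : Type*} [Field F] : (uu 0 0 : Matrix.SpecialLinearGroup (Fin 3) F) = 1 := by
  apply Subtype.ext
  change !![1, 0, 0; 0, 1, 0; 0, 0, 1] = (1 : Matrix (Fin 3) (Fin 3) F)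
  ext i j
  fin_cases i <;> fin_cases j <;> simp

theorem ii_uu {F : Type*} [Field F] (a b : F) : ii * uu a b = uu (-b) a * ii := by
  apply Subtype.ext
  change !![0, -1, 0; 1, 0, 0; 0, 0, 1] * !![1, 0, a; 0, 1, b; 0, 0, 1] =
    !![1, 0, -b; 0, 1, a; 0, 0, 1] * !![0, -1, 0; 1, 0, 0; 0, 0, 1]
  ext i j
  fin_cases i <;> fin_cases j <;> simp [Matrix.mul_apply, Fin.sum_univ_three]

theorem jj_uu {F : Type*} [Field F] (h3 : (3 : F) = 0) (a b : F) : jj h3 * uu a b = uu (a + b) (a - b) * jj h3 := by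
  apply Subtype.ext
  change !![1, 1, 0; 1, -1, 0; 0, 0, 1] * !![1, 0, a; 0, 1, b; 0, 0, 1] =
    !![1, 0, a + b; 0, 1, a - b; 0, 0, 1] * !![1, 1, 0; 1, -1, 0; 0, 0, 1]
  ext i j
  fin_cases i <;> fin_cases j <;> simp [Matrix.mul_apply, Fin.sum_univ_three]
  ring

theorem zz_uu {F : Type*} [Field F] (a b : F) : zz * uu a b = uu (-a) (-b) * zz := by
  apply Subtype.ext
  change !![-1, 0, 0; 0, -1, 0; 0, 0, 1] * !![1, 0, a; 0, 1, b; 0, 0, 1] =
    !![1, 0, -a; 0, 1, -b; 0, 0, 1] * !![-1, 0, 0; 0, -1, 0; 0, 0, 1]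
  ext i j
  fin_cases i <;> fin_cases j <;> simp [Matrix.mul_apply, Fin.sum_univ_three]

theorem comm_ij {F : Type*} [Field F] (h3 : (3 : F) = 0) : ⁅(ii : Matrix.SpecialLinearGroup (Fin 3) F), jj h3⁆ = zz := by
  rw [commutatorElement_def, mul_inv_eq_iff_eq_mul, mul_inv_eq_iff_eq_mul, mul_assoc]
  apply Subtype.ext
  change !![0, -1, 0; 1, 0, 0; 0, 0, 1] * !![1, 1, 0; 1, -1, 0; 0, 0, 1] =
    !![-1, 0, 0; 0, -1, 0; 0, 0, 1] * (!![1, 1, 0; 1, -1, 0; 0, 0, 1] * !![0, -1, 0; 1, 0, 0; 0, 0, 1])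
  ext i j
  fin_cases i <;> fin_cases j <;> simp [Matrix.mul_apply, Fin.sum_univ_three]

theorem zz_sq {F : Type*} [Field F] : (zz : Matrix.SpecialLinearGroup (Fin 3) F) * zz = 1 := by
  apply Subtype.ext
  change !![-1, 0, 0; 0, -1, 0; 0, 0, 1] * !![-1, 0, 0; 0, -1, 0; 0, 0, 1] = (1 : Matrix (Fin 3) (Fin 3) F)
  ext i j
  fin_cases i <;> fin_cases j <;> simp [Matrix.mul_apply, Fin.sum_univ_three]

/-- `uu a b` is central only if it is trivial -/
theorem uu_center {F : Type*} [Field F] {a b : F}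
    (h : (uu a b : Matrix.SpecialLinearGroup (Fin 3) F) ∈ Subgroup.center (Matrix.SpecialLinearGroup (Fin 3) F)) :
    a = 0 ∧ b = 0 := by
  obtain ⟨r, -, hr⟩ := Matrix.SpecialLinearGroup.mem_center_iff.1 h
  have h1 := congrFun (congrFun hr 0) 2
  have h2 := congrFun (congrFun hr 1) 2
  constructor
  · simpa [uu] using h1.symm
  · simpa [uu] using h2.symm

theorem mem_norm {Y : Type*} [Group Y] [Finite Y] {E : Subgroup Y} {x : Y} (h : ∀ n ∈ E, x * n * x⁻¹ ∈ E) :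
    x ∈ Subgroup.normalizer (E : Set Y) := by
  have h1 : E.map (MulAut.conj x).toMonoidHom = E := by
    apply Subgroup.eq_of_le_of_card_ge
    · rintro _ ⟨n, hn, rfl⟩
      exact h n hn
    · exact (Nat.card_congr (E.equivMapOfInjective _ (MulAut.conj x).injective).toEquiv).le
  rw [Subgroup.mem_normalizer_iff]
  intro n
  constructor
  · exact h n
  · intro h2
    rw [← h1] at h2
    obtain ⟨m, hm, e⟩ := h2
    have e' : x * m * x⁻¹ = x * n * x⁻¹ := e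
    have : m = n := by simpa using e'
    rwa [← this]

theorem no_l3 {Y : Type*} [Group Y] [Finite Y]
    (hpair : ∀ E : Subgroup Y, IsPGroup 3 E → E ≠ ⊥ → ∀ a ∈ Subgroup.normalizer (E : Set Y),
      ∀ b ∈ Subgroup.normalizer (E : Set Y), ∀ c ∈ Subgroup.normalizer (E : Set Y),
      ∀ d ∈ Subgroup.normalizer (E : Set Y), ⁅a, b⁆ * ⁅a, b⁆ = 1 → ⁅a, b⁆ ≠ 1 → ⁅c, d⁆ * ⁅c, d⁆ = 1 → ⁅c, d⁆ ≠ 1 →
      ⁅a, b⁆ * ⁅c, d⁆ = ⁅c, d⁆ * ⁅a, b⁆ → ⁅a, b⁆ = ⁅c, d⁆)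
    {F : Type*} [Field F] (hF : (3 : F) = 0) (A D : Subgroup Y)
    (hAD : ∀ a ∈ A, ∀ d ∈ D, a * d = d * a) (e : ↥A ≃* Matrix.ProjectiveSpecialLinearGroup (Fin 3) F)
    (f : ↥D ≃* QuaternionGroup 2) : False := by
  have h2 : (2 : F) ≠ 0 := by
    intro h2
    have : (1 : F) = 0 := by linear_combination hF - h2
    exact one_ne_zero this
  let ρ : Matrix.SpecialLinearGroup (Fin 3) F →* Y :=
    (A.subtype.comp e.symm.toMonoidHom).comp (QuotientGroup.mk' _)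
  have hρ : ∀ g, ρ g = 1 → g ∈ Subgroup.center (Matrix.SpecialLinearGroup (Fin 3) F) := by
    intro g hg
    have h1 : e.symm (QuotientGroup.mk' _ g) = 1 := Subtype.ext hg
    rw [map_eq_one_iff _ e.symm.injective] at h1
    exact (QuotientGroup.eq_one_iff g).1 h1
  have hρA : ∀ g, ρ g ∈ A := fun g => (e.symm (QuotientGroup.mk' _ g)).2
  -- the subgroup `E`
  let E0 : Subgroup (Matrix.SpecialLinearGroup (Fin 3) F) :=
    { carrier := {g | ∃ a b, g = uu a b}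
      one_mem' := ⟨0, 0, uu_zero.symm⟩
      mul_mem' := by
        rintro _ _ ⟨a, b, rfl⟩ ⟨c, d, rfl⟩
        exact ⟨_, _, uu_mul _ _ _ _⟩
      inv_mem' := by
        rintro _ ⟨a, b, rfl⟩
        refine ⟨-a, -b, ?_⟩
        rw [inv_eq_iff_mul_eq_one, uu_mul, add_neg_cancel, add_neg_cancel, uu_zero] }
  have hE : IsPGroup 3 (E0.map ρ) := by
    rintro ⟨_, g, ⟨a, b, rfl⟩, rfl⟩
    refine ⟨1, Subtype.ext ?_⟩
    change ρ (uu a b) ^ 3 ^ 1 = 1
    rw [← map_pow]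
    have : (uu a b : Matrix.SpecialLinearGroup (Fin 3) F) ^ 3 ^ 1 = 1 := by
      have e3 : ∀ x : F, x + x + x = 0 := fun x => by linear_combination x * hF
      rw [pow_one, pow_succ, pow_two, uu_mul, uu_mul, e3, e3, uu_zero]
    rw [this, map_one]
  have hE1 : E0.map ρ ≠ ⊥ := by
    intro h1
    have h3 : ρ (uu 1 0) ∈ E0.map ρ := ⟨_, ⟨1, 0, rfl⟩, rfl⟩
    rw [h1, Subgroup.mem_bot] at h3
    exact one_ne_zero (uu_center (hρ _ h3)).1
  have hn : ∀ g : Matrix.SpecialLinearGroup (Fin 3) F, (∀ a b, ∃ c d, g * uu a b = uu c d * g) →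
      ρ g ∈ Subgroup.normalizer ((E0.map ρ : Subgroup Y) : Set Y) := by
    intro g hg
    have : Finite ↥(E0.map ρ) := inferInstance
    refine mem_norm ?_
    rintro _ ⟨_, ⟨a, b, rfl⟩, rfl⟩
    obtain ⟨c, d, h1⟩ := hg a b
    refine ⟨uu c d, ⟨c, d, rfl⟩, ?_⟩
    rw [← map_mul, h1, map_mul]
    group
  have hI := hn ii fun a b => ⟨_, _, ii_uu a b⟩
  have hJ := hn (jj hF) fun a b => ⟨_, _, jj_uu hF a b⟩
  have hDn : ∀ d ∈ D, d ∈ Subgroup.normalizer ((E0.map ρ : Subgroup Y) : Set Y) := by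
    intro d hd
    refine mem_norm ?_
    rintro _ ⟨g, hg, rfl⟩
    rw [← hAD _ (hρA g) d hd, mul_inv_cancel_right]
    exact ⟨g, hg, rfl⟩
  -- the quaternion group `D`
  have hc := (f.symm (QuaternionGroup.a 1)).2
  have hd := (f.symm (QuaternionGroup.xa 0)).2
  have hcd : ⁅((f.symm (QuaternionGroup.a 1) : D) : Y), ((f.symm (QuaternionGroup.xa 0) : D) : Y)⁆ =
      ((f.symm (QuaternionGroup.a 2) : D) : Y) := by
    have h5 : ⁅(QuaternionGroup.a 1 : QuaternionGroup 2), (QuaternionGroup.xa 0 : QuaternionGroup 2)⁆ =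
        QuaternionGroup.a 2 := by decide
    have h6 := congrArg (fun x => ((f.symm x : D) : Y)) h5
    simp only [map_commutatorElement] at h6
    exact h6
  have hz : ⁅ρ ii, ρ (jj hF)⁆ = ρ zz := by rw [← map_commutatorElement, comm_ij]
  have hz2 : ρ zz * ρ zz = 1 := by rw [← map_mul, zz_sq, map_one]
  have hzu : ρ (uu 1 0) * ρ zz = ρ zz * ρ (uu 1 0) → False := by
    intro h5
    rw [← map_mul, ← map_mul, zz_uu, map_mul, map_mul, mul_left_inj, neg_zero] at h5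
    have h6 : ρ (uu 1 0 * (uu (-1) 0)⁻¹) = 1 := by
      rw [map_mul, map_inv, h5, mul_inv_cancel]
    have h7 : (uu (-1) 0 : Matrix.SpecialLinearGroup (Fin 3) F)⁻¹ = uu 1 0 := by
      rw [inv_eq_iff_mul_eq_one, uu_mul, neg_add_cancel, add_zero, uu_zero]
    rw [h7, uu_mul] at h6
    exact h2 (by rw [← (uu_center (hρ _ h6)).1]; norm_num)
  have hz1 : ρ zz ≠ 1 := by
    intro h5
    exact hzu (by rw [h5, mul_one, one_mul])
  have h5 := hpair _ hE hE1 _ hI _ hJ _ (hDn _ hc) _ (hDn _ hd) (by rw [hz, hz2]) (by rw [hz]; exact hz1)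
    (by
      rw [hcd]
      have : (QuaternionGroup.a 2 : QuaternionGroup 2) * QuaternionGroup.a 2 = 1 := by decide
      have h6 := congrArg (fun x => ((f.symm x : D) : Y)) this
      simp only [map_mul, map_one] at h6
      exact h6)
    (by
      rw [hcd]
      intro h6
      have h7 : f.symm (QuaternionGroup.a 2) = 1 := Subtype.ext h6
      rw [map_eq_one_iff _ f.symm.injective] at h7
      revert h7
      decide)
    (by
      rw [hz, hcd]
      exact hAD _ (hρA _) _ (f.symm (QuaternionGroup.a 2)).2)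
  rw [hz, hcd] at h5
  apply hzu
  rw [h5]
  exact hAD _ (hρA _) _ (f.symm (QuaternionGroup.a 2)).2


/-! ### `³D₄(3^f)` -/

section TwD4

open Cfsg.Lie Cfsg.Agent.ChevalleyStructure Cfsg.Agent.Nodes.RGDFoldSL Cfsg.Agent.BiChar.TwDFour

theorem hS_neg_one {F : Type*} [Field F] : (hS (-1) : Matrix.SpecialLinearGroup (Fin 2) F) = -1 := by
  apply Subtype.ext
  change (hS (-1) : Matrix.SpecialLinearGroup (Fin 2) F).1 = (-1 : Matrix (Fin 2) (Fin 2) F)
  have h1 : (hS (-1) : Matrix.SpecialLinearGroup (Fin 2) F).1 = !![-1, 0; 0, (-1)⁻¹] :=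
    coe_hS (neg_ne_zero.2 one_ne_zero)
  rw [h1]
  ext i j
  fin_cases i <;> fin_cases j <;> simp

variable {K : Type} [Field K] {q : ℕ} {φ : K →+* K} (hφ : ∀ x, φ x = x ^ q) (hle : twistedD4 K q ≤ D4Fixed.fix φ)

theorem mem_X_neg {p : ℕ} [Fact p.Prime] [Fintype K] [CharP K p] (hK : Fintype.card K = q ^ 3) (i : Fin 2)
    (s : Fx φ ((Nodes.RGDTwNode.D4.rest i).length + 1)) : Ph hφ hle i (lo s) ∈ Nodes.RGDTwD4.X φ q (-sr i) := by
  have R := Nodes.RGDTwD4.rgd (K := K) BiChar.TwDFour.cs hK hφ p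
  have hcj : cj (Nodes.RGDTwD4.n hφ i) (Nodes.RGDTwD4.X φ q (sr i)) = Nodes.RGDTwD4.X φ q (-sr i) := by
    rw [R.conj i _ (isRoot_sr BiChar.TwDFour.cs Nodes.RGDTwD4.isCartan i), rep_simple_sr]
  rw [lo_eq, map_mul, map_mul, map_inv, Cfsg.Agent.BiChar.TwDFour.Ph_wS, ← hcj]
  exact conj_mem_cj.2 ((mem_X hφ hle i _).2 ⟨_, rfl⟩)

theorem range_Ph' {p : ℕ} [Fact p.Prime] [Fintype K] [CharP K p] (hK : Fintype.card K = q ^ 3) (i : Fin 2) :
    Nodes.RGDTwD4.X φ q (sr i) ⊔ Nodes.RGDTwD4.X φ q (-sr i) ≤ (Ph hφ hle i).range := by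
  have R := Nodes.RGDTwD4.rgd (K := K) BiChar.TwDFour.cs hK hφ p
  have hcj : cj (Nodes.RGDTwD4.n hφ i) (Nodes.RGDTwD4.X φ q (sr i)) = Nodes.RGDTwD4.X φ q (-sr i) := by
    rw [R.conj i _ (isRoot_sr BiChar.TwDFour.cs Nodes.RGDTwD4.isCartan i), rep_simple_sr]
  refine sup_le ?_ ?_
  · intro g hg
    obtain ⟨a, rfl⟩ := (mem_X hφ hle i g).1 hg
    exact ⟨_, rfl⟩
  · rw [← hcj]
    intro g hg
    rw [mem_cj] at hg
    obtain ⟨a, ha⟩ := (mem_X hφ hle i _).1 hg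
    refine ⟨wS 1 * up a * (wS 1)⁻¹, ?_⟩
    rw [map_mul, map_mul, map_inv, Cfsg.Agent.BiChar.TwDFour.Ph_wS, ← ha]
    group

theorem tabs : (chevD4.simple 0 = 18 ∧ chevD4.simple 1 = 14 ∧ chevD4.simple 2 = 13 ∧ chevD4.simple 3 = 12) ∧
    (chevD4.cartan 0 14 = -1 ∧ chevD4.cartan 2 14 = -1 ∧ chevD4.cartan 3 14 = -1 ∧ chevD4.cartan 1 18 = -1) ∧
    (0 < chevD4.rank ∧ 1 < chevD4.rank ∧ 2 < chevD4.rank ∧ 3 < chevD4.rank ∧ 14 < chevD4.nroots ∧
      18 < chevD4.nroots) := by decide +kernel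

theorem Ph_neg_one (h2 : (2 : K) ≠ 0) (i : Fin 2) : Ph hφ hle i (-1) ≠ 1 := by
  obtain ⟨⟨s0, s1, s2, s3⟩, ⟨c0, c2, c3, c1⟩, r0, r1, r2, r3, n14, n18⟩ := tabs
  have hD : Elts.InList chevD4 := Nodes.RGDTwD4.hp.inList
  have hne : (-1 : K) ≠ 0 := neg_ne_zero.2 one_ne_zero
  have hφ1 : φ (-1) = -1 := by rw [map_neg, map_one]
  have hcon : (1 : K) = -1 → False := fun h1 => h2 (by linear_combination h1)
  rw [← hS_neg_one]
  fin_cases i
  · intro h1
    have e := coe_hS0 hφ hle (-1)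
    change ((Ph hφ hle 0 (hS (-1)) : ↥(twistedD4 K q)) : GL chevD4.Idx K) = Elts.hG Nodes.RGDTwD4.hp.inList 14 (-1) at e
    have h1' : Ph hφ hle 0 (hS (-1)) = 1 := h1
    rw [h1'] at e
    have h3 := Cfsg.Agent.ETable.Exc.hG_xG hD r1 n18 hne 1
    rw [s1, c1, zpow_neg, zpow_one, inv_neg, inv_one, neg_one_mul, ← e] at h3
    change 1 * _ = _ * 1 at h3
    rw [one_mul, mul_one] at h3
    exact hcon (Elts.xG_injective hD n18 h3)
  · intro h1
    have a0 : ∀ v : K, Elts.hG hD 18 (-1) * Elts.xG hD 14 v = Elts.xG hD 14 (-v) * Elts.hG hD 18 (-1) := by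
      intro v
      have := Cfsg.Agent.ETable.Exc.hG_xG hD r0 n14 hne v
      rwa [s0, c0, zpow_neg, zpow_one, inv_neg, inv_one, neg_one_mul] at this
    have a2 : ∀ v : K, Elts.hG hD 13 (-1) * Elts.xG hD 14 v = Elts.xG hD 14 (-v) * Elts.hG hD 13 (-1) := by
      intro v
      have := Cfsg.Agent.ETable.Exc.hG_xG hD r2 n14 hne v
      rwa [s2, c2, zpow_neg, zpow_one, inv_neg, inv_one, neg_one_mul] at this
    have a3 : ∀ v : K, Elts.hG hD 12 (-1) * Elts.xG hD 14 v = Elts.xG hD 14 (-v) * Elts.hG hD 12 (-1) := by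
      intro v
      have := Cfsg.Agent.ETable.Exc.hG_xG hD r3 n14 hne v
      rwa [s3, c3, zpow_neg, zpow_one, inv_neg, inv_one, neg_one_mul] at this
    have e1 := coe_hS1 hφ hle (-1)
    have h1' : Ph hφ hle 1 (hS (-1)) = 1 := h1
    have h3 : ((-1 : Fx φ ((Nodes.RGDTwNode.D4.rest 1).length + 1)) : K) = -1 := rfl
    rw [h3, hφ1, hφ1, h1'] at e1
    have e2 : (1 : GL chevD4.Idx K) = Elts.hG hD 18 (-1) * (Elts.hG hD 13 (-1) * (Elts.hG hD 12 (-1) * 1)) := e1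
    have h4 : (Elts.hG hD 18 (-1) * (Elts.hG hD 13 (-1) * (Elts.hG hD 12 (-1) * 1))) * Elts.xG hD 14 (1 : K) =
        Elts.xG hD 14 (-1) * (Elts.hG hD 18 (-1) * (Elts.hG hD 13 (-1) * (Elts.hG hD 12 (-1) * 1))) := by
      rw [mul_one, mul_assoc, mul_assoc, a3, ← mul_assoc (Elts.hG hD 13 (-1)), a2, mul_assoc, ← mul_assoc, a0,
        mul_assoc, _root_.neg_neg]
    rw [← e2, one_mul, mul_one] at h4
    exact hcon (Elts.xG_injective hD n14 h4)

theorem twD4_pair {K : Type} [Field K] [Fintype K] {p : ℕ} [hp : Fact p.Prime] [CharP K p] (hp2 : p ≠ 2) {q : ℕ}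
    (hq : IsPrimePow q) (hK : Fintype.card K = q ^ 3) (E : Subgroup ↥(twistedD4 K q)) (hE : IsPGroup p E)
    (hE1 : E ≠ ⊥) {a b c d : ↥(twistedD4 K q)} (ha : a ∈ Subgroup.normalizer (E : Set ↥(twistedD4 K q)))
    (hb : b ∈ Subgroup.normalizer (E : Set ↥(twistedD4 K q))) (hc : c ∈ Subgroup.normalizer (E : Set ↥(twistedD4 K q)))
    (hd : d ∈ Subgroup.normalizer (E : Set ↥(twistedD4 K q))) (hz : ⁅a, b⁆ * ⁅a, b⁆ = 1) (hz1 : ⁅a, b⁆ ≠ 1)
    (hw : ⁅c, d⁆ * ⁅c, d⁆ = 1) (hw1 : ⁅c, d⁆ ≠ 1) (hzw : ⁅a, b⁆ * ⁅c, d⁆ = ⁅c, d⁆ * ⁅a, b⁆) : ⁅a, b⁆ = ⁅c, d⁆ := by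
  obtain ⟨φ, hφ⟩ := D4Fixed.exists_frob hq hK
  have hle := D4Fixed.twisted_le_fix hK hφ
  have : Finite CoxeterMatrix.G₂.Group := Nodes.RGDChev.finite_W BiChar.GTwo.isType BiChar.TwDFour.cs
  have h2K : (2 : K) ≠ 0 := by
    have h3 : ringChar K ≠ 2 := by rw [ringChar.eq K p]; exact hp2
    exact Ring.two_ne_zero h3
  have R := Nodes.RGDTwD4.rgd (K := K) BiChar.TwDFour.cs hK hφ p
  refine no_pair hp2 (Cfsg.Agent.KFacts.RgdFiltTwAll.filt_fold BiChar.TwDFour.cs Nodes.RGDTwD4.isCartan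
    Nodes.RGDTwD4.foldData (Nodes.RGDTwD4.foldGrp hφ hle) p)
    (Nodes.RGDTwD4.G1_eq_top BiChar.TwDFour.cs hK hφ) ?_ ?_ hE hE1 ha hb hc hd hz hz1 hw hw1 hzw
  · intro x hx y hy
    have hx' : (x : GL chevD4.Idx K) ∈ chevD4.diagonalSubgroup K :=
      (Subgroup.mem_inf.1 (Subgroup.mem_subgroupOf.1 hx)).1
    have hy' : (y : GL chevD4.Idx K) ∈ chevD4.diagonalSubgroup K :=
      (Subgroup.mem_inf.1 (Subgroup.mem_subgroupOf.1 hy)).1
    obtain ⟨χ, hχ⟩ := HMatDiagAll.mem_torus.1 (HMatDiagAll.diagonalSubgroup_le_torus Nodes.RGDTwD4.hp.inList hx')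
    obtain ⟨ψ, hψ⟩ := HMatDiagAll.mem_torus.1 (HMatDiagAll.diagonalSubgroup_le_torus Nodes.RGDTwD4.hp.inList hy')
    apply Subtype.ext
    apply Units.ext
    rw [Subgroup.coe_mul, Subgroup.coe_mul, Units.val_mul, Units.val_mul, hχ, hψ, Matrix.diagonal_mul_diagonal,
      Matrix.diagonal_mul_diagonal]
    congr 1
    funext i
    exact mul_comm _ _
  · intro i z hz w hw hz2 hz1 hw2 hw1
    refine inv_unique (F := Fx φ ((Nodes.RGDTwNode.D4.rest i).length + 1)) ?_ (Ph hφ hle i) ?_ ?_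
      (Ph_neg_one hφ hle h2K i) (range_Ph' (p := p) hφ hle hK i hz) (range_Ph' (p := p) hφ hle hK i hw)
      hz2 hz1 hw2 hw1
    · intro h
      apply h2K
      have := congrArg Subtype.val h
      exact this
    · intro s t hst
      exact Phi_up_injective (Nodes.RGDTwD4.foldGrp hφ hle) (Nodes.RGDTwNode.D4.nodeOK i) (hf φ i) hst
    · intro s t hst
      have h1 : Ph hφ hle i (up t) ∈ Nodes.RGDTwD4.X φ q (sr i) ⊓ Nodes.RGDTwD4.X φ q (-sr i) :=
        ⟨(mem_X hφ hle i _).2 ⟨t, rfl⟩, by rw [← hst]; exact mem_X_neg (p := p) hφ hle hK i s⟩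
      rw [X_inf_X R (isRoot_sr _ _ i) (isRoot_sr _ _ i).neg (fun h => by
        have h2 := congrFun h i
        rw [Pi.neg_apply, sr_self] at h2
        norm_num at h2), Subgroup.mem_bot] at h1
      refine Phi_up_injective (Nodes.RGDTwD4.foldGrp hφ hle) (Nodes.RGDTwNode.D4.nodeOK i) (hf φ i) ?_
      change Ph hφ hle i (up t) = Ph hφ hle i (up 0)
      rw [h1, up_zero, map_one]

end TwD4

/-- **`³D₄(3^f)` does not contain `L₃(3) × Q₈`.** -/
theorem twD4_no {K : Type} [Field K] [Fintype K] [CharP K 3] {q : ℕ} (hq : IsPrimePow q)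
    (hK : Fintype.card K = q ^ 3) {F : Type} [Field F] [Fintype F] (hF : Fintype.card F = 3)
    (A D : Subgroup ↥(Lie.twistedD4 K q)) (hAD : ∀ a ∈ A, ∀ d ∈ D, a * d = d * a)
    (e : ↥A ≃* Matrix.ProjectiveSpecialLinearGroup (Fin 3) F) (f : ↥D ≃* QuaternionGroup 2) : False := by
  have h3 : (3 : F) = 0 := by
    have := FiniteField.cast_card_eq_zero F
    rw [hF] at this
    exact_mod_cast this
  exact no_l3 (fun E hE hE1 a ha b hb c hc d hd h1 h2 h3 h4 h5 =>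
    twD4_pair (p := 3) (by norm_num) hq hK E hE hE1 ha hb hc hd h1 h2 h3 h4 h5) h3 A D hAD e f


/-! ### `G₂(3^f)` -/

section G2

open Cfsg.Lie Cfsg.Agent.ChevalleyStructure Cfsg.Agent.ChevalleyStructure.Elts
  Cfsg.Agent.ChevalleyStructure.NPerm Cfsg.Agent.Nodes.RGDChev Cfsg.Agent.Nodes.RGDFoldSL Cfsg.Agent.BiChar.GTwo

theorem cartG2 : chevG2.cartan 0 (chevG2.simple 1) % 2 = 1 ∧ chevG2.cartan 1 (chevG2.simple 0) % 2 = 1 := by
  decide +kernel

theorem g2_pair {K : Type} [Field K] [Fintype K] {p : ℕ} [hp : Fact p.Prime] [CharP K p] (hp2 : p ≠ 2)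
    (E : Subgroup ↥(chevG2.group K)) (hE : IsPGroup p E)
    (hE1 : E ≠ ⊥) {a b c d : ↥(chevG2.group K)} (ha : a ∈ Subgroup.normalizer (E : Set ↥(chevG2.group K)))
    (hb : b ∈ Subgroup.normalizer (E : Set ↥(chevG2.group K))) (hc : c ∈ Subgroup.normalizer (E : Set ↥(chevG2.group K)))
    (hd : d ∈ Subgroup.normalizer (E : Set ↥(chevG2.group K))) (hz : ⁅a, b⁆ * ⁅a, b⁆ = 1) (hz1 : ⁅a, b⁆ ≠ 1)
    (hw : ⁅c, d⁆ * ⁅c, d⁆ = 1) (hw1 : ⁅c, d⁆ ≠ 1) (hzw : ⁅a, b⁆ * ⁅c, d⁆ = ⁅c, d⁆ * ⁅a, b⁆) : ⁅a, b⁆ = ⁅c, d⁆ := by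
  have hT := BiChar.GTwo.isType
  have : Finite CoxeterMatrix.G₂.Group := Nodes.RGDChev.finite_W hT BiChar.TwDFour.cs
  have h2K : (2 : K) ≠ 0 := by
    have h3 : ringChar K ≠ 2 := by rw [ringChar.eq K p]; exact hp2
    exact Ring.two_ne_zero h3
  have R := Nodes.RGDChev.rgd (K := K) hT BiChar.TwDFour.cs p
  have hs : ∀ j : Fin 2, chevG2.simple j < chevG2.nroots := fun j => simple_lt hT.inList (lt_rank hT j)
  have hle : ∀ j : Fin 2, chevG2.rootSubgroup K (chevG2.simple j) ⊔ chevG2.rootSubgroup K (chevG2.neg (chevG2.simple j)) ≤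
      chevG2.group K := by
    intro j
    rw [← XV_sr hT, ← XV_neg_sr hT]
    exact sup_le (XV_le_group hT _) (XV_le_group hT _)
  let ψ : Fin 2 → (Matrix.SpecialLinearGroup (Fin 2) K →* ↥(chevG2.group K)) := fun j =>
    (psi hT.inList K (chevG2.simple j)).codRestrict (chevG2.group K) fun g => hle j (psi_mem hT.inList (hs j) g)
  have hψh : ∀ (j : Fin 2) (t : K), ((ψ j (hS t) : ↥(chevG2.group K)) : GL chevG2.Idx K) =
      hG hT.inList (chevG2.simple j) t := by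
    intro j t
    show psi hT.inList K (chevG2.simple j) (hS t) = _
    rw [psi_hS hT.inList (hs j)]
  have hψu : ∀ (j : Fin 2) (t : K), ((ψ j (up t) : ↥(chevG2.group K)) : GL chevG2.Idx K) =
      xG hT.inList (chevG2.simple j) t := fun j t => psi_up hT.inList (hs j) t
  have hψl : ∀ (j : Fin 2) (t : K), ((ψ j (lo t) : ↥(chevG2.group K)) : GL chevG2.Idx K) =
      xG hT.inList (chevG2.neg (chevG2.simple j)) t := fun j t => psi_lo hT.inList (hs j) t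
  have hψX : ∀ (j : Fin 2) (t : K), ψ j (up t) ∈ (XV chevG2 2 K (sr j)).subgroupOf (chevG2.group K) := by
    intro j t
    rw [Subgroup.mem_subgroupOf, hψu, XV_sr hT, mem_rootSubgroup_iff hT.inList]
    exact ⟨t, rfl⟩
  have hψX' : ∀ (j : Fin 2) (t : K), ψ j (lo t) ∈ (XV chevG2 2 K (-sr j)).subgroupOf (chevG2.group K) := by
    intro j t
    rw [Subgroup.mem_subgroupOf, hψl, XV_neg_sr hT, mem_rootSubgroup_iff hT.inList]
    exact ⟨t, rfl⟩
  have hr : ∀ i : Fin 2, (XV chevG2 2 K (sr i)).subgroupOf (chevG2.group K) ⊔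
      (XV chevG2 2 K (-sr i)).subgroupOf (chevG2.group K) ≤ (ψ i).range := by
    intro i
    rw [← Subgroup.subgroupOf_sup (XV_le_group hT _) (XV_le_group hT _), XV_sr hT, XV_neg_sr hT,
      ← range_psi hT (hs i)]
    intro g hg
    rw [Subgroup.mem_subgroupOf] at hg
    obtain ⟨x, hx⟩ := hg
    exact ⟨x, Subtype.ext hx⟩
  have hupi : ∀ (i : Fin 2) (s t : K), ψ i (up s) = ψ i (up t) → s = t := by
    intro i s t hst
    have h1 := congrArg (Subtype.val : ↥(chevG2.group K) → GL chevG2.Idx K) hst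
    rw [hψu, hψu] at h1
    exact xG_injective hT.inList (hs i) h1
  refine no_pair hp2 (Cfsg.Agent.KFacts.RgdFiltChev.filt (K := K) hT BiChar.TwDFour.cs p)
    (Nodes.RGDChev.G1_eq_top hT BiChar.TwDFour.cs) ?_ ?_ hE hE1 ha hb hc hd hz hz1 hw hw1 hzw
  · intro x hx y hy
    have hx' : (x : GL chevG2.Idx K) ∈ chevG2.diagonalSubgroup K := Subgroup.mem_subgroupOf.1 hx
    have hy' : (y : GL chevG2.Idx K) ∈ chevG2.diagonalSubgroup K := Subgroup.mem_subgroupOf.1 hy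
    obtain ⟨χ, hχ⟩ := HMatDiagAll.mem_torus.1 (HMatDiagAll.diagonalSubgroup_le_torus hT.inList hx')
    obtain ⟨ψ, hψ⟩ := HMatDiagAll.mem_torus.1 (HMatDiagAll.diagonalSubgroup_le_torus hT.inList hy')
    apply Subtype.ext
    apply Units.ext
    rw [Subgroup.coe_mul, Subgroup.coe_mul, Units.val_mul, Units.val_mul, hχ, hψ, Matrix.diagonal_mul_diagonal,
      Matrix.diagonal_mul_diagonal]
    congr 1
    funext i
    exact mul_comm _ _
  · intro i z hz w hw hz2 hz1 hw2 hw1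
    refine inv_unique h2K (ψ i) (hupi i) ?_ ?_ (hr i hz) (hr i hw) hz2 hz1 hw2 hw1
    · intro s t hst
      have h1 : ψ i (up t) ∈ (XV chevG2 2 K (sr i)).subgroupOf (chevG2.group K) ⊓
          (XV chevG2 2 K (-sr i)).subgroupOf (chevG2.group K) :=
        ⟨hψX i t, by rw [← hst]; exact hψX' i s⟩
      rw [X_inf_X R (isRoot_sr _ _ i) (isRoot_sr _ _ i).neg (fun h => by
        have h2 := congrFun h i
        rw [Pi.neg_apply, sr_self] at h2
        norm_num at h2), Subgroup.mem_bot] at h1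
      refine hupi i t 0 ?_
      rw [h1, up_zero, map_one]
    · -- `ψ i (-1) ≠ 1`
      intro h1
      rw [← hS_neg_one] at h1
      have e := hψh i (-1)
      rw [h1] at e
      have hne : (-1 : K) ≠ 0 := neg_ne_zero.2 one_ne_zero
      have hodd : ∀ k : ℤ, k % 2 = 1 → (-1 : K) ^ k = -1 := by
        intro k hk
        exact Odd.neg_one_zpow (Int.odd_iff.2 hk)
      have h3 := Cfsg.Agent.ETable.Exc.hG_xG hT.inList (lt_rank hT i) (hs (1 - i)) hne 1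
      have h4 : chevG2.cartan i (chevG2.simple ((1 - i : Fin 2) : ℕ)) % 2 = 1 := by
        fin_cases i
        · exact cartG2.1
        · exact cartG2.2
      rw [hodd _ h4, ← e] at h3
      change 1 * _ = _ * 1 at h3
      rw [one_mul, mul_one] at h3
      have h5 := xG_injective hT.inList (hs (1 - i)) h3
      exact h2K (by linear_combination h5)

/-- **`G₂(3^f)` does not contain `L₃(3) × Q₈`.** -/
theorem g2_no {K : Type} [Field K] [Fintype K] [CharP K 3] {F : Type} [Field F] [Fintype F]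
    (hF : Fintype.card F = 3)
    (A D : Subgroup ↥(Lie.chevG2.group K)) (hAD : ∀ a ∈ A, ∀ d ∈ D, a * d = d * a)
    (e : ↥A ≃* Matrix.ProjectiveSpecialLinearGroup (Fin 3) F) (f : ↥D ≃* QuaternionGroup 2) : False := by
  have h3 : (3 : F) = 0 := by
    have := FiniteField.cast_card_eq_zero F
    rw [hF] at this
    exact_mod_cast this
  exact no_l3 (fun E hE hE1 a ha b hb c hc d hd h1 h2 h3 h4 h5 =>
    g2_pair (p := 3) (by norm_num) E hE hE1 ha hb hc hd h1 h2 h3 h4 h5) h3 A D hAD e f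

end G2

end Cfsg.Agent.H953.TwDNo
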